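import Cfsg.Agent.H1.Hall
import Cfsg.Agent.H1.Coprime
import Cfsg.Agent.H2.Radical
import Cfsg.Agent.H8.PComplement

/-!
Wielandt's theorem on nilpotent Hall subgroups (for nilpotent subgroups).
-/

set_option autoImplicit false
set_option linter.style.haveILetI false

namespace Cfsg.Agent.H6

open Subgroup

variable {G : Type*} [Group G]

/-- Splitting a nilpotent subgroup into its `q`-part and its `q'`-part. -/
theorem exists_decomp_of_isNilpotent [Finite G] {H : Subgroup G} (hH : Group.IsNilpotent H)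
    {q : ℕ} (hq : q.Prime) :
    ∃ A B : Subgroup G, A ≤ H ∧ B ≤ H ∧ IsPGroup q A ∧ (Nat.card B).Coprime q ∧
      B ≤ centralizer (A : Set G) ∧ (∀ h ∈ H, ∃ a ∈ A, ∃ b ∈ B, a * b = h) ∧
      Nat.card A * Nat.card B = Nat.card H ∧
      normalizer (H : Set G) ≤ normalizer (A : Set G) ∧
      normalizer (H : Set G) ≤ normalizer (B : Set G) := by
  haveI := Fact.mk hq
  have h1 : pCoreOf q H ⊔ H2.pPrimeCoreOf q H = H := by
    refine le_antisymm (sup_le (H2.pCoreOf_le _ _) (H2.pPrimeCoreOf_le _ _)) ?_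
    have := H2.fittingOf_le_sup hq H
    rwa [H2.fittingOf_eq_self hH] at this
  have h2 : pCoreOf q H ≤ normalizer (H2.pPrimeCoreOf q H : Set G) :=
    (H2.pCoreOf_le _ _).trans (H2.le_normalizer_pPrimeCoreOf _ _)
  refine ⟨pCoreOf q H, H2.pPrimeCoreOf q H, H2.pCoreOf_le _ _, H2.pPrimeCoreOf_le _ _,
    H2.isPGroup_pCoreOf _ _, H2.coprime_card_pPrimeCoreOf _ _,
    H2.pPrimeCoreOf_le_centralizer_pCoreOf hq H, fun h hh => ?_, ?_,
    H2.normalizer_le_normalizer_pCoreOf _ _, H2.normalizer_le_normalizer_pPrimeCoreOf _ _⟩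
  · rw [← h1] at hh
    exact (H1.mem_sup_iff_of_le_normalizer h2).mp hh
  · rw [← H1.card_sup_of_coprime h2, h1]
    obtain ⟨k, hk⟩ := IsPGroup.iff_card.mp (H2.isPGroup_pCoreOf q H)
    rw [hk]
    exact (H2.coprime_card_pPrimeCoreOf q H).symm.pow_left _

theorem relIndex_mul_card_eq {A H : Subgroup G} (h : A ≤ H) :
    A.relIndex H * Nat.card A = Nat.card H := by
  rw [mul_comm, H1.card_mul_relIndex h]

/-- The two parts of a nilpotent Hall subgroup are Hall subgroups. -/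
theorem not_dvd_relIndex_of_decomp [Finite G] {A B H M : Subgroup G} (hAH : A ≤ H) (hHM : H ≤ M)
    (hc : Nat.card A * Nat.card B = Nat.card H) {r : ℕ} (hr : r.Prime) (h1 : ¬ r ∣ Nat.card B)
    (h2 : ¬ r ∣ H.relIndex M) : ¬ r ∣ A.relIndex M := by
  rw [← relIndex_mul_relIndex A H M hAH hHM]
  have : A.relIndex H = Nat.card B := by
    have h3 := H1.card_mul_relIndex hAH
    rw [← hc] at h3
    exact Nat.eq_of_mul_eq_mul_left Nat.card_pos h3
  rw [this]
  exact fun h => (hr.dvd_mul.mp h).elim h1 h2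

/-- **Wielandt**: a nilpotent `π`-subgroup is conjugate into a nilpotent Hall `π`-subgroup. -/
theorem exists_conj_mem_of_nilpotent_hall [Finite G] (U : Subgroup G) :
    ∀ {π : Set ℕ} {M H : Subgroup G}, IsPiHallOf π H M → Group.IsNilpotent H → U ≤ M →
      IsPiSubgroup π U → Group.IsNilpotent U → ∃ g ∈ M, ∀ u ∈ U, g * u * g⁻¹ ∈ H := by
  induction hn : Nat.card U using Nat.strong_induction_on generalizing U with
  | _ n ih =>
  intro π M H hH hHn hUM hU hUn
  by_cases hU1 : Nat.card U = 1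
  · refine ⟨1, M.one_mem, fun u hu => ?_⟩
    rw [Subgroup.card_eq_one.mp hU1, mem_bot] at hu
    simp [hu]
  obtain ⟨q, hq, hqU⟩ := Nat.exists_prime_and_dvd hU1
  haveI := Fact.mk hq
  obtain ⟨A, B, hAH, hBH, hA, hB, hBA, -, hcH, -, -⟩ := exists_decomp_of_isNilpotent hHn hq
  obtain ⟨A', B', hAU, hBU, hA', hB', hBA', hdU, hcU, -, -⟩ := exists_decomp_of_isNilpotent hUn hq
  have hAi : ¬ q ∣ A.relIndex M := not_dvd_relIndex_of_decomp hAH hH.1 hcH hq
    ((Nat.Prime.coprime_iff_not_dvd hq).mp hB.symm) (hH.2.2 q hq (hU q hq hqU))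
  obtain ⟨g, hgM, hg⟩ := H1.exists_conj_le_sylow hA hAi (hAU.trans hUM) hA'
  let C := M ⊓ centralizer ((A'.map (MulAut.conj g).toMonoidHom : Subgroup G) : Set G)
  have hBC : B ≤ C := le_inf (hBH.trans hH.1) (hBA.trans (centralizer_le hg))
  have hBM : IsPiHallOf (π \ {q}) B M := by
    refine ⟨hBH.trans hH.1, fun r hr hrB => ⟨hH.2.1 r hr (hrB.trans (card_dvd_of_le hBH)), ?_⟩,
      fun r hr hrπ => ?_⟩
    · rintro rfl
      exact (Nat.Prime.coprime_iff_not_dvd hr).mp hB.symm hrB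
    · refine not_dvd_relIndex_of_decomp (B := A) hBH hH.1 (by rw [mul_comm, hcH]) hr ?_
        (hH.2.2 r hr hrπ.1)
      obtain ⟨k, hk⟩ := IsPGroup.iff_card.mp hA
      rw [hk]
      exact fun h => hrπ.2 ((Nat.prime_dvd_prime_iff_eq hr hq).mp (hr.dvd_of_dvd_pow h))
  have hlt : Nat.card (B'.map (MulAut.conj g).toMonoidHom) < n := by
    rw [H1.card_map_conj, ← hn, ← hcU]
    have h1 : Nat.card A' ≠ 1 := by
      intro h
      rw [h, one_mul] at hcU
      exact (Nat.Prime.coprime_iff_not_dvd hq).mp hB'.symm (hcU ▸ hqU)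
    have h2 : 0 < Nat.card A' := Nat.card_pos
    have h3 : 0 < Nat.card B' := Nat.card_pos
    nlinarith [show 2 ≤ Nat.card A' by omega]
  haveI := hUn
  haveI := hHn
  haveI : Group.IsNilpotent B' := L.isNilpotent_of_le hBU
  obtain ⟨c, hc, hcB⟩ := ih _ hlt (B'.map (MulAut.conj g).toMonoidHom) rfl (π := π \ {q}) (M := C)
    (H := B) (H1.isPiHallOf_of_le hBM hBC inf_le_left) (L.isNilpotent_of_le hBH)
    (le_inf (H1.map_conj_le_of_mem (hBU.trans hUM) hgM) (by
      rw [H1.centralizer_map_conj]; exact map_mono hBA'))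
    (fun r hr hrB => by
      rw [H1.card_map_conj] at hrB
      refine ⟨hU r hr (hrB.trans (card_dvd_of_le hBU)), ?_⟩
      rintro rfl
      exact (Nat.Prime.coprime_iff_not_dvd hr).mp hB'.symm hrB)
    (L.isNilpotent_map _ _)
  refine ⟨c * g, M.mul_mem hc.1 hgM, fun u hu => ?_⟩
  obtain ⟨a, ha, b, hb, rfl⟩ := hdU u hu
  have ha1 : g * a * g⁻¹ ∈ A'.map (MulAut.conj g).toMonoidHom := ⟨a, ha, rfl⟩
  have h1 : c * g * (a * b) * (c * g)⁻¹ = (g * a * g⁻¹) * (c * (g * b * g⁻¹) * c⁻¹) := by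
    calc c * g * (a * b) * (c * g)⁻¹ = (c * (g * a * g⁻¹)) * (g * b * g⁻¹) * c⁻¹ := by group
      _ = _ := by rw [← hc.2 _ ha1]; group
  rw [h1]
  exact H.mul_mem (hAH (hg ha1)) (hBH (hcB _ ⟨b, hb, rfl⟩))

/-- Elements of `π`-order are conjugate into a nilpotent Hall `π`-subgroup. -/
theorem exists_conj_elem_mem_of_nilpotent_hall [Finite G] {π : Set ℕ} {M H : Subgroup G}
    (hH : IsPiHallOf π H M) (hHn : Group.IsNilpotent H) {x : G} (hxM : x ∈ M)
    (hx : L.IsPiNum π (orderOf x)) : ∃ g ∈ M, g * x * g⁻¹ ∈ H := by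
  obtain ⟨g, hg, h⟩ := exists_conj_mem_of_nilpotent_hall (zpowers x) hH hHn
    ((zpowers_le).mpr hxM) (by rwa [L.isPiSubgroup_iff_isPiNum, Nat.card_zpowers])
    (L.isNilpotent_of_isMulCommutative _)
  exact ⟨g, hg, h x (mem_zpowers x)⟩

/-- Nilpotent Hall `π`-subgroups are conjugate. -/
theorem exists_conj_eq_of_nilpotent_hall [Finite G] {π : Set ℕ} {M H K : Subgroup G}
    (hH : IsPiHallOf π H M) (hHn : Group.IsNilpotent H) (hK : IsPiHallOf π K M)
    (hKn : Group.IsNilpotent K) : ∃ g ∈ M, K.map (MulAut.conj g).toMonoidHom = H := by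
  obtain ⟨g, hg, h⟩ := exists_conj_mem_of_nilpotent_hall K hH hHn hK.1 hK.2.1 hKn
  refine ⟨g, hg, H1.eq_of_le_of_card_le (H1.map_conj_le_iff.mpr h) ?_⟩
  rw [H1.card_map_conj, H1.card_eq_of_isPiHallOf hH hK]

/-- Fixed points of a coprime action on an invariant nilpotent Hall subgroup. -/
theorem isPiHallOf_inf_centralizer_of_nilpotent [Finite G] {π : Set ℕ} {A K B : Subgroup G}
    (hAK : A ≤ normalizer (K : Set G)) (hcop : (Nat.card A).Coprime (Nat.card K))
    (hsol : Group.IsSolvable A ∨ Group.IsSolvable K) (hB : IsPiHallOf π B K)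
    (hBn : Group.IsNilpotent B) (hAB : A ≤ normalizer (B : Set G)) :
    IsPiHallOf π (B ⊓ centralizer (A : Set G)) (K ⊓ centralizer (A : Set G)) := by
  refine ⟨inf_le_inf_right _ hB.1, fun r hr h => hB.2.1 r hr (h.trans (card_dvd_of_le inf_le_left)),
    fun r hr hrπ h => ?_⟩
  haveI := Fact.mk hr
  obtain ⟨R, S, hRB, -, hR, hS, -, -, hc, hN, -⟩ := exists_decomp_of_isNilpotent hBn hr
  have h1 := H1.not_dvd_relIndex_centralizer_of_invariant_sylow hAK hcop hsol (hRB.trans hB.1) hR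
    (not_dvd_relIndex_of_decomp hRB hB.1 hc hr ((Nat.Prime.coprime_iff_not_dvd hr).mp hS.symm)
      (hB.2.2 r hr hrπ)) (hAB.trans hN)
  exact h1 (h.trans (relIndex_dvd_of_le_left _ (inf_le_inf_right _ hRB)))

end Cfsg.Agent.H6
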