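import Cfsg.Agent.L.PiSep
import Cfsg.Agent.H9.ClassSize
import Cfsg.Agent.H7.ClassNum
import Cfsg.Agent.H7.ClassAux
import Cfsg.Agent.H3.ClassCount

/-! `π`-parts of elements; conjugation orbits under a subgroup; counting `π`-classes. -/

set_option autoImplicit false
set_option linter.style.haveILetI false

namespace Cfsg.Agent.H6

open Subgroup

variable {G : Type*} [Group G]

theorem exists_eq_mul_isPiNum (π : Set ℕ) {n : ℕ} (hn : n ≠ 0) :
    ∃ m k, n = m * k ∧ L.IsPiNum π m ∧ L.IsPiNum πᶜ k := by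
  induction n using Nat.recOnMul with
  | zero => exact absurd rfl hn
  | one => exact ⟨1, 1, rfl, L.isPiNum_one _, L.isPiNum_one _⟩
  | prime p hp =>
    by_cases h : p ∈ π
    · exact ⟨p, 1, (mul_one p).symm,
        fun q hq hd => ((Nat.prime_dvd_prime_iff_eq hq hp).1 hd) ▸ h, L.isPiNum_one _⟩
    · exact ⟨1, p, (one_mul p).symm, L.isPiNum_one _,
        fun q hq hd => ((Nat.prime_dvd_prime_iff_eq hq hp).1 hd) ▸ h⟩
  | mul a b ha hb =>
    obtain ⟨m, k, rfl, h1, h2⟩ := ha (left_ne_zero_of_mul hn)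
    obtain ⟨m', k', rfl, h3, h4⟩ := hb (right_ne_zero_of_mul hn)
    exact ⟨m * m', k * k', by ring, h1.mul h3, h2.mul h4⟩

theorem exists_mul_eq_of_coprime [Finite G] {g : G} {m k : ℕ} (h : orderOf g ∣ m * k)
    (hc : m.Coprime k) : ∃ a b : G, a ∈ zpowers g ∧ b ∈ zpowers g ∧ g = a * b ∧ Commute a b ∧
      orderOf a ∣ m ∧ orderOf b ∣ k := by
  have h1 : g ^ ((m * k : ℕ) : ℤ) = 1 := by
    rw [zpow_natCast]; exact orderOf_dvd_iff_pow_eq_one.1 h
  obtain ⟨u, v, huv⟩ : ∃ u v : ℤ, u * m + v * k = 1 := Nat.isCoprime_iff_coprime.2 hc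
  refine ⟨g ^ (v * k), g ^ (u * m), zpow_mem_zpowers _ _, zpow_mem_zpowers _ _, ?_,
    (Commute.refl g).zpow_zpow _ _, ?_, ?_⟩
  · rw [← zpow_add, add_comm, huv, zpow_one]
  · rw [orderOf_dvd_iff_pow_eq_one, ← zpow_natCast, ← zpow_mul,
      show v * k * m = ((m * k : ℕ) : ℤ) * v by push_cast; ring, zpow_mul, h1, one_zpow]
  · rw [orderOf_dvd_iff_pow_eq_one, ← zpow_natCast, ← zpow_mul,
      show u * m * k = ((m * k : ℕ) : ℤ) * u by push_cast; ring, zpow_mul, h1, one_zpow]

/-- Every element is the commuting product of a `π`-element and a `π'`-element. -/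
theorem exists_piPart [Finite G] (π : Set ℕ) (g : G) :
    ∃ a b : G, a ∈ zpowers g ∧ b ∈ zpowers g ∧ g = a * b ∧ Commute a b ∧
      L.IsPiNum π (orderOf a) ∧ L.IsPiNum πᶜ (orderOf b) := by
  obtain ⟨m, k, h, hm, hk⟩ := exists_eq_mul_isPiNum π (orderOf_pos g).ne'
  obtain ⟨a, b, ha, hb, h1, h2, h3, h4⟩ := exists_mul_eq_of_coprime h.dvd (hm.coprime hk)
  exact ⟨a, b, ha, hb, h1, h2, hm.of_dvd h3, hk.of_dvd h4⟩

theorem commute_of_mem_zpowers {g a b : G} (ha : a ∈ zpowers g) (hb : b ∈ zpowers g) :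
    Commute a b := by
  obtain ⟨i, rfl⟩ := ha
  obtain ⟨j, rfl⟩ := hb
  exact (Commute.refl g).zpow_zpow _ _

theorem piPart_unique {π : Set ℕ} {a b a' b' : G} (hab : Commute a b) (hab' : Commute a' b')
    (h : a * b = a' * b') (ha : L.IsPiNum π (orderOf a)) (hb : L.IsPiNum πᶜ (orderOf b))
    (ha' : L.IsPiNum π (orderOf a')) (hb' : L.IsPiNum πᶜ (orderOf b')) : a = a' ∧ b = b' := by
  have h1 := H9.mem_zpowers_mul_of_coprime hab (ha.coprime hb)
  have h2 := H9.mem_zpowers_mul_of_coprime' hab (ha.coprime hb)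
  have h3 := H9.mem_zpowers_mul_of_coprime hab' (ha'.coprime hb')
  have h4 := H9.mem_zpowers_mul_of_coprime' hab' (ha'.coprime hb')
  rw [← h] at h3 h4
  have h5 : a'⁻¹ * a = b' * b⁻¹ := by
    calc a'⁻¹ * a = a'⁻¹ * (a * b) * b⁻¹ := by group
      _ = _ := by rw [h]; group
  have h6 : L.IsPiNum π (orderOf (a'⁻¹ * a)) :=
    (ha'.mul ha).of_dvd (by
      have := (commute_of_mem_zpowers h3 h1).inv_left.orderOf_mul_dvd_mul_orderOf
      rwa [orderOf_inv] at this)
  have h7 : L.IsPiNum πᶜ (orderOf (a'⁻¹ * a)) := by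
    rw [h5]
    exact (hb'.mul hb).of_dvd (by
      have := (commute_of_mem_zpowers h4 h2).inv_right.orderOf_mul_dvd_mul_orderOf
      rwa [orderOf_inv] at this)
  have h8 : a'⁻¹ * a = 1 := by
    rw [← orderOf_eq_one_iff]
    exact Nat.coprime_self _ |>.1 (h6.coprime h7)
  refine ⟨(inv_mul_eq_one.1 h8).symm, ?_⟩
  rw [h5] at h8
  exact (mul_inv_eq_one.1 h8).symm

/-- The orbit of `x` under conjugation by a subgroup `N`. -/
theorem ncard_conj_orbit (N : Subgroup G) (x : G) :
    {g : G | ∃ n ∈ N, n * x * n⁻¹ = g}.ncard = (centralizer ({x} : Set G)).relIndex N := by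
  letI : MulAction N G := MulAction.compHom G (MulAut.conj.comp N.subtype)
  have h1 := MulAction.index_stabilizer N x
  have h2 : MulAction.stabilizer N x = (centralizer ({x} : Set G)).subgroupOf N := by
    ext n
    rw [MulAction.mem_stabilizer_iff, mem_subgroupOf, mem_centralizer_singleton_iff]
    change (n : G) * x * (n : G)⁻¹ = x ↔ _
    rw [mul_inv_eq_iff_eq_mul]
  rw [relIndex, ← h2, h1]
  congr 1
  ext g
  constructor
  · rintro ⟨n, hn, rfl⟩
    exact ⟨⟨n, hn⟩, rfl⟩
  · rintro ⟨n, rfl⟩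
    exact ⟨n, n.2, rfl⟩

open Classical in
/-- `k_Q(G) |G| = ∑_{x ∈ Q} |C(x)|` for a property depending only on the order. -/
theorem kcl_mul_card [Fintype G] (Q : ℕ → Prop) :
    H3.kcl (fun x : G => Q (orderOf x)) * Nat.card G =
      ∑ x ∈ Finset.univ.filter (fun x : G => Q (orderOf x)),
        Nat.card (centralizer ({x} : Set G)) := by
  rw [H3.kcl_eq_card_image (Finset.univ.filter (fun x : G => Q (orderOf x)))
    (fun x hx y hxy => by
      rw [← H3.orderOf_eq_of_isConj hxy]; exact (Finset.mem_filter.1 hx).2)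
    (fun x hx => ⟨x, Finset.mem_filter.2 ⟨Finset.mem_univ _, hx⟩, IsConj.refl x⟩)]
  rw [← Finset.sum_fiberwise_of_maps_to (g := ConjClasses.mk)
    (t := (Finset.univ.filter (fun x : G => Q (orderOf x))).image ConjClasses.mk)
    (fun x hx => Finset.mem_image_of_mem _ hx), Finset.card_eq_sum_ones, Finset.sum_mul, one_mul]
  refine Finset.sum_congr rfl fun c hc => ?_
  obtain ⟨x, hx, rfl⟩ := Finset.mem_image.1 hc
  have hx' := (Finset.mem_filter.1 hx).2
  rw [Finset.sum_congr rfl (g := fun _ => Nat.card (centralizer ({x} : Set G)))]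
  · rw [Finset.sum_const, smul_eq_mul, ← (centralizer ({x} : Set G)).index_mul_card,
      ← H7.card_carrier_eq_index, ← Nat.card_eq_finsetCard]
    congr 1
    refine Nat.card_congr (Equiv.subtypeEquivRight fun y => ?_)
    simp only [Finset.mem_filter, Finset.mem_univ, true_and, ConjClasses.mem_carrier_iff_mk_eq]
    refine ⟨fun h => ⟨?_, h⟩, fun h => h.2⟩
    rw [H3.orderOf_eq_of_isConj (ConjClasses.mk_eq_mk_iff_isConj.1 h)]
    exact hx'
  · intro y hy
    have h1 := ConjClasses.mk_eq_mk_iff_isConj.1 (Finset.mem_filter.1 hy).2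
    obtain ⟨c, rfl⟩ := isConj_iff.1 h1
    have h2 := H9.index_centralizer_conj c y
    have h3 := (centralizer ({y} : Set G)).index_mul_card
    have h4 := (centralizer ({c * y * c⁻¹} : Set G)).index_mul_card
    rw [h2, ← h3] at h4
    exact (Nat.eq_of_mul_eq_mul_left (Nat.pos_of_ne_zero index_ne_zero_of_finite) h4).symm

theorem card_kpi_eq (π : Set ℕ) (G : Type*) [Group G] :
    Nat.card {C : ConjClasses G // ∀ q : ℕ, q.Prime →
      (∃ g : G, ConjClasses.mk g = C ∧ q ∣ orderOf g) → q ∈ π} = H3.kpi π G := by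
  refine Nat.card_congr (Equiv.subtypeEquivRight fun c => ?_)
  constructor
  · intro h x hx r hr hd
    rw [ConjClasses.mem_carrier_iff_mk_eq] at hx
    exact h r hr ⟨x, hx, hd⟩
  · rintro h q hq ⟨g, hg, hd⟩
    exact h g (ConjClasses.mem_carrier_iff_mk_eq.mpr hg) q hq hd

open Classical in
theorem kpi_subgroup_mul_card [Fintype G] (π : Set ℕ) (N : Subgroup G) :
    H3.kpi π N * Nat.card N =
      ∑ m ∈ Finset.univ.filter (fun m : G => m ∈ N ∧ L.IsPiNum π (orderOf m)),
        Nat.card (N ⊓ centralizer ({m} : Set G) : Subgroup G) := by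
  have h := kcl_mul_card (G := N) (L.IsPiNum π)
  refine Eq.trans h ?_
  refine Finset.sum_bij (fun a _ => (a : G)) ?_ ?_ ?_ ?_
  · intro a ha
    simp only [Finset.mem_filter, Finset.mem_univ, true_and] at ha ⊢
    exact ⟨a.2, by rwa [Subgroup.orderOf_coe]⟩
  · intro a _ b _ h
    exact Subtype.ext h
  · intro b hb
    simp only [Finset.mem_filter, Finset.mem_univ, true_and] at hb ⊢
    exact ⟨⟨b, hb.1⟩, by rw [← Subgroup.orderOf_coe]; exact hb.2, rfl⟩
  · intro a _
    exact Nat.card_congr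
      { toFun := fun b => ⟨b.1.1, b.1.2, mem_centralizer_singleton_iff.2
          (congrArg Subtype.val (mem_centralizer_singleton_iff.1 b.2))⟩
        invFun := fun b => ⟨⟨b.1, b.2.1⟩, mem_centralizer_singleton_iff.2
          (Subtype.ext (mem_centralizer_singleton_iff.1 b.2.2))⟩
        left_inv := fun _ => rfl
        right_inv := fun _ => rfl }

/-- `k_π(G) ≤ k_π(N) k_π(G/N)`. -/
theorem kpi_le_mul_quot [Finite G] (π : Set ℕ) (N : Subgroup G) [N.Normal] :
    H3.kpi π G ≤ H3.kpi π N * H3.kpi π (G ⧸ N) := by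
  classical
  have := Fintype.ofFinite G
  have := Fintype.ofFinite (G ⧸ N)
  have h1 := kpi_subgroup_mul_card π N
  have h2 : H3.kpi π G * _ = _ := kcl_mul_card (G := G) (L.IsPiNum π)
  have h3 : H3.kpi π (G ⧸ N) * _ = _ := kcl_mul_card (G := G ⧸ N) (L.IsPiNum π)
  choose a b ha hb hab hc hπa hπb using exists_piPart (G := G) π
  have key : ∀ q : G ⧸ N,
      ∑ x ∈ (Finset.univ.filter (fun x : G => L.IsPiNum π (orderOf x))).filter
        (fun x : G => (x : G ⧸ N) = q),
      Nat.card (N ⊓ centralizer {x} : Subgroup G) ≤ H3.kpi π N * Nat.card N := by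
    intro q
    rw [h1]
    have h5 : ∑ x ∈ (Finset.univ.filter (fun x : G => L.IsPiNum π (orderOf x))).filter
        (fun x : G => (x : G ⧸ N) = q), Nat.card (N ⊓ centralizer {x} : Subgroup G) ≤
        ∑ m ∈ Finset.univ.filter (fun m : G => m ∈ N ∧ L.IsPiNum π (orderOf m)),
          ((Finset.univ.filter (fun x : G => (x : G ⧸ N) = q)).filter
            (fun y => Commute m y)).card := by
      simp only [H7.card_inf_centralizer_eq_filter]
      rw [← Finset.card_sigma, ← Finset.card_sigma]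
      refine Finset.card_le_card_of_injOn (fun z => ⟨a z.2, z.1 * b z.2⟩) ?_ ?_
      · rintro ⟨x, n⟩ hz
        simp only [Finset.coe_sigma, Set.mem_sigma_iff, Finset.coe_filter, Finset.mem_filter,
          Finset.mem_univ, true_and, Set.mem_ofPred_eq] at hz ⊢
        obtain ⟨⟨hx1, hx2⟩, hn1, hn2⟩ := hz
        have haN : a n ∈ N := (zpowers_le.2 hn1) (ha n)
        have hbN : b n ∈ N := (zpowers_le.2 hn1) (hb n)
        refine ⟨⟨haN, hπa n⟩, ?_, ?_⟩
        · rw [QuotientGroup.mk_mul_of_mem _ hbN, hx2]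
        · refine Commute.mul_right ?_ (hc n)
          obtain ⟨i, hi⟩ := ha n
          rw [← hi]
          exact hn2.symm.zpow_left i
      · rintro ⟨x, n⟩ hz ⟨x', n'⟩ hz' h
        simp only [Finset.coe_sigma, Set.mem_sigma_iff, Finset.coe_filter, Finset.mem_filter,
          Finset.mem_univ, true_and, Set.mem_ofPred_eq] at hz hz'
        simp only [Sigma.mk.injEq, heq_eq_eq] at h ⊢
        have hxb : ∀ {x n : G}, Commute x n → Commute x (b n) := fun {x n} h => by
          obtain ⟨i, hi⟩ := hb n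
          rw [← hi]
          exact h.zpow_right i
        obtain ⟨e1, e2⟩ := piPart_unique (hxb hz.2.2) (hxb hz'.2.2) h.2 hz.1.1 (hπb n) hz'.1.1
          (hπb n')
        exact ⟨e1, by rw [hab n, hab n', h.1, e2]⟩
    refine h5.trans (Finset.sum_le_sum fun n hn => ?_)
    rw [H7.card_inf_centralizer_eq_filter]
    by_cases hne : ((Finset.univ.filter (fun x : G => (x : G ⧸ N) = q)).filter
        (fun a => Commute n a)).Nonempty
    · obtain ⟨a, ha⟩ := hne
      simp only [Finset.mem_filter, Finset.mem_univ, true_and] at ha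
      refine Finset.card_le_card_of_injOn (fun b => a⁻¹ * b) ?_ ?_
      · intro b hb
        simp only [Finset.coe_filter, Finset.mem_filter, Finset.mem_univ, true_and,
          Set.mem_ofPred_eq] at hb ⊢
        exact ⟨QuotientGroup.eq.1 (ha.1.trans hb.1.symm), ha.2.inv_right.mul_right hb.2⟩
      · intro b _ c _ h
        simpa using h
    · rw [Finset.not_nonempty_iff_eq_empty] at hne
      rw [hne]; simp
  have h4 : H3.kpi π G * Nat.card G ≤
      (H3.kpi π (G ⧸ N) * Nat.card (G ⧸ N)) * (H3.kpi π N * Nat.card N) := by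
    rw [h2, h3, Finset.sum_mul, ← Finset.sum_fiberwise_of_maps_to (g := fun x : G => (x : G ⧸ N))
      (t := Finset.univ.filter (fun x : G ⧸ N => L.IsPiNum π (orderOf x)))]
    · refine Finset.sum_le_sum fun q _ => ?_
      calc _ ≤ ∑ x ∈ (Finset.univ.filter (fun x : G => L.IsPiNum π (orderOf x))).filter
            (fun x : G => (x : G ⧸ N) = q), Nat.card (centralizer {q} : Subgroup (G ⧸ N)) *
              Nat.card (N ⊓ centralizer {x} : Subgroup G) := by
            refine Finset.sum_le_sum fun x hx => ?_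
            rw [← (Finset.mem_filter.1 hx).2]
            exact H7.card_centralizer_le_quot N x
        _ ≤ _ := by
            rw [← Finset.mul_sum]
            exact Nat.mul_le_mul_left _ (key q)
    · intro x hx
      simp only [Finset.mem_filter, Finset.mem_univ, true_and] at hx ⊢
      exact hx.of_dvd (orderOf_map_dvd (QuotientGroup.mk' N) x)
  rw [card_eq_card_quotient_mul_card_subgroup N] at h4
  have hpos : 0 < Nat.card (G ⧸ N) * Nat.card N := Nat.mul_pos Nat.card_pos Nat.card_pos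
  refine Nat.le_of_mul_le_mul_right ?_ hpos
  calc _ ≤ _ := h4
    _ = _ := by ring

end Cfsg.Agent.H6
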