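import Cfsg.Agent.H1.Abelian
import Cfsg.Agent.H1.Generation
import Cfsg.Agent.H1.Coprime
import Cfsg.Agent.L.Fitting

/-!
Coprime action on groups with cyclic Sylow subgroups.
-/

set_option autoImplicit false
set_option linter.style.haveILetI false

namespace Cfsg.Agent.H6

open Subgroup
open scoped commutatorElement

variable {X : Type*} [Group X]

/-- In a cyclic subgroup an element lies in every subgroup of order divisible by its order. -/
theorem mem_zpowers_of_orderOf_dvd [Finite X] {P : Subgroup X} [IsCyclic P] {x y : X} (hx : x ∈ P)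
    (hy : y ∈ P) (h : orderOf x ∣ orderOf y) : x ∈ zpowers y := by
  letI : CommGroup P := IsCyclic.commGroup
  have h1 : zpowers (⟨y, hy⟩ : P) ≤ (powMonoidHom (orderOf y) : P →* P).ker := by
    rw [zpowers_le, MonoidHom.mem_ker, powMonoidHom_apply]
    exact Subtype.ext (pow_orderOf_eq_one y)
  have h2 := H1.eq_of_le_of_card_le h1 (by
    rw [IsCyclic.card_powMonoidHom_ker, Nat.card_zpowers, Subgroup.orderOf_mk]
    exact Nat.gcd_le_right _ (orderOf_pos y))
  have h3 : (⟨x, hx⟩ : P) ∈ zpowers (⟨y, hy⟩ : P) := by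
    rw [h2, MonoidHom.mem_ker, powMonoidHom_apply]
    exact Subtype.ext (orderOf_dvd_iff_pow_eq_one.mp h)
  obtain ⟨k, hk⟩ := mem_zpowers_iff.mp h3
  exact mem_zpowers_iff.mpr ⟨k, congrArg Subtype.val hk⟩

/-- The automizer of a cyclic subgroup is abelian. -/
theorem commutatorElement_mem_centralizer_of_isCyclic {D : Subgroup X} [hD : IsCyclic D] {x y : X}
    (hx : x ∈ normalizer (D : Set X)) (hy : y ∈ normalizer (D : Set X)) :
    ⁅x, y⁆ ∈ centralizer (D : Set X) := by
  obtain ⟨d, hd⟩ := (Subgroup.isCyclic_iff_exists_zpowers_eq_top D).mp hD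
  subst hd
  rw [zpowers_eq_closure, centralizer_closure, mem_centralizer_singleton_iff]
  obtain ⟨a, ha⟩ := mem_zpowers_iff.mp ((mem_normalizer_iff''.mp hx d).mp (mem_zpowers d))
  obtain ⟨b, hb⟩ := mem_zpowers_iff.mp ((mem_normalizer_iff''.mp hy d).mp (mem_zpowers d))
  have h1 : ∀ (u v : X) (a b : ℤ), d ^ a = u⁻¹ * d * u → d ^ b = v⁻¹ * d * v →
      (u * v)⁻¹ * d * (u * v) = d ^ (a * b) := by
    intro u v a b ha hb
    have h2 : v⁻¹ * d ^ a * v = (v⁻¹ * d * v) ^ a := by
      simpa using (conj_zpow (a := v⁻¹) (b := d) (i := a)).symm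
    calc (u * v)⁻¹ * d * (u * v) = v⁻¹ * (u⁻¹ * d * u) * v := by group
      _ = d ^ (a * b) := by rw [← ha, h2, ← hb, ← zpow_mul, mul_comm]
  have h2 := h1 x y a b ha hb
  rw [mul_comm a b, ← h1 y x b a hb ha] at h2
  calc ⁅x, y⁆ * d = (x * y) * ((y * x)⁻¹ * d * (y * x)) * (y * x)⁻¹ := by
        rw [commutatorElement_def]; group
    _ = d * ⁅x, y⁆ := by rw [← h2, commutatorElement_def]; group

theorem commutator_le_centralizer_of_isCyclic {D A B : Subgroup X} [IsCyclic D]
    (hA : A ≤ normalizer (D : Set X)) (hB : B ≤ normalizer (D : Set X)) :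
    ⁅A, B⁆ ≤ centralizer (D : Set X) :=
  commutator_le.mpr fun _ ha _ hb => commutatorElement_mem_centralizer_of_isCyclic (hA ha) (hB hb)

/-- In a group with cyclic Sylow subgroups the centralizer of the derived subgroup is cyclic. -/
theorem isCyclic_centralizer_commutator (G : Type*) [Group G] [Finite G] [IsZGroup G] :
    IsCyclic (centralizer (commutator G : Set G)) := by
  haveI : IsMulCommutative (centralizer (commutator G : Set G)) := by
    refine MonoidHom.isMulCommutative_of_isCyclic_of_ker_le_center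
      (Abelianization.of.comp (centralizer (commutator G : Set G)).subtype) fun x hx => ?_
    have hx' : (x : G) ∈ commutator G := (Abelianization.ker_of G).le hx
    rw [mem_center_iff]
    exact fun g => Subtype.ext (g.2 x hx').symm
  haveI := L.isNilpotent_of_isMulCommutative (centralizer (commutator G : Set G))
  infer_instance

theorem isCyclic_commutator_of_isZGroup [Finite X] {A H : Subgroup X} [IsZGroup H]
    (hAH : A ≤ normalizer (H : Set X)) : IsCyclic (⁅H, A⁆ : Subgroup X) := by
  have h1 : (commutator H).map H.subtype = ⁅H, H⁆ := by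
    rw [commutator_def, map_commutator, ← MonoidHom.range_eq_map, range_subtype]
  haveI : IsCyclic (⁅H, H⁆ : Subgroup X) := by
    rw [← h1]
    haveI := IsZGroup.isCyclic_commutator H
    exact isCyclic_of_surjective _ ((commutator H).equivMapOfInjective _
      H.subtype_injective).surjective
  have h2 : ⁅H, A⁆ ≤ centralizer ((⁅H, H⁆ : Subgroup X) : Set X) :=
    commutator_le_centralizer_of_isCyclic (H1.le_normalizer_commutator le_normalizer le_normalizer)
      (H1.le_normalizer_commutator hAH hAH)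
  have h3 := H1.commutator_le_of_le_normalizer hAH
  haveI := isCyclic_centralizer_commutator H
  let f : (⁅H, A⁆ : Subgroup X) →* centralizer (commutator H : Set H) :=
    (inclusion h3).codRestrict _ fun x y hy =>
      Subtype.ext (h2 x.2 y (h1 ▸ mem_map_of_mem H.subtype hy))
  refine isCyclic_of_injective f fun a b hab => ?_
  exact inclusion_injective h3 (congrArg Subtype.val hab)

theorem centralizer_inf_commutator_eq_bot_of_isZGroup [Finite X] {A H : Subgroup X} [IsZGroup H]
    (hAH : A ≤ normalizer (H : Set X)) (hcop : (Nat.card A).Coprime (Nat.card H)) :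
    centralizer (A : Set X) ⊓ ⁅H, A⁆ = ⊥ := by
  haveI := isCyclic_commutator_of_isZGroup hAH
  have := H1.centralizer_inf_commutator_eq_bot (A := A) (V := ⁅H, A⁆) inferInstance
    H1.le_normalizer_commutator_self
    (H1.coprime_of_le hcop le_rfl (H1.commutator_le_of_le_normalizer hAH))
  rwa [H1.commutator_commutator_eq hAH hcop] at this

theorem card_commutator_mul_card_of_isZGroup [Finite X] {A H : Subgroup X} [IsZGroup H]
    (hAH : A ≤ normalizer (H : Set X)) (hcop : (Nat.card A).Coprime (Nat.card H)) :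
    Nat.card (H ⊓ centralizer (A : Set X) : Subgroup X) * Nat.card (⁅H, A⁆ : Subgroup X) =
      Nat.card H := by
  rw [← H1.card_sup_of_inf_eq_bot (inf_le_left.trans (normalizer_commutator_ge_left H A)),
    sup_comm, H1.commutator_sup_centralizer hAH hcop (Or.inr inferInstance)]
  rw [eq_bot_iff, ← centralizer_inf_commutator_eq_bot_of_isZGroup hAH hcop]
  exact inf_le_inf_right _ inf_le_right

theorem coprime_centralizer_commutator_of_isZGroup [Finite X] {A H : Subgroup X} [IsZGroup H]
    (hAH : A ≤ normalizer (H : Set X)) (hcop : (Nat.card A).Coprime (Nat.card H)) :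
    (Nat.card (H ⊓ centralizer (A : Set X) : Subgroup X)).Coprime
      (Nat.card (⁅H, A⁆ : Subgroup X)) := by
  refine Nat.coprime_of_dvd fun p hp h1 h2 => ?_
  haveI := Fact.mk hp
  obtain ⟨⟨c, hc⟩, hc'⟩ := exists_prime_orderOf_dvd_card' p h1
  obtain ⟨⟨d, hd⟩, hd'⟩ := exists_prime_orderOf_dvd_card' p h2
  rw [Subgroup.orderOf_mk] at hc' hd'
  have hpz : ∀ x : X, orderOf x = p → IsPGroup p (zpowers x) := fun x hx =>
    IsPGroup.of_card (n := 1) (by rw [Nat.card_zpowers, hx, pow_one])
  obtain ⟨P, hcP, hPH, hP, hPi⟩ := H1.exists_sylow_of_le (zpowers_le.mpr hc.1) (hpz c hc')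
  haveI : IsCyclic P := by
    haveI : IsZGroup P := IsZGroup.of_injective (inclusion_injective hPH)
    exact isCyclic_of_surjective _ topEquiv.surjective
      (hH := (hP.of_equiv topEquiv.symm).isCyclic_of_isZGroup)
  obtain ⟨h, hh, hdP⟩ := H1.exists_conj_le_sylow hP hPi
    (zpowers_le.mpr (H1.commutator_le_of_le_normalizer hAH hd)) (hpz d hd')
  have h3 : h * d * h⁻¹ ∈ P := H1.map_conj_le_iff.mp hdP d (mem_zpowers d)
  have h4 : h * d * h⁻¹ ∈ ⁅H, A⁆ :=
    H1.conj_mem_of_le_normalizer (normalizer_commutator_ge_left H A) hh hd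
  have h5 : c ∈ zpowers (h * d * h⁻¹) := mem_zpowers_of_orderOf_dvd (hcP (mem_zpowers c)) h3
    (by rw [hc', ← hd']; exact ((MulAut.conj h).orderOf_eq d).symm.dvd)
  have h6 : c ∈ centralizer (A : Set X) ⊓ ⁅H, A⁆ := ⟨hc.2, zpowers_le.mpr h4 h5⟩
  rw [centralizer_inf_commutator_eq_bot_of_isZGroup hAH hcop, mem_bot] at h6
  rw [h6, orderOf_one] at hc'
  exact hp.one_lt.ne hc'

end Cfsg.Agent.H6
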