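import Cfsg.Agent.H6.JordanCycle
import Cfsg.Agent.H6.CharOrth

/-!
Subgroups of alternating groups generated by two elements of large prime orders.
-/

set_option autoImplicit false
set_option linter.style.haveILetI false

namespace Cfsg.Agent.H6

open Subgroup Equiv Equiv.Perm MulAction

theorem false_of_self_normalizing {M : Type*} [Group M] [Finite M] {x : M} {p : ℕ} (hp : p.Prime)
    (hx : orderOf x = p) (hp2 : p ≠ 2) (hp3 : p ≠ 3)
    (hN : normalizer (zpowers x : Set M) ≤ zpowers x) (h6 : 6 ∣ Nat.card M)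
    (hK : ∀ K : Subgroup M, K.Normal → (Nat.card K).Coprime p → Nat.card K < 2 * p) : False := by
  haveI := Fact.mk hp
  haveI := Fact.mk Nat.prime_two
  haveI := Fact.mk Nat.prime_three
  letI := Fintype.ofFinite M
  have hP : IsPGroup p (zpowers x) :=
    H8.isPGroup_zpowers_of_orderOf (k := 1) (by rw [hx, pow_one])
  have hPi : ¬ p ∣ (zpowers x).index := by
    rw [← relIndex_top_right]
    refine H1.not_dvd_relIndex_of_normalizer le_top hP ?_
    rw [top_inf_eq, relIndex_eq_one.mpr hN]
    exact hp.not_dvd_one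
  obtain ⟨K, hKn, hK1, k, hK2⟩ := H8.hasNPC_iff_exists.mp
    (H8.hasNPC_of_normalizer_le_centralizer (hP.toSylow hPi) (hN.trans (le_centralizer _)))
  have key : ∀ (r : ℕ) (u : M), r.Prime → r ≠ p → orderOf u = r →
      {y | IsConj u y} ⊆ K ∧ p ≤ {y | IsConj u y}.ncard := by
    intro r u hr hrp hu
    constructor
    · intro y hy
      obtain ⟨c, rfl⟩ := isConj_iff.mp hy
      refine hKn.conj_mem _ (H8.mem_of_coprime_index ?_) c
      rw [hu, hK2]
      exact ((Nat.coprime_primes hr hp).mpr hrp).pow_right _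
    · rw [← index_centralizer_eq_ncard]
      refine Nat.le_of_dvd (Nat.pos_of_ne_zero index_ne_zero_of_finite) ?_
      by_contra h
      obtain ⟨R, hR⟩ := H9.not_dvd_index_iff_exists_sylow_le.mp h
      obtain ⟨g, rfl⟩ := MulAction.exists_smul_eq M (hP.toSylow hPi) R
      have h1 : g * x * g⁻¹ ∈ ((g • hP.toSylow hPi : Sylow p M) : Subgroup M) :=
        Set.smul_mem_smul_set (a := MulAut.conj g) (mem_zpowers x)
      have h2 := mem_centralizer_singleton_iff.mp (hR h1)
      have h3 : g⁻¹ * u * g ∈ centralizer (zpowers x : Set M) := by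
        rw [zpowers_eq_closure, centralizer_closure, mem_centralizer_singleton_iff]
        calc g⁻¹ * u * g * x = g⁻¹ * (u * (g * x * g⁻¹)) * g := by group
          _ = _ := by rw [← h2]; group
      have h4 := orderOf_dvd_of_mem_zpowers (hN (centralizer_le_normalizer _ h3))
      have h5 : orderOf (g⁻¹ * u * g) = r := by
        rw [← hu]; simpa using (MulAut.conj g⁻¹).orderOf_eq u
      rw [h5, hx] at h4
      exact hrp ((Nat.prime_dvd_prime_iff_eq hr hp).mp h4)
  obtain ⟨u, hu⟩ := exists_prime_orderOf_dvd_card' (G := M) 2 (dvd_trans (by norm_num) h6)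
  obtain ⟨v, hv⟩ := exists_prime_orderOf_dvd_card' (G := M) 3 (dvd_trans (by norm_num) h6)
  obtain ⟨hu1, hu2⟩ := key 2 u Nat.prime_two hp2.symm hu
  obtain ⟨hv1, hv2⟩ := key 3 v Nat.prime_three hp3.symm hv
  have hd : Disjoint {y | IsConj u y} {y | IsConj v y} := by
    rw [Set.disjoint_left]
    intro y h1 h2
    obtain ⟨c, hc⟩ := isConj_iff.mp (IsConj.trans h1 (IsConj.symm h2))
    have := (MulAut.conj c).orderOf_eq u
    rw [MulAut.conj_apply, hc, hu, hv] at this
    omega
  have h1 := Set.ncard_le_ncard (Set.union_subset hu1 hv1)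
  rw [Set.ncard_union_eq hd] at h1
  have h2 := hK K hKn hK1
  change (K : Set M).ncard < _ at h2
  omega

theorem eq_top_of_index_lt_prime {A : Type*} [Group A] [Finite A] [IsSimpleGroup A]
    (G : Subgroup A) {r : ℕ} (hr : r.Prime) (h1 : r ∣ Nat.card A) (h2 : G.index < r) : G = ⊤ := by
  rcases G.normalCore_normal.eq_bot_or_eq_top with h | h
  · rw [normalCore_eq_ker, MonoidHom.ker_eq_bot_iff] at h
    have h3 := h1.trans (card_dvd_of_injective _ h)
    rw [Nat.card_perm, hr.dvd_factorial] at h3
    exact absurd h2 (not_lt.mpr h3)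
  · exact top_le_iff.mp (h ▸ G.normalCore_le)

theorem relIndex_centralizer_dvd_card_mulAut {X : Type*} [Group X] {A P : Subgroup X}
    (h : A ≤ normalizer (P : Set X)) :
    (centralizer (P : Set X)).relIndex A ∣ Nat.card (MulAut P) := by
  let f : A →* MulAut P := P.normalizerMonoidHom.comp (inclusion h)
  have : f.ker = (centralizer (P : Set X)).subgroupOf A := by
    rw [← MonoidHom.comap_ker, normalizerMonoidHom_ker]
    rfl
  rw [relIndex, ← this, index_ker]
  exact card_subgroup_dvd_card _

variable {α : Type*} [Fintype α] [DecidableEq α]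

theorem card_eq_mul_card_fix {G : Subgroup (Perm α)} (s : Finset α)
    (hG : IsMultiplyPretransitive G α s.card) :
    Nat.card G = (Fintype.card α).choose s.card * s.card.factorial *
      Nat.card (G ⊓ fixingSubgroup (Perm α) (s : Set α) : Subgroup (Perm α)) := by
  have h1 := IsMultiplyPretransitive.index_of_fixingSubgroup_eq (G := G) (s : Set α)
    (by rwa [Set.ncard_coe_finset])
  rw [Set.ncard_coe_finset, Nat.card_eq_fintype_card] at h1
  rw [← h1, inf_comm, mul_comm, ← H1.card_inf_mul_relIndex (fixingSubgroup (Perm α) (s : Set α)) G]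
  rfl

theorem apply_mem_support_of_mem_normalizer {x g : Perm α}
    (hg : g ∈ normalizer (zpowers x : Set (Perm α))) {a : α} (ha : a ∈ x.support) :
    g a ∈ x.support := by
  obtain ⟨i, hi⟩ := mem_zpowers_iff.mp ((mem_normalizer_iff.mp hg x).mp (mem_zpowers x))
  refine support_zpow_le x i ?_
  rw [hi, support_conj]
  exact Finset.mem_map_of_mem _ ha

theorem false_of_sharp {G : Subgroup (Perm α)} {x : Perm α} (hxG : x ∈ G) (hxc : x.IsCycle)
    {p : ℕ} (hp : p.Prime) (hs : x.support.card = p) (h6 : 6 ∣ p + 1) {b : α}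
    (hb : b ∈ x.supportᶜ)
    (hN : G ⊓ fixingSubgroup (Perm α) ((x.supportᶜ : Finset α) : Set α) ⊓
      normalizer (zpowers x : Set (Perm α)) ≤ zpowers x)
    (hc : Nat.card (G ⊓ fixingSubgroup (Perm α) ((x.supportᶜ.erase b : Finset α) : Set α) :
      Subgroup (Perm α)) = (p + 1) * Nat.card
        (G ⊓ fixingSubgroup (Perm α) ((x.supportᶜ : Finset α) : Set α) : Subgroup (Perm α))) :
    False := by
  set M := G ⊓ fixingSubgroup (Perm α) ((x.supportᶜ.erase b : Finset α) : Set α) with hM
  set H := G ⊓ fixingSubgroup (Perm α) ((x.supportᶜ : Finset α) : Set α) with hH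
  have hxH : x ∈ H := ⟨hxG, mem_fix.mpr fun a ha => by simpa using ha⟩
  have hHM : H ≤ M := fun h hh =>
    ⟨hh.1, mem_fix.mpr fun a ha => mem_fix.mp hh.2 a (Finset.mem_of_mem_erase ha)⟩
  have hMN : M ⊓ normalizer (zpowers x : Set (Perm α)) ≤ zpowers x := fun g hg => by
    refine hN ⟨⟨hg.1.1, mem_fix.mpr fun a ha => ?_⟩, hg.2⟩
    by_cases hab : a = b
    · subst hab
      by_contra h1
      have h2 : g a ∈ x.supportᶜ := Finset.mem_compl.mpr fun h => Finset.mem_compl.mp hb (by
        simpa using apply_mem_support_of_mem_normalizer (inv_mem hg.2) h)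
      exact h1 (g.injective (mem_fix.mp hg.1.2 _ (Finset.mem_erase.mpr ⟨h1, h2⟩)))
    · exact mem_fix.mp hg.1.2 _ (Finset.mem_erase.mpr ⟨hab, ha⟩)
  have hrel : H.relIndex M = p + 1 := by
    have := H1.card_mul_relIndex hHM
    rw [hc, mul_comm] at this
    exact Nat.eq_of_mul_eq_mul_right Nat.card_pos this
  have hzp : zpowers (⟨x, hHM hxH⟩ : M) = (zpowers x).subgroupOf M := by
    rw [← map_subtype_inj, MonoidHom.map_zpowers, map_subgroupOf_eq_of_le (zpowers_le.mpr (hHM hxH))]
    rfl
  refine false_of_self_normalizing (x := (⟨x, hHM hxH⟩ : M)) hp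
    (by rw [Subgroup.orderOf_mk, hxc.orderOf, hs]) (by omega) (by omega) ?_
    (by rw [hc]; exact h6.mul_right _) fun K hK hK1 => ?_
  · rw [hzp, ← subgroupOf_normalizer_eq (zpowers_le.mpr (hHM hxH))]
    exact fun g hg => hMN ⟨g.2, hg⟩
  · have h1 : H.subgroupOf M ⊓ K = ⊥ := by
      rw [eq_bot_iff]
      intro k hk
      refine Subtype.ext (Equiv.ext fun a => ?_)
      by_cases ha : a ∈ x.support
      · let N : Subgroup H := K.comap (inclusion hHM)
        have h2 : (stabilizer H a).index = p := by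
          rw [index_stabilizer, ← hs, ← Set.ncard_coe_finset]
          congr 1
          ext c
          constructor
          · rintro ⟨s, rfl⟩
            by_contra h
            have h3 : (s : Perm α) ((s : Perm α) a) = (s : Perm α) a :=
              mem_fix.mp s.2.2 _ (Finset.mem_compl.mpr h)
            exact h (by
              change (s : Perm α) a ∈ _
              rw [(s : Perm α).injective h3]
              exact ha)
          · intro hc
            obtain ⟨i, hi⟩ := hxc.exists_zpow_eq (mem_support.mp ha) (mem_support.mp hc)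
            exact ⟨⟨x ^ i, H.zpow_mem hxH i⟩, hi⟩
        have h3 := H9.relIndex_dvd_index_of_normal_right (stabilizer H a) N
        have h4 : Nat.card N ∣ Nat.card K := card_comap_dvd_of_injective _ _
          (inclusion_injective hHM)
        have h5 := Nat.eq_one_of_dvd_coprimes hK1 ((relIndex_dvd_card _ _).trans h4) (h2 ▸ h3)
        exact relIndex_eq_one.mp h5 (show (⟨k, hk.1⟩ : H) ∈ N from hk.2)
      · exact mem_fix.mp hk.1.2 a (Finset.mem_compl.mpr ha)
    have h2 := H1.card_inf_mul_relIndex (H.subgroupOf M) K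
    rw [h1, card_bot, one_mul] at h2
    have h3 : (H.subgroupOf M).relIndex K ≤ (H.subgroupOf M).relIndex ⊤ :=
      relIndex_le_of_le_right le_top index_ne_zero_of_finite
    rw [relIndex_top_right, h2] at h3
    have h4 := h3.trans hrel.le
    have := hp.two_le
    omega

theorem mem_zpowers_of_commute {x c : Perm α} (hxc : x.IsCycle) (hF : x.supportᶜ.card ≤ 2)
    (hx : x ∈ alternatingGroup α) (hc : c ∈ alternatingGroup α) (h : Commute x c) :
    c ∈ zpowers x := by
  obtain ⟨a, ha, -⟩ := id hxc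
  obtain ⟨i, hi⟩ := hxc.exists_zpow_eq ha
    (mem_support.mp (apply_mem_support_of_commute h (mem_support.mpr ha)))
  have h1 : ((x ^ i)⁻¹ * c).support ⊆ x.supportᶜ := by
    intro d hd
    refine Finset.mem_compl.mpr fun hdx => mem_support.mp hd ?_
    obtain ⟨j, rfl⟩ := hxc.exists_zpow_eq ha (mem_support.mp hdx)
    have h2 : Commute (x ^ j) ((x ^ i)⁻¹ * c) :=
      ((Commute.zpow_zpow_self x j i).inv_right).mul_right (h.zpow_left j)
    rw [← mul_apply, ← h2.eq, mul_apply, mul_apply, ← hi]
    simp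
  have h2 : (x ^ i)⁻¹ * c = 1 := by
    by_contra h3
    have h4 := card_support_eq_two.mp
      (le_antisymm ((Finset.card_le_card h1).trans hF) (two_le_card_support_of_ne_one h3))
    have h5 := mem_alternatingGroup.mp (mul_mem (inv_mem (zpow_mem hx i)) hc)
    rw [h4.sign_eq] at h5
    exact absurd h5 (by decide)
  exact ⟨i, inv_mul_eq_one.mp h2⟩

theorem zpowers_le_fix {G : Subgroup (Perm α)} {x : Perm α} (hxG : x ∈ G) :
    zpowers x ≤ G ⊓ fixingSubgroup (Perm α) ((x.supportᶜ : Finset α) : Set α) :=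
  zpowers_le.mpr ⟨hxG, mem_fix.mpr fun a ha => by simpa using ha⟩

theorem eq_alternatingGroup_of_card {G : Subgroup (Perm α)} (hG : G ≤ alternatingGroup α)
    (h5 : 5 ≤ Fintype.card α) {r : ℕ} (hr : r.Prime) (hrα : r ∣ Nat.card (alternatingGroup α))
    (h : Nat.card (alternatingGroup α) < r * Nat.card G) : alternatingGroup α ≤ G := by
  haveI := alternatingGroup.isSimpleGroup (α := α) (by rwa [Nat.card_eq_fintype_card])
  rw [← subgroupOf_eq_top]
  refine eq_top_of_index_lt_prime _ hr hrα ?_
  rw [← H1.card_mul_relIndex hG, mul_comm] at h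
  exact lt_of_mul_lt_mul_right h (Nat.zero_le _)

theorem card_alternatingGroup_of_card {n : ℕ} (h : Fintype.card α = n + 2) :
    Nat.card (alternatingGroup α) = (n + 2).factorial / 2 := by
  haveI : Nontrivial α := Fintype.one_lt_card_iff_nontrivial.mp (by omega)
  rw [nat_card_alternatingGroup, Nat.card_eq_fintype_card, h]

theorem alternatingGroup_le_seven {G : Subgroup (Perm α)} (hα : Fintype.card α = 7)
    (hG : IsPreprimitive G α) (hGA : G ≤ alternatingGroup α) {x : Perm α} (hxG : x ∈ G)
    (hxc : x.IsCycle) (hs : x.support.card = 5) : alternatingGroup α ≤ G := by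
  have hF : x.supportᶜ.card = 2 := by rw [Finset.card_compl, hα, hs]
  have hmt := fun k => isMultiplyPretransitive_of_isCycle' (k := k) hG hxG hxc
    (hs ▸ Nat.prime_five) (by omega)
  obtain ⟨b, hb⟩ : x.supportᶜ.Nonempty := Finset.card_pos.mp (by omega)
  have h1 := card_eq_mul_card_fix x.supportᶜ (hmt _ (by omega))
  have hF' : (x.supportᶜ.erase b).card = 1 := by rw [Finset.card_erase_of_mem hb, hF]
  have h2 := card_eq_mul_card_fix (x.supportᶜ.erase b) (hmt _ (by omega))
  rw [hF, hα, show Nat.choose 7 2 * Nat.factorial 2 = 42 from rfl] at h1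
  rw [hF', hα, show Nat.choose 7 1 * Nat.factorial 1 = 7 from rfl] at h2
  have h3 := card_dvd_of_le (zpowers_le_fix hxG)
  rw [Nat.card_zpowers, hxc.orderOf, hs] at h3
  by_cases h4 : Nat.card (G ⊓ fixingSubgroup (Perm α) ((x.supportᶜ : Finset α) : Set α) :
    Subgroup (Perm α)) ≤ 5
  · exfalso
    refine false_of_sharp hxG hxc Nat.prime_five hs (by norm_num) hb (inf_le_left.trans
      (H1.eq_of_le_of_card_le (zpowers_le_fix hxG) ?_).ge) ?_
    · rwa [Nat.card_zpowers, hxc.orderOf, hs]
    · omega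
  · have h5 : Nat.card (alternatingGroup α) = 2520 := card_alternatingGroup_of_card (n := 5) hα
    refine eq_alternatingGroup_of_card hGA (by omega) (r := 7) (by norm_num)
      (by rw [h5]; norm_num) ?_
    omega

theorem alternatingGroup_le_thirteen {G : Subgroup (Perm α)} (hα : Fintype.card α = 13)
    (hG : IsPreprimitive G α) (hGA : G ≤ alternatingGroup α) {x : Perm α} (hxG : x ∈ G)
    (hxc : x.IsCycle) (hs : x.support.card = 11) : alternatingGroup α ≤ G := by
  have h11 : Nat.Prime 11 := by norm_num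
  have hF : x.supportᶜ.card = 2 := by rw [Finset.card_compl, hα, hs]
  have hmt := fun k => isMultiplyPretransitive_of_isCycle' (k := k) hG hxG hxc
    (hs ▸ h11) (by omega)
  by_cases h5 : 5 ∣ Nat.card G
  · haveI := Fact.mk Nat.prime_five
    have key : ∀ z ∈ G, orderOf z = 5 → z.support.card < 10 → alternatingGroup α ≤ G := by
      intro z hz hz5 hz10
      have h1 := isCycle_of_prime_order (σ := z) (hz5 ▸ Nat.prime_five) (by omega)
      have h2 : z.support.card = 5 := by rw [← h1.orderOf, hz5]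
      exact alternatingGroup_le_of_isCycle hG hz h1 (h2 ▸ Nat.prime_five) (by omega)
    obtain ⟨⟨z, hz⟩, hz5⟩ := exists_prime_orderOf_dvd_card' 5 h5
    rw [Subgroup.orderOf_mk] at hz5
    by_cases hz10 : z.support.card < 10
    · exact key z hz hz5 hz10
    obtain ⟨n, hn⟩ := le_card_support_of_prime Nat.prime_five hz5
    have h1 := Finset.card_add_card_compl z.support
    by_cases hS : 5 ∣ (zpowers z).relIndex
      (G ⊓ fixingSubgroup (Perm α) ((z.supportᶜ : Finset α) : Set α))
    · obtain ⟨w, hw, hw5, hw'⟩ := exists_support_ssubset hz Nat.prime_five hz5 (by omega) hS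
      exact key w hw hw5 ((Finset.card_lt_card hw').trans_le (by omega))
    · obtain ⟨τ, hτ, hτ3⟩ := exists_isThreeCycle_of_sylow hz Nat.prime_five (by norm_num) hz5
        (by omega) (by omega) hS (hmt _ (by omega))
      exact alternatingGroup_le_of_isPreprimitive_of_isThreeCycle_mem hG hτ3 hτ
  exfalso
  have hx : orderOf x = 11 := by rw [hxc.orderOf, hs]
  obtain ⟨a, b, hab, hF2⟩ := Finset.card_eq_two.mp hF
  have ha : a ∈ x.supportᶜ := by simp [hF2]
  have hb : b ∈ x.supportᶜ := by simp [hF2]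
  obtain ⟨t, htG, htN, ht⟩ := exists_normalizer_agree_swap hxG h11 hx (fun h => by
      obtain ⟨z, -, hz, hz'⟩ := exists_support_ssubset hxG h11 hx (by omega) h
      obtain ⟨n, hn⟩ := le_card_support_of_prime h11 hz
      have := Finset.card_lt_card hz'
      omega) (hmt _ (by omega)) ha hb
  set H := G ⊓ fixingSubgroup (Perm α) ((x.supportᶜ : Finset α) : Set α) with hH
  set N := normalizer (zpowers x : Set (Perm α)) with hN
  set C := centralizer (zpowers x : Set (Perm α)) with hC
  have hGC : G ⊓ C ≤ zpowers x := fun c hc =>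
    mem_zpowers_of_commute hxc hF.le (hGA hxG) (hGA hc.1) (hc.2 x (mem_zpowers x))
  have h1 : C.relIndex (G ⊓ N) ∣ 10 := by
    have := relIndex_centralizer_dvd_card_mulAut (A := G ⊓ N) (P := zpowers x) inf_le_right
    rwa [IsCyclic.card_mulAut, Nat.card_zpowers, hx, Nat.totient_prime h11] at this
  have h2 : ¬ 5 ∣ C.relIndex (G ⊓ N) := fun h =>
    h5 (h.trans ((relIndex_dvd_card _ _).trans (card_dvd_of_le inf_le_left)))
  have h3 : C.relIndex (G ⊓ N) ≤ 2 := by
    have := Nat.le_of_dvd (by norm_num) h1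
    interval_cases C.relIndex (G ⊓ N) <;> omega
  have h4 := relIndex_mul_relIndex (C ⊓ (G ⊓ N)) (H ⊓ N) (G ⊓ N)
    (fun c hc => ⟨zpowers_le_fix hxG (hGC ⟨hc.2.1, hc.1⟩), hc.2.2⟩)
    (inf_le_inf_right _ inf_le_left)
  rw [inf_relIndex_right] at h4
  have h6 : (H ⊓ N).relIndex (G ⊓ N) ≠ 1 := fun h => by
    have h7 := mem_fix.mp (relIndex_eq_one.mp h ⟨htG, htN⟩).1.2 a ha
    rw [ht a ha, swap_apply_left] at h7
    exact hab h7.symm
  have h7 : (H ⊓ N).relIndex (G ⊓ N) ≠ 0 := index_ne_zero_of_finite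
  have h8 : (C ⊓ (G ⊓ N)).relIndex (H ⊓ N) ≠ 0 := index_ne_zero_of_finite
  have h9 : (C ⊓ (G ⊓ N)).relIndex (H ⊓ N) = 1 := by
    by_contra h
    have := Nat.mul_le_mul (show 2 ≤ (C ⊓ (G ⊓ N)).relIndex (H ⊓ N) by omega)
      (show 2 ≤ (H ⊓ N).relIndex (G ⊓ N) by omega)
    omega
  refine false_of_sharp hxG hxc h11 hs (by norm_num) hb
    (fun g hg => hGC ⟨hg.1.1, (relIndex_eq_one.mp h9 hg).1⟩) ?_
  have e1 := card_eq_mul_card_fix x.supportᶜ (hmt _ (by omega))
  have hF' : (x.supportᶜ.erase b).card = 1 := by rw [Finset.card_erase_of_mem hb, hF]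
  have e2 := card_eq_mul_card_fix (x.supportᶜ.erase b) (hmt _ (by omega))
  rw [hF, hα, show Nat.choose 13 2 * Nat.factorial 2 = 156 from rfl, ← hH] at e1
  rw [hF', hα, show Nat.choose 13 1 * Nat.factorial 1 = 13 from rfl] at e2
  rw [← hH]
  omega

theorem nonempty_equiv_five_of_relIndex {G : Subgroup (Perm α)} (hα : Fintype.card α = 6)
    (hGA : G ≤ alternatingGroup α) (h : G.relIndex (alternatingGroup α) = 6) :
    Nonempty (G ≃* alternatingGroup (Fin 5)) := by
  classical
  haveI := alternatingGroup.isSimpleGroup (α := α) (by rw [Nat.card_eq_fintype_card]; omega)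
  set A := alternatingGroup α with hA
  let G' := G.subgroupOf A
  letI := Fintype.ofFinite (A ⧸ G')
  have hβ : Nat.card (A ⧸ G') = 6 := h
  let φ := MulAction.toPermHom A (A ⧸ G')
  have hφ : Function.Injective φ := by
    rw [← MonoidHom.ker_eq_bot_iff, ← normalCore_eq_ker]
    refine G'.normalCore_normal.eq_bot_or_eq_top.resolve_right fun h1 => ?_
    have h2 : G' = ⊤ := top_le_iff.mp (h1 ▸ G'.normalCore_le)
    change G'.index = 6 at h
    rw [h2, index_top] at h
    omega
  have hr : φ.range = alternatingGroup (A ⧸ G') := by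
    refine eq_alternatingGroup_of_index_eq_two ?_
    have h1 := φ.range.card_mul_index
    rw [← Nat.card_congr (MonoidHom.ofInjective hφ).toEquiv, Nat.card_perm, hβ,
      card_alternatingGroup_of_card (n := 4) hα] at h1
    norm_num [Nat.factorial] at h1
    omega
  let s : Finset (A ⧸ G') := {((1 : A) : A ⧸ G')}ᶜ
  have hs : G'.map φ = (alternatingGroup s).map (Perm.ofSubtype : Perm s →* Perm (A ⧸ G')) := by
    rw [alternatingGroup.map_ofSubtype, ← hr]
    ext σ
    rw [mem_inf, mem_range_ofSubtype_iff]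
    constructor
    · rintro ⟨g, hg, rfl⟩
      refine ⟨fun c hc => ?_, g, rfl⟩
      rw [← stabilizer_quotient G'] at hg
      simp only [s, Finset.mem_compl, Finset.mem_singleton, Set.mem_ofPred_eq]
      rintro rfl
      exact mem_support.mp hc hg
    · rintro ⟨h1, g, rfl⟩
      refine ⟨g, ?_, rfl⟩
      rw [← stabilizer_quotient G']
      by_contra h2
      have h3 : φ g ((1 : A) : A ⧸ G') ≠ ((1 : A) : A ⧸ G') := h2
      simpa [s] using h1 (mem_support.mpr h3)
  have hcard : Fintype.card s = 5 := by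
    rw [Fintype.card_coe, Finset.card_compl, ← Nat.card_eq_fintype_card, hβ, Finset.card_singleton]
  exact ⟨(subgroupOfEquivOfLe hGA).symm.trans ((G'.equivMapOfInjective φ hφ).trans
    ((MulEquiv.subgroupCongr hs).trans
      (((alternatingGroup s).equivMapOfInjective _ Perm.ofSubtype_injective).symm.trans
        (Fintype.equivFinOfCardEq hcard).altCongrHom)))⟩

theorem alternatingGroup_le_or_six {G : Subgroup (Perm α)} (hα : Fintype.card α = 6)
    (hG : IsPreprimitive G α) (hGA : G ≤ alternatingGroup α) {x : Perm α} (hxG : x ∈ G)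
    (hxc : x.IsCycle) (hs : x.support.card = 5) :
    alternatingGroup α ≤ G ∨ Nonempty (G ≃* alternatingGroup (Fin 5)) := by
  have hF : x.supportᶜ.card = 1 := by rw [Finset.card_compl, hα, hs]
  have hmt := fun k => isMultiplyPretransitive_of_isCycle' (k := k) hG hxG hxc
    (hs ▸ Nat.prime_five) (by omega)
  obtain ⟨b, hb⟩ : x.supportᶜ.Nonempty := Finset.card_pos.mp (by omega)
  have h1 := card_eq_mul_card_fix x.supportᶜ (hmt _ (by omega))
  have hF' : (x.supportᶜ.erase b).card = 0 := by rw [Finset.card_erase_of_mem hb, hF]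
  have h2 := card_eq_mul_card_fix (x.supportᶜ.erase b) (hmt _ (by omega))
  rw [hF, hα, show Nat.choose 6 1 * Nat.factorial 1 = 6 from rfl] at h1
  rw [hF', hα, show Nat.choose 6 0 * Nat.factorial 0 = 1 from rfl] at h2
  have h3 := card_dvd_of_le (zpowers_le_fix hxG)
  rw [Nat.card_zpowers, hxc.orderOf, hs] at h3
  have h5 : Nat.card (alternatingGroup α) = 360 := card_alternatingGroup_of_card (n := 4) hα
  by_cases h4 : Nat.card (G ⊓ fixingSubgroup (Perm α) ((x.supportᶜ : Finset α) : Set α) :
    Subgroup (Perm α)) ≤ 5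
  · exfalso
    refine false_of_sharp hxG hxc Nat.prime_five hs (by norm_num) hb (inf_le_left.trans
      (H1.eq_of_le_of_card_le (zpowers_le_fix hxG) ?_).ge) ?_
    · rwa [Nat.card_zpowers, hxc.orderOf, hs]
    · omega
  by_cases h6 : Nat.card G = 60
  · right
    refine nonempty_equiv_five_of_relIndex hα hGA ?_
    have := H1.card_mul_relIndex hGA
    rw [h6, h5] at this
    omega
  · left
    refine eq_alternatingGroup_of_card hGA (by omega) (r := 5) (by norm_num)
      (by rw [h5]; norm_num) ?_
    omega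

theorem closure_pair_cases {x y : Perm α} (hxA : x ∈ alternatingGroup α)
    (hyA : y ∈ alternatingGroup α) {p q : ℕ} (hp : p.Prime) (hq : q.Prime) (hx : orderOf x = p)
    (hy : orderOf y = q) (hsupp : x.support ∪ y.support = Finset.univ) (hpq : p < q)
    (hd : Fintype.card α ≤ 2 * p)
    (h1 : p + 3 ≤ q ∨ (p = 3 ∧ q = 5) ∨ (p = 5 ∧ q = 7) ∨ (p = 11 ∧ q = 13))
    (h2 : Fintype.card α = 2 * p → q + 3 ≤ 2 * p ∨ (p = 3 ∧ q = 5)) :
    q ≤ Fintype.card α ∧ (closure {x, y} = alternatingGroup α ∨
      Nonempty (closure ({x, y} : Set (Perm α)) ≃* alternatingGroup (Fin 5))) := by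
  set G := closure ({x, y} : Set (Perm α)) with hG
  have hxG : x ∈ G := subset_closure (by simp)
  have hyG : y ∈ G := subset_closure (by simp)
  have hGA : G ≤ alternatingGroup α := (closure_le _).mpr (by
    rintro z (rfl | rfl) <;> assumption)
  have hyc : y.IsCycle := isCycle_of_prime_order' (hy ▸ hq) (by omega)
  have hys : y.support.card = q := by rw [← hyc.orderOf, hy]
  have hqd : q ≤ Fintype.card α := hys ▸ Finset.card_le_univ _
  refine ⟨hqd, ?_⟩
  haveI : IsPretransitive G α := by
    have key : ∀ a, ∃ g : G, g • a ∈ y.support := by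
      intro a
      by_cases ha : a ∈ y.support
      · exact ⟨1, by simpa using ha⟩
      have hax : a ∈ x.support :=
        (Finset.mem_union.mp (hsupp ▸ Finset.mem_univ a)).resolve_right ha
      have h3 : ¬ Disjoint (x.cycleOf a).support y.support := fun h => by
        have := Finset.card_le_univ ((x.cycleOf a).support ∪ y.support)
        rw [Finset.card_union_of_disjoint h, card_support_cycleOf_of_prime hp hx hax, hys] at this
        omega
      obtain ⟨c, hc1, hc2⟩ := Finset.not_disjoint_iff.mp h3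
      obtain ⟨i, rfl⟩ := (mem_support_cycleOf_iff.mp hc1).1
      exact ⟨⟨x ^ i, G.zpow_mem hxG i⟩, hc2⟩
    refine ⟨fun a b => ?_⟩
    obtain ⟨g, hg⟩ := key a
    obtain ⟨h, hh⟩ := key b
    obtain ⟨i, hi⟩ := hyc.exists_zpow_eq (mem_support.mp hg) (mem_support.mp hh)
    refine ⟨h⁻¹ * ⟨y ^ i, G.zpow_mem hyG i⟩ * g, ?_⟩
    rw [mul_smul, mul_smul, inv_smul_eq_iff]
    exact hi
  have hprim : IsPreprimitive G α := isPreprimitive_of_isCycle hyG hyc (hys ▸ hq) (by omega)
  suffices alternatingGroup α ≤ G ∨ Nonempty (G ≃* alternatingGroup (Fin 5)) from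
    this.imp_left fun h => le_antisymm hGA h
  obtain ⟨n, hn⟩ := le_card_support_of_prime hp hx
  have hle := Finset.card_le_univ x.support
  by_cases hxs : x.support.card < 2 * p
  · have hxc : x.IsCycle := isCycle_of_prime_order (hx ▸ hp) (by omega)
    have hxs' : x.support.card = p := by rw [← hxc.orderOf, hx]
    left
    by_cases h3 : p + 3 ≤ Fintype.card α
    · exact alternatingGroup_le_of_isCycle hprim hxG hxc (hxs' ▸ hp) (by omega)
    rcases h1 with h1 | ⟨rfl, rfl⟩ | ⟨rfl, rfl⟩ | ⟨rfl, rfl⟩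
    · omega
    · exact alternatingGroup_le_of_isPreprimitive_of_isThreeCycle_mem hprim
        (card_support_eq_three_iff.mp hxs') hxG
    · exact alternatingGroup_le_seven (by omega) hprim hGA hxG hxc hxs'
    · exact alternatingGroup_le_thirteen (by omega) hprim hGA hxG hxc hxs'
  · rcases h2 (by omega) with h3 | ⟨rfl, rfl⟩
    · exact Or.inl (alternatingGroup_le_of_isCycle hprim hyG hyc (hys ▸ hq) (by omega))
    · exact alternatingGroup_le_or_six (by omega) hprim hGA hyG hyc hys

end Cfsg.Agent.H6
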