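import Cfsg.Agent.H1.SZ
import Cfsg.Agent.H8.PComplement

/-! Minimal supplements of normal subgroups. -/

set_option autoImplicit false
set_option linter.style.haveILetI false

namespace Cfsg.Agent.H6

open Subgroup

variable {G : Type*} [Group G]

theorem le_of_isPGroup_of_not_dvd_index [Finite G] {p : ℕ} [hp : Fact p.Prime] {Q N : Subgroup G}
    [N.Normal] (hQ : IsPGroup p Q) (h : ¬ p ∣ N.index) : Q ≤ N := by
  intro x hx
  obtain ⟨k, hk⟩ := H8.exists_orderOf_eq_pow_of_mem hQ hx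
  refine H8.mem_of_coprime_index ?_
  rw [hk]
  exact ((hp.out.coprime_iff_not_dvd).2 h).pow_left k

/-- A normal subgroup `N` has a supplement whose order involves only primes dividing `|G:N|`. -/
theorem exists_supplement [Finite G] (N : Subgroup G) [N.Normal] :
    ∃ H : Subgroup G, H ⊔ N = ⊤ ∧ ∀ q : ℕ, q.Prime → q ∣ Nat.card H → q ∣ N.index := by
  obtain ⟨H, hH, hmin⟩ := WellFounded.has_min (wellFounded_lt (α := Subgroup G))
    {H | H ⊔ N = ⊤} ⟨⊤, top_sup_eq _⟩
  have hH' : H ⊔ N = ⊤ := hH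
  refine ⟨H, hH, fun q hq hd => ?_⟩
  haveI := Fact.mk hq
  by_contra hnd
  obtain ⟨Q, hQH, hQ, hQi⟩ := H1.exists_sylow_le q H
  have hQN : Q ≤ N := le_of_isPGroup_of_not_dvd_index hQ hnd
  have hQi' : ¬ q ∣ Q.relIndex (H ⊓ N) := fun h => hQi (by
    rw [← relIndex_mul_relIndex Q (H ⊓ N) H (le_inf hQH hQN) inf_le_left]
    exact h.mul_right _)
  have h1 : H ⊓ normalizer (Q : Set G) = H := by
    by_contra hne
    refine hmin _ ?_ (lt_of_le_of_ne inf_le_left hne)
    change _ ⊔ N = ⊤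
    rw [eq_top_iff, ← hH', sup_le_iff]
    refine ⟨fun x hx => ?_, le_sup_right⟩
    obtain ⟨g, hg, hgx⟩ := H1.frattini_argument (le_inf hQH hQN) hQ hQi' (x := x)
      (H1.le_normalizer_inf le_normalizer le_normalizer_of_normal hx)
    have : x = g⁻¹ * (g * x) := by group
    rw [this]
    exact mul_mem (mem_sup_right (N.inv_mem hg.2)) (mem_sup_left ⟨H.mul_mem hg.1 hx, hgx⟩)
  obtain ⟨k, hk⟩ := IsPGroup.iff_card.1 hQ
  obtain ⟨K, hKH, hKQ, -, hK⟩ := H1.exists_complement_of_coprime hQH (inf_eq_left.1 h1)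
    (by rw [hk]; exact ((hq.coprime_iff_not_dvd).2 hQi).pow_left k)
  have h2 : K = H := by
    by_contra hne
    refine hmin K ?_ (lt_of_le_of_ne hKH hne)
    change _ ⊔ N = ⊤
    rw [eq_top_iff, ← hH', ← hKQ]
    exact sup_le (sup_le le_sup_left (hQN.trans le_sup_right)) le_sup_right
  rw [← h2, hK] at hd
  rw [← h2] at hQi
  exact hQi (h2 ▸ hd)

end Cfsg.Agent.H6
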