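import Cfsg.Agent.P5.Final
import Cfsg.Agent.H3.ClassCount2
import Cfsg.Agent.H6.TwoPrimes
import Cfsg.Agent.H5.PByCyclic
import Cfsg.Agent.H9.SylowNum

/-! Groups with a strongly closed four-subgroup that is self-centralizing in a Sylow `2`-subgroup. -/

set_option autoImplicit false

namespace Cfsg.Agent.H6.Half

open Subgroup Cfsg Cfsg.Agent
open scoped commutatorElement

universe u

theorem card_mulAut_dvd_six {V : Type*} [Group V] (hV : Nat.card V = 4) :
    Nat.card (MulAut V) ∣ 6 := by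
  classical
  haveI : Finite V := Nat.finite_of_card_ne_zero (by omega)
  let f : MulAut V →* Equiv.Perm {v : V // v ≠ 1} :=
    { toFun := fun φ => Equiv.Perm.subtypePerm φ.toEquiv (fun x => by simp)
      map_one' := by ext; simp
      map_mul' := fun a b => by ext; simp }
  have hf : Function.Injective f := by
    intro a b h
    ext v
    by_cases hv : v = 1
    · simp [hv]
    · exact congrArg (fun σ : Equiv.Perm {v : V // v ≠ 1} => (σ ⟨v, hv⟩ : V)) h
  have h3 : Nat.card {v : V // v ≠ 1} = 3 := by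
    haveI := Fintype.ofFinite V
    rw [Nat.card_eq_fintype_card, Fintype.card_subtype_compl, ← Nat.card_eq_fintype_card, hV]
    simp
  have := card_dvd_of_injective f hf
  rwa [Nat.card_perm, h3] at this

variable {G : Type u} [Group G] [Finite G]

theorem eq_bot_of_coprime (hO : pPrimeCore 2 G = ⊥) {N : Subgroup G} (hn : N.Normal)
    (ho : (Nat.card N).Coprime 2) : N = ⊥ :=
  le_bot_iff.1 (hO ▸ L.le_pPrimeCore hn ho)

/-- `V` is a strongly closed subgroup of order four of `P`, self-centralizing in `P`, on which the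
element `t` of odd order acts nontrivially. -/
structure Data (P : Sylow 2 G) (V : Subgroup G) (t : G) : Prop where
  le : V ≤ P
  card : Nat.card V = 4
  cent : ∀ g ∈ (P : Subgroup G), g ∈ centralizer (V : Set G) → g ∈ V
  closed : ∀ x ∈ V, ∀ g : G, g * x * g⁻¹ ∈ (P : Subgroup G) → g * x * g⁻¹ ∈ V
  odd : Odd (orderOf t)
  norm : t ∈ normalizer (V : Set G)
  ncent : t ∉ centralizer (V : Set G)

namespace Data

variable {P : Sylow 2 G} {V : Subgroup G} {t : G} (h : Data P V t)
include h

theorem le_cent : V ≤ centralizer (V : Set G) := by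
  haveI := P5.isMulComm_of_dvd_four (P := V) (by rw [h.card])
  exact le_centralizer V

theorem le_norm : (P : Subgroup G) ≤ normalizer (V : Set G) := fun g hg =>
  mem_normalizer_fintype fun x hx =>
    h.closed x hx g (mul_mem (mul_mem hg (h.le hx)) (inv_mem hg))

theorem relIndex_dvd : V.relIndex P ∣ 2 := by
  have h1 := (relIndex_centralizer_dvd_card_mulAut h.le_norm).trans (card_mulAut_dvd_six h.card)
  have h2 : V.relIndex P = (centralizer (V : Set G)).relIndex P := by
    rw [← inf_relIndex_right V, ← inf_relIndex_right (centralizer (V : Set G))]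
    congr 1
    exact le_antisymm (inf_le_inf_right _ h.le_cent) fun g hg => ⟨h.cent g hg.2 hg.1, hg.2⟩
  rw [← h2] at h1
  obtain ⟨k, hk⟩ := P.isPGroup'.index (V.subgroupOf P)
  change V.relIndex P = _ at hk
  rw [hk] at h1 ⊢
  exact Nat.Coprime.dvd_of_dvd_mul_right (k := 2 ^ k) (n := 3) (m := 2)
    (Nat.Coprime.pow_left k (by norm_num)) h1

theorem focal_le : (P : Subgroup G).focalSubgroup ≤ V := by
  rw [focalSubgroup, closure_le]
  rintro _ ⟨hg, x, hx, u, rfl⟩
  have e : ⁅x, u⁆ = x * (u * x⁻¹ * u⁻¹) := by rw [commutatorElement_def]; group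
  have h1 : u * x⁻¹ * u⁻¹ ∈ (P : Subgroup G) := by
    have := mul_mem (inv_mem hx) hg
    rwa [e, inv_mul_cancel_left] at this
  rw [e]
  by_cases hxV : x ∈ V
  · exact mul_mem hxV (h.closed _ (inv_mem hxV) u h1)
  have h2 : u * x⁻¹ * u⁻¹ ∉ V := fun h2 => hxV (by
    have e2 : u⁻¹ * (u * x⁻¹ * u⁻¹) * u⁻¹⁻¹ = x⁻¹ := by group
    have := h.closed _ h2 u⁻¹ (by rw [e2]; exact inv_mem hx)
    rwa [e2, inv_mem_iff] at this)
  rcases (Nat.dvd_prime Nat.prime_two).1 h.relIndex_dvd with h3 | h3
  · exact (hxV (relIndex_eq_one.1 h3 hx)).elim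
  · exact (mul_mem_iff_of_index_two (H := V.subgroupOf P) h3 (a := ⟨x, hx⟩) (b := ⟨_, h1⟩)).2
      ⟨fun h => (hxV h).elim, fun h => (h2 h).elim⟩

theorem exists_K :
    ∃ (K : Subgroup G) (_ : K.Normal), (P : Subgroup G) ⊓ K ≤ V ∧ IsPGroup 2 (G ⧸ K) := by
  refine ⟨(P : Subgroup G).transferFocal.ker, inferInstance, ?_, ?_⟩
  · rw [inf_comm, ker_transferFocal_inf_eq_focalSubgroup]
    exact h.focal_le
  · exact (P.isPGroup'.to_quotient _).of_equiv
      (transferFocal.quotientKerMulEquivQuotientFocalSubroupOf P).symm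

theorem isPGroup : IsPGroup 2 V := P.isPGroup'.to_le h.le

theorem le_of_normal {K N : Subgroup G} [K.Normal] [N.Normal] (hK : IsPGroup 2 (G ⧸ K))
    (h1 : N ≤ centralizer (V : Set G)) (h2 : N ⊓ K ≤ V) : N ≤ V := by
  have hN : IsPGroup 2 N := by
    intro g
    obtain ⟨k, hk⟩ := hK (g : G)
    have h3 : (g : G) ^ 2 ^ k ∈ V :=
      h2 ⟨pow_mem g.2 _, (QuotientGroup.eq_one_iff _).1 (by rw [QuotientGroup.mk_pow, hk])⟩
    obtain ⟨l, hl⟩ := h.isPGroup ⟨_, h3⟩
    refine ⟨k + l, Subtype.ext ?_⟩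
    have := congrArg Subtype.val hl
    simpa [pow_add, pow_mul] using this
  exact fun g hg => h.cent g (hN.le_sylow_of_normal P hg) (h1 hg)

theorem not_eight_dvd {K : Subgroup G} [K.Normal] (hK : (P : Subgroup G) ⊓ K ≤ V) :
    ¬ 8 ∣ Nat.card K := by
  intro h8
  have h1 := H9.not_dvd_relIndex_sylow_inf K P
  have h2 := H1.card_mul_relIndex (inf_le_right : (P : Subgroup G) ⊓ K ≤ K)
  have h3 := card_dvd_of_le hK
  rw [h.card] at h3
  rw [← h2] at h8
  have h4 := (Nat.Coprime.dvd_of_dvd_mul_right (k := 2 ^ 3)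
    (((Nat.Prime.coprime_iff_not_dvd Nat.prime_two).2 h1).pow_left 3) h8).trans h3
  norm_num at h4

omit h in
theorem core_eq_bot (hO : pPrimeCore 2 G = ⊥) (K : Subgroup G) [K.Normal] :
    pPrimeCore 2 K = ⊥ := by
  have := L.map_subtype_pPrimeCore Nat.prime_two K
  rwa [hO, bot_inf_eq, map_eq_bot_iff_of_injective _ K.subtype_injective] at this

theorem nonsolv (hO : pPrimeCore 2 G = ⊥) (hs : ¬ Group.IsSolvable G) :
    ∃ S : Subgroup G, S.Normal ∧ IsSimpleGroup S ∧ ¬ IsMulCommutative S ∧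
      centralizer (S : Set G) = ⊥ ∧ P5.IsL2 S := by
  obtain ⟨K, hKn, hPK, hK⟩ := h.exists_K
  have h8 := h.not_eight_dvd hPK
  have hKs : ¬ Group.IsSolvable K := fun hKs =>
    haveI := hK.isNilpotent
    hs (L.isSolvable_of_normal_of_quotient K hKs inferInstance)
  have hO' : H2.pPrimeCoreOf 2 (⊤ : Subgroup K) = ⊥ := by
    rw [H2.pPrimeCoreOf_top]; exact core_eq_bot hO K
  obtain ⟨L, A, a, b, hL, hT⟩ := P5.bBot.struct h8 hKs hO'
  have hC := hT.cent_eq_bot h8 hO'
  have e : L ≃* L.map K.subtype := equivMapOfInjective L K.subtype K.subtype_injective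
  have hL1 : L ≠ ⊥ := fun e => hT.hyp.t1 (by have := hT.hyp.tH.1; rwa [e] at this)
  have hn : (L.map K.subtype).Normal := by
    constructor
    rintro _ ⟨x, hx, rfl⟩ g
    let φ : MulAut K := MulAut.conjNormal g⁻¹
    haveI hL' : (L.map φ.toMonoidHom).Normal := hL.map _ φ.surjective
    rcases hT.simple (L ⊓ L.map φ.toMonoidHom)
      ⟨inf_le_left, le_normalizer_of_normal⟩ with h1 | h1
    · have h2 : L.map φ.toMonoidHom ≤ centralizer (L : Set K) := by
        rw [← commutator_eq_bot_iff_le_centralizer, eq_bot_iff, ← h1, inf_comm]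
        exact commutator_le_inf _ _
      rw [hC, le_bot_iff] at h2
      exact (hL1 ((map_eq_bot_iff_of_injective (f := φ.toMonoidHom) _ φ.injective).1 h2)).elim
    · obtain ⟨y, hy, hxy⟩ := (h1.ge hx).2
      refine ⟨y, hy, ?_⟩
      have := congrArg Subtype.val hxy
      simp only [φ, MulEquiv.toMonoidHom_eq_coe, MonoidHom.coe_coe, MulAut.conjNormal_apply] at this
      change (y : G) = g * (x : G) * g⁻¹
      rw [← this]; group
  have hLK : L.map K.subtype ≤ K := map_subtype_le L
  have hVL : V ≤ L.map K.subtype := by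
    have h1 := H9.not_dvd_relIndex_sylow_inf (L.map K.subtype) P
    have h2 := H1.card_mul_relIndex (inf_le_right : (P : Subgroup G) ⊓ L.map K.subtype ≤ _)
    have h3 : 4 ∣ Nat.card (L.map K.subtype) := by
      rw [← Nat.card_congr e.toEquiv, ← hT.hyp.v4.card]
      exact card_dvd_of_le ((P5.V4.le_iff (t := a) (s := b)).2 ⟨hT.hyp.tH.1, hT.hyp.sH.1⟩)
    rw [← h2] at h3
    have h4 := Nat.Coprime.dvd_of_dvd_mul_right (k := 2 ^ 2)
      (((Nat.Prime.coprime_iff_not_dvd Nat.prime_two).2 h1).pow_left 2) h3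
    have h5 := H1.eq_of_le_of_card_le ((inf_le_inf_left _ hLK).trans hPK)
      (h.card.le.trans (Nat.le_of_dvd Nat.card_pos h4))
    exact h5.ge.trans inf_le_right
  haveI := hT.isSimpleGroup
  refine ⟨L.map K.subtype, hn, e.symm.isSimpleGroup, fun hc => hT.not_comm ⟨⟨fun x y =>
    e.injective (by rw [map_mul, map_mul, hc.is_comm.comm])⟩⟩, ?_, hT.isL2.of_equiv e.symm⟩
  have h1 : centralizer (L.map K.subtype : Set G) ⊓ K = ⊥ := by
    rw [eq_bot_iff]
    intro g hg
    have : (⟨g, hg.2⟩ : K) ∈ centralizer (L : Set K) := fun y hy =>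
      Subtype.ext (hg.1 y ⟨y, hy, rfl⟩)
    rw [hC] at this
    exact congrArg Subtype.val (mem_bot.1 this)
  have h2 := h.le_of_normal hK (centralizer_le hVL) (h1.le.trans bot_le)
  exact eq_bot_iff.2 ((le_inf le_rfl (h2.trans (hVL.trans hLK))).trans h1.le)

theorem normal_of_solv (hO : pPrimeCore 2 G = ⊥) [Group.IsSolvable G] :
    V.Normal ∧ centralizer (V : Set G) ≤ V := by
  obtain ⟨K, hKn, hPK, hK⟩ := h.exists_K
  have hC := L.centralizer_pCore_le Nat.prime_two (L.isPSolvable_of_isSolvable Nat.prime_two)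
    (core_eq_bot hO K)
  haveI := L.pCore_characteristic (G := K) Nat.prime_two
  set W := (pCore 2 K).map K.subtype with hW
  haveI hWn : W.Normal := inferInstance
  have hW2 : IsPGroup 2 W := (L.isPGroup_pCore 2).map _
  have hWV : W ≤ V := (le_inf (hW2.le_sylow_of_normal P) (map_subtype_le _)).trans hPK
  have hCW : ∀ g ∈ K, g ∈ centralizer (W : Set G) → g ∈ W := fun g hg hc =>
    ⟨⟨g, hg⟩, hC fun y hy => Subtype.ext (hc y ⟨y, hy, rfl⟩), rfl⟩
  have htK : t ∈ K := by
    obtain ⟨k, hk⟩ := hK (t : G)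
    exact H8.mem_of_pow_mem_of_coprime ((Nat.coprime_two_right.2 h.odd).pow_right k)
      ((QuotientGroup.eq_one_iff _).1 (by rw [QuotientGroup.mk_pow, hk]))
  have h1 := H3.four_mul_card_inf_centralizer_le hW2 (le_normalizer_of_normal (mem_top t)) h.odd
    fun hc => h.ncent (h.le_cent (hWV (hCW t htK hc)))
  have h2 : W = V := H1.eq_of_le_of_card_le hWV (by
    have : 0 < Nat.card (W ⊓ centralizer ({t} : Set G) : Subgroup G) := Nat.card_pos
    rw [h.card]; omega)
  rw [h2] at hWn hCW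
  exact ⟨hWn, h.le_of_normal hK le_rfl fun g hg => hCW g hg.2 hg.1⟩

theorem solv (hO : pPrimeCore 2 G = ⊥) [Group.IsSolvable G] :
    Nonempty (G ≃* alternatingGroup (Fin 4)) ∨ Nonempty (G ≃* Equiv.Perm (Fin 4)) := by
  obtain ⟨hn, hC⟩ := h.normal_of_solv hO
  have h1 := (relIndex_centralizer_dvd_card_mulAut (A := ⊤) (P := V)
    le_normalizer_of_normal).trans (card_mulAut_dvd_six h.card)
  rw [relIndex_top_right, le_antisymm hC h.le_cent] at h1
  have h2 := V.card_mul_index
  rw [h.card] at h2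
  have ht1 : orderOf t ≠ 1 := fun e => h.ncent (by rw [orderOf_eq_one_iff.1 e]; exact one_mem _)
  have ht : orderOf t = 3 := by
    have h3 : orderOf t ∣ 2 ^ 3 * 3 := by
      refine (orderOf_dvd_natCard t).trans ?_
      rw [← h2]
      exact (Nat.mul_dvd_mul_left 4 h1)
    exact ((Nat.dvd_prime Nat.prime_three).1 (Nat.Coprime.dvd_of_dvd_mul_left
      ((Nat.coprime_two_right.2 h.odd).pow_right 3) h3)).resolve_left ht1
  have hT : Nat.card (zpowers t) = 3 := by rw [Nat.card_zpowers, ht]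
  have hTn : ¬ (zpowers t).Normal := fun hn => by
    have := eq_bot_of_coprime hO hn (by rw [hT]; norm_num)
    rw [this, card_bot] at hT
    omega
  have h3 : 3 ∣ Nat.card G := ht ▸ orderOf_dvd_natCard t
  have h4 : V.index = 3 ∨ V.index = 6 := by
    have := Nat.le_of_dvd (by norm_num) h1
    rw [← h2] at h3
    interval_cases V.index <;> omega
  rcases h4 with h4 | h4
  · exact Or.inl (H5.nonempty_mulEquiv_alternating_four (by omega) hT hTn)
  right
  have hG : Nat.card G = 24 := by omega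
  haveI := Fact.mk Nat.prime_three
  have hTi : (zpowers t).index = 8 := by
    have := (zpowers t).card_mul_index
    rw [hT, hG] at this
    omega
  let T : Sylow 3 G := (IsPGroup.of_card (G := zpowers t) (n := 1) (by rw [hT, pow_one])).toSylow (by
    rw [hTi]; norm_num)
  have hN : (normalizer (zpowers t : Set G)).index = 4 := by
    have a1 : Nat.card (Sylow 3 G) = (normalizer (zpowers t : Set G)).index :=
      T.card_eq_index_normalizer
    have a2 := card_sylow_modEq_one 3 G
    have a3 : (normalizer (zpowers t : Set G)).index ∣ 8 := hTi ▸ index_dvd_of_le le_normalizer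
    have a4 : (normalizer (zpowers t : Set G)).index ≠ 1 := fun e =>
      hTn (normalizer_eq_top_iff.1 (index_eq_one.1 e))
    rw [a1] at a2
    have := Nat.le_of_dvd (by norm_num) a3
    interval_cases (normalizer (zpowers t : Set G)).index <;> simp_all [Nat.ModEq]
  set N := normalizer (zpowers t : Set G) with hNdef
  let e : G ⧸ N ≃ Fin 4 := Finite.equivFinOfCardEq hN
  let f : G →* Equiv.Perm (Fin 4) :=
    (e.permCongrHom : _ →* _).comp (MulAction.toPermHom G (G ⧸ N))
  have hf : Function.Injective f := by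
    refine e.permCongrHom.injective.comp ((MonoidHom.ker_eq_bot_iff _).1 ?_)
    rw [← normalCore_eq_ker]
    have a1 := H3.four_mul_card_inf_centralizer_le h.isPGroup h.norm h.odd h.ncent
    have a2 : V ⊓ centralizer ({t} : Set G) = ⊥ := by
      rw [h.card] at a1
      exact eq_bot_of_card_le _ (by omega)
    have a3 : N.normalCore ⊓ V = ⊥ := by
      rw [eq_bot_iff, ← a2]
      intro v hv
      refine ⟨hv.2, mem_centralizer_singleton_iff.2 ?_⟩
      have b0 : v * t * v⁻¹ * t⁻¹ ∈ zpowers t := mul_mem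
        ((mem_normalizer_iff.1 (N.normalCore_le hv.1) t).1 (mem_zpowers t))
        (inv_mem (mem_zpowers t))
      have b2 : v * t * v⁻¹ * t⁻¹ ∈ V := by
        have := V.mul_mem hv.2 (hn.conj_mem _ (V.inv_mem hv.2) t)
        simpa only [mul_assoc] using this
      have b1 : v * t * v⁻¹ * t⁻¹ ∈ zpowers t ⊓ V := ⟨b0, b2⟩
      rw [(disjoint_of_coprime_natCard (by rw [hT, h.card]; norm_num)).eq_bot, mem_bot] at b1
      calc v * t = v * t * v⁻¹ * t⁻¹ * (t * v) := by group
        _ = t * v := by rw [b1, one_mul]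
    have a4 : N.normalCore ≤ V := by
      refine le_trans ?_ hC
      rw [← commutator_eq_bot_iff_le_centralizer, eq_bot_iff, ← a3]
      exact commutator_le_inf _ _
    rwa [inf_eq_left.2 a4] at a3
  exact ⟨MulEquiv.ofBijective f ((Nat.bijective_iff_injective_and_card f).2 ⟨hf, by
    rw [hG, Nat.card_perm, Nat.card_fin]; rfl⟩)⟩

theorem main (hO : pPrimeCore 2 G = ⊥) :
    Nonempty (G ≃* alternatingGroup (Fin 4)) ∨ Nonempty (G ≃* Equiv.Perm (Fin 4)) ∨
    ∃ S : Subgroup G, S.Normal ∧ IsSimpleGroup S ∧ ¬ IsMulCommutative S ∧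
      centralizer (S : Set G) = ⊥ ∧ P5.IsL2 S := by
  by_cases hs : Group.IsSolvable G
  · exact (h.solv hO).imp_right Or.inl
  · exact Or.inr (Or.inr (h.nonsolv hO hs))

end Data

end Cfsg.Agent.H6.Half
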