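import Cfsg.Agent.H6.ClassLemmas
import Cfsg.Agent.H6.PiElem

/-! Camina's lemma: a group acting on an abelian group so that all non-identity elements have the
same fixed points `Z`; two primes cannot both divide the group order and `|A : Z|`. -/

set_option autoImplicit false
set_option linter.style.haveILetI false

namespace Cfsg.Agent.H6

open Subgroup
open scoped commutatorElement Pointwise

variable {Y : Type*} [Group Y] [Finite Y]

section

variable {s : ℕ} [hs : Fact s.Prime] {V D : Subgroup Y} [V.Normal] [D.Normal]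
  (hV : IsPGroup s V) (hab : IsMulCommutative V) (hVc : ¬ V ≤ center Y)
  (hD : D ≤ centralizer (V : Set Y))
  (hC : ∀ g, g ∉ D → V ⊓ centralizer ({g} : Set Y) ≤ center Y)

include hV hVc hC in
omit [V.Normal] [D.Normal] in
theorem camina_F1 {W : Subgroup Y} (hW1 : W ⊓ center Y = ⊥) (hW2 : W ⊔ (V ⊓ center Y) = V)
    {u : Y} {k : ℕ} (hu : orderOf u = s ^ k) (hun : u ∈ normalizer (W : Set Y)) : u ∈ D := by
  by_contra huD
  have hWV : W ≤ V := hW2 ▸ le_sup_left
  have hW : W ≠ ⊥ := by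
    rintro rfl
    rw [bot_sup_eq] at hW2
    exact hVc (hW2 ▸ inf_le_right)
  obtain ⟨j, hj⟩ := IsPGroup.iff_card.1 (hV.to_le hWV)
  obtain ⟨Q, hQ1, hQ2, -⟩ := H2.inf_centralizer_ne_bot_of_isPGroup
    (H8.isPGroup_zpowers_of_orderOf hu) (N := W) (zpowers_le.2 hun) (by
      rw [hj]
      refine dvd_pow_self s ?_
      rintro rfl
      exact hW (card_eq_one.1 (by simpa using hj)))
  refine hQ2 (le_bot_iff.1 (hW1 ▸ le_inf (hQ1.trans inf_le_left) ?_))
  exact hQ1.trans ((inf_le_inf hWV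
    (centralizer_le (Set.singleton_subset_iff.2 (mem_zpowers u)))).trans (hC u huD))

include hV hab hC in
omit [D.Normal] in
theorem camina_F2 {v : Y} (hv : (orderOf v).Coprime s) (hvD : v ∉ D) :
    ⁅V, zpowers v⁆ ⊓ center Y = ⊥ ∧ ⁅V, zpowers v⁆ ⊔ (V ⊓ center Y) = V := by
  have hcop : (Nat.card (zpowers v)).Coprime (Nat.card V) :=
    H1.coprime_card_of_isPGroup hV (by rwa [Nat.card_zpowers])
  constructor
  · rw [eq_bot_iff, ← H1.centralizer_inf_commutator_eq_bot hab le_normalizer_of_normal hcop]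
    exact le_inf (inf_le_right.trans (center_le_centralizer _)) inf_le_left
  · refine le_antisymm (sup_le (commutator_le_left _ _) inf_le_left) ?_
    conv_lhs => rw [← H1.commutator_sup_centralizer le_normalizer_of_normal hcop
      (Or.inl (H1.isSolvable_of_isMulCommutative inferInstance))]
    refine sup_le_sup_left (le_inf inf_le_left ?_) _
    exact (inf_le_inf_left _
      (centralizer_le (Set.singleton_subset_iff.2 (mem_zpowers v)))).trans (hC v hvD)

include hV hVc hC in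
theorem camina_F3 {W : Subgroup Y} (hW1 : W ⊓ center Y = ⊥) (hW2 : W ⊔ (V ⊓ center Y) = V)
    {g : Y} (hgD : g ∉ D) (hg : g ∈ normalizer (W : Set Y)) :
    ∃ b ∈ zpowers g, (orderOf b).Coprime s ∧ b ∉ D ∧
      ∀ W' : Subgroup Y, W' ⊓ center Y = ⊥ → W' ⊔ (V ⊓ center Y) = V →
        g ∈ normalizer (W' : Set Y) → W' = ⁅V, zpowers b⁆ := by
  obtain ⟨a, b, ha, hb, rfl, -, ⟨k, hk⟩, hb'⟩ := H8.exists_pPart_pPrimePart hs.out g
  have haD := camina_F1 hV hVc hC hW1 hW2 hk (zpowers_le.2 hg ha)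
  have hbD : b ∉ D := fun h => hgD (D.mul_mem haD h)
  refine ⟨b, hb, hb', hbD, fun W' h1 h2 h3 => ?_⟩
  have hW'V : W' ≤ V := h2 ▸ le_sup_left
  have hbn : zpowers b ≤ normalizer (W' : Set Y) := zpowers_le.2 (zpowers_le.2 h3 hb)
  have hcop : (Nat.card (zpowers b)).Coprime (Nat.card W') :=
    H1.coprime_card_of_isPGroup (hV.to_le hW'V) (by rwa [Nat.card_zpowers])
  apply le_antisymm
  · conv_lhs => rw [← H1.commutator_sup_centralizer hbn hcop
      (Or.inl (H1.isSolvable_of_isMulCommutative inferInstance))]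
    refine sup_le (commutator_mono hW'V le_rfl) ?_
    refine le_trans ?_ bot_le
    rw [← h1]
    exact le_inf inf_le_left ((inf_le_inf hW'V
      (centralizer_le (Set.singleton_subset_iff.2 (mem_zpowers b)))).trans (hC b hbD))
  · rw [commutator_le]
    intro x hx c hc
    rw [← h2, sup_comm] at hx
    obtain ⟨z, hz, w, hw, rfl⟩ := (H1.mem_sup_iff_of_le_normalizer
      (inf_le_right.trans (center_le_normalizer _))).1 hx
    have h4 := mem_center_iff.1 hz.2
    have : ⁅z * w, c⁆ = w * (c * w⁻¹ * c⁻¹) := by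
      rw [commutatorElement_def, ← h4 w, mul_inv_rev]
      calc w * z * c * (z⁻¹ * w⁻¹) * c⁻¹ = w * (z * c) * z⁻¹ * w⁻¹ * c⁻¹ := by group
        _ = _ := by rw [← h4 c]; group
    rw [this]
    exact W'.mul_mem hw (H1.conj_mem_of_le_normalizer hbn hc (W'.inv_mem hw))

include hV hab hVc hD hC in
theorem camina_exists_normal {v : Y} (hv : (orderOf v).Coprime s) (hvD : v ∉ D) :
    ∃ K : Subgroup Y, K.Normal ∧ D ≤ K ∧ v ∉ K ∧ ∀ (u : Y) (k : ℕ), orderOf u = s ^ k → u ∈ K := by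
  obtain ⟨h1, h2⟩ := camina_F2 hV hab hC hv hvD
  set W := ⁅V, zpowers v⁆ with hW
  have hWV : W ≤ V := commutator_le_left _ _
  have hDH : D ≤ normalizer (W : Set Y) :=
    hD.trans ((centralizer_le hWV).trans (centralizer_le_normalizer _))
  obtain ⟨K, hK, hK1, hK2, -⟩ := exists_normal_of_wielandt hDH inferInstance
    (fun g hg x hx hgx => by
      by_contra hxD
      apply hg
      obtain ⟨b, -, -, -, hb⟩ := camina_F3 hV hVc hC h1 h2 hxD hx
      have h3 := hb W h1 h2 hx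
      have h4 := hb (W.map (MulAut.conj g⁻¹).toMonoidHom) (by
        rw [eq_bot_iff]
        intro y hy
        obtain ⟨hy1, hy2⟩ := mem_inf.1 hy
        rw [H1.mem_map_conj, mem_center_iff.1 hy2, inv_inv, mul_assoc,
          mul_inv_cancel, mul_one] at hy1
        rw [← h1]
        exact ⟨hy1, hy2⟩) (by
        have e1 : V.map (MulAut.conj g⁻¹).toMonoidHom = V :=
          H1.map_conj_eq_self_iff.2 (le_normalizer_of_normal (mem_top _))
        have e2 : (V ⊓ center Y).map (MulAut.conj g⁻¹).toMonoidHom = V ⊓ center Y :=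
          H1.map_conj_eq_self_iff.2 (le_normalizer_of_normal (mem_top _))
        rw [← e2, ← Subgroup.map_sup, h2, e1]) (by
        rw [H1.normalizer_map_conj, H1.mem_map_conj, inv_inv]
        exact hgx)
      rw [← h3, H1.map_conj_eq_self_iff, inv_mem_iff] at h4
      exact h4)
  refine ⟨K, hK, hK2 ▸ inf_le_left, fun h => hvD ?_, fun u k hu => (hK1 u).2 fun x hx => ?_⟩
  · rw [← hK2]
    exact ⟨h, H1.le_normalizer_commutator_self (mem_zpowers v)⟩
  · refine camina_F1 hV hVc hC h1 h2 (k := k) ?_ hx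
    rw [← hu]
    simpa using (MulAut.conj x⁻¹).orderOf_eq u

end

/-- Camina's lemma. -/
theorem camina_false {r q : ℕ} [hr : Fact r.Prime] [hq : Fact q.Prime] (hrq : r ≠ q)
    {V U D : Subgroup Y} [V.Normal] [U.Normal] [D.Normal]
    (hV : IsPGroup r V) (habV : IsMulCommutative V) (hVc : ¬ V ≤ center Y)
    (hDV : D ≤ centralizer (V : Set Y))
    (hCV : ∀ g, g ∉ D → V ⊓ centralizer ({g} : Set Y) ≤ center Y)
    (hU : IsPGroup q U) (habU : IsMulCommutative U) (hUc : ¬ U ≤ center Y)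
    (hDU : D ≤ centralizer (U : Set Y))
    (hCU : ∀ g, g ∉ D → U ⊓ centralizer ({g} : Set Y) ≤ center Y)
    {u v : Y} {i j : ℕ} (hu : orderOf u = r ^ i) (hv : orderOf v = q ^ j) (huD : u ∉ D)
    (hvD : v ∉ D) : False := by
  have hcop : q.Coprime r := (Nat.coprime_primes hq.out hr.out).2 hrq.symm
  obtain ⟨K, hK, hDK, hvK, hK'⟩ := camina_exists_normal hV habV hVc hDV hCV
    (by rw [hv]; exact hcop.pow_left j) hvD
  obtain ⟨J, hJ, hDJ, huJ, hJ'⟩ := camina_exists_normal hU habU hUc hDU hCU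
    (by rw [hu]; exact hcop.symm.pow_left i) huD
  have hc : Commute (u : Y ⧸ (K ⊓ J)) (v : Y ⧸ (K ⊓ J)) :=
    (H7.commutatorElement_mem_iff_commute _ u v).1
      (commutator_le_inf K J (commutator_mem_commutator (hK' u i hu) (hJ' v j hv)))
  obtain ⟨a, b, -, -, hab, hc', ⟨k, hk⟩, hb⟩ := H8.exists_pPart_pPrimePart hr.out (u * v)
  have hπ : ∀ {x : Y} {n : ℕ}, orderOf x = r ^ n →
      L.IsPiNum {r} (orderOf (x : Y ⧸ (K ⊓ J))) := fun {x n} h =>
    ((L.isPiNum_singleton_iff hr.out (orderOf_pos x).ne').2 ⟨n, h⟩).of_dvd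
      (orderOf_map_dvd (QuotientGroup.mk' _) x)
  have hπ' : ∀ {x : Y}, (orderOf x).Coprime r →
      L.IsPiNum {r}ᶜ (orderOf (x : Y ⧸ (K ⊓ J))) := fun {x} h =>
    ((L.isPiNum_compl_singleton_iff hr.out).2 h).of_dvd (orderOf_map_dvd (QuotientGroup.mk' _) x)
  obtain ⟨e1, e2⟩ := piPart_unique hc (hc'.map (QuotientGroup.mk' (K ⊓ J)))
    (by rw [← QuotientGroup.mk_mul, hab]; rfl) (hπ hu) (hπ' (by rw [hv]; exact hcop.pow_left j))
    (hπ hk) (hπ' hb)
  have haD : a ∉ D := fun h => huJ (by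
    have : (u : Y ⧸ (K ⊓ J)) = 1 := e1.trans ((QuotientGroup.eq_one_iff a).2 ⟨hDK h, hDJ h⟩)
    exact ((QuotientGroup.eq_one_iff u).1 this).2)
  have hbD : b ∉ D := fun h => hvK (by
    have : (v : Y ⧸ (K ⊓ J)) = 1 := e2.trans ((QuotientGroup.eq_one_iff b).2 ⟨hDK h, hDJ h⟩)
    exact ((QuotientGroup.eq_one_iff v).1 this).1)
  obtain ⟨h1, h2⟩ := camina_F2 hV habV hCV hb hbD
  refine haD (camina_F1 hV hVc hCV h1 h2 hk ?_)
  refine H1.le_normalizer_commutator (A := zpowers a) le_normalizer_of_normal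
    (H1.le_normalizer_of_le_centralizer ?_) (mem_zpowers a)
  rw [zpowers_le]
  rintro _ ⟨n, rfl⟩
  exact (hc'.symm.zpow_left n).eq

end Cfsg.Agent.H6
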