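import Cfsg.Agent.S4142
import Cfsg.Agent.S4112
import Cfsg.Agent.H8.Tate
import Cfsg.Agent.H5.Kegel
import Cfsg.Agent.H9.FrobCompl
import Cfsg.Agent.H7.ClassAux
import Cfsg.Agent.H3.PBasic
import Cfsg.Agent.H1.Section

/-! Camina pairs. -/

set_option autoImplicit false
set_option linter.style.haveILetI false

namespace Cfsg.Agent.H6

open Subgroup
open scoped commutatorElement Pointwise

variable {G : Type*} [Group G] [Finite G]

/-- `(G, N)` is a Camina pair (without the non-triviality conditions). -/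
def Cam (N : Subgroup G) : Prop := ∀ g : G, g ∉ N → ∀ n ∈ N, ∃ x : G, x * g * x⁻¹ = g * n

theorem Cam.eq_one {N : Subgroup G} (h : Cam N) {g n : G} (hg : g ∉ N) (hn : n ∈ N)
    (hc : Commute g n) (hcop : (orderOf g).Coprime (orderOf n)) : n = 1 := by
  obtain ⟨y, hy⟩ := h g hg n hn
  have h1 : orderOf (g * n) = orderOf g := by
    rw [← hy]; exact (MulAut.conj y).orderOf_eq g
  rw [hc.orderOf_mul_eq_mul_orderOf_of_coprime hcop] at h1
  rw [← orderOf_eq_one_iff]
  exact Nat.eq_of_mul_eq_mul_left (orderOf_pos g) (by rw [h1, mul_one])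

omit [Finite G] in
theorem Cam.map {N K : Subgroup G} [K.Normal] (h : Cam N) :
    Cam (N.map (QuotientGroup.mk' K)) := by
  rintro g hg _ ⟨n, hn, rfl⟩
  obtain ⟨g, rfl⟩ := QuotientGroup.mk'_surjective K g
  obtain ⟨x, hx⟩ := h g (fun h => hg ⟨g, h, rfl⟩) n hn
  exact ⟨QuotientGroup.mk' K x, by rw [← map_inv, ← map_mul, ← map_mul, hx, map_mul]⟩

theorem Cam.exists_transitive {N : Subgroup G} [hN : N.Normal] (h : Cam N) {p : ℕ}
    [hp : Fact p.Prime] (P : Sylow p G) (hd : p ∣ N.index) :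
    ∃ g ∈ (P : Subgroup G), g ∉ N ∧ g ^ p ∈ N ∧
      ∀ r ∈ (P : Subgroup G) ⊓ N, ∃ u ∈ (P : Subgroup G), u * g * u⁻¹ = g * r := by
  have hne : (P : Subgroup G).map (QuotientGroup.mk' N) ≠ ⊥ := fun h' => P.not_dvd_index
    (hd.trans (index_dvd_of_le ((Subgroup.map_eq_bot_iff _).1 h' |>.trans (QuotientGroup.ker_mk' N).le)))
  obtain ⟨_, ⟨w, hw, rfl⟩, hw1, hwc⟩ :=
    H7.exists_ne_one_central_of_isPGroup (P.isPGroup'.map (QuotientGroup.mk' N)) hne
  obtain ⟨j, hj⟩ := H8.exists_orderOf_eq_pow_of_mem (P.isPGroup'.map (QuotientGroup.mk' N))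
    ⟨w, hw, rfl⟩
  have hd' : p ∣ orderOf (QuotientGroup.mk' N w) := by
    rw [hj]
    refine dvd_pow_self p ?_
    rintro rfl
    exact hw1 (orderOf_eq_one_iff.1 hj)
  have hz := orderOf_pow_orderOf_div (orderOf_pos _).ne' hd'
  rw [← map_pow] at hz
  set g := w ^ (orderOf (QuotientGroup.mk' N w) / p) with hg
  have hgP : g ∈ (P : Subgroup G) := pow_mem hw _
  have hgN : g ∉ N := fun h' => hp.out.one_lt.ne' (by
    rw [← hz, orderOf_eq_one_iff]; exact (QuotientGroup.eq_one_iff g).2 h')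
  refine ⟨g, hgP, hgN, ?_, ?_⟩
  · rw [← QuotientGroup.eq_one_iff, QuotientGroup.mk_pow, ← hz]
    exact pow_orderOf_eq_one _
  have hsub : {y : G | ∃ u ∈ (P : Subgroup G), u * g * u⁻¹ = y} ⊆
      (fun r => g * r) '' (((P : Subgroup G) ⊓ N : Subgroup G) : Set G) := by
    rintro _ ⟨u, hu, rfl⟩
    refine ⟨g⁻¹ * (u * g * u⁻¹), mem_inf.2
      ⟨mul_mem (inv_mem hgP) (mul_mem (mul_mem hu hgP) (inv_mem hu)), ?_⟩, by simp⟩
    have h1 : Commute (QuotientGroup.mk' N u) (QuotientGroup.mk' N g) := by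
      rw [hg, map_pow]
      exact Commute.pow_right (mem_centralizer_singleton_iff.1 (hwc ⟨u, hu, rfl⟩)) _
    rw [← QuotientGroup.eq]
    change QuotientGroup.mk' N g = QuotientGroup.mk' N (u * g * u⁻¹)
    rw [map_mul, map_mul, h1.eq, map_inv, mul_inv_cancel_right]
  have h1 := (S4142.aux N g).1 (h g hgN)
  have h2 : Nat.card (centralizer ({g} : Set G) ⊓ (P : Subgroup G) : Subgroup G) ∣
      N.relIndex P := by
    obtain ⟨k, hk⟩ := IsPGroup.iff_card.1
      (P.isPGroup'.to_le (inf_le_right (a := centralizer ({g} : Set G))))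
    have h3 : p ^ k ∣ N.index := by
      rw [← hk]
      exact (card_dvd_of_le inf_le_left).trans (h1 ▸ card_subgroup_dvd_card _)
    rw [← relIndex_mul_index (le_sup_right : N ≤ (P : Subgroup G) ⊔ N), relIndex_sup_right] at h3
    rw [hk]
    exact Nat.Coprime.dvd_of_dvd_mul_right (((hp.out.coprime_iff_not_dvd).2 fun h' =>
      P.not_dvd_index (h'.trans (index_dvd_of_le le_sup_left))).pow_left k) h3
  have h4 := Set.eq_of_subset_of_ncard_le hsub (by
    rw [Set.ncard_image_of_injective _ (mul_right_injective g), ncard_conj_orbit]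
    have e1 := H1.card_inf_mul_relIndex (centralizer ({g} : Set G)) (P : Subgroup G)
    have e2 := H1.card_inf_mul_relIndex N (P : Subgroup G)
    have e3 := Nat.le_of_dvd (Nat.pos_of_ne_zero (L.relIndex_ne_zero _ _)) h2
    rw [← Nat.card_coe_set_eq, inf_comm]
    refine Nat.le_of_mul_le_mul_right ?_ (Nat.pos_of_ne_zero (L.relIndex_ne_zero N P))
    refine e2.le.trans ?_
    rw [← e1, mul_comm]
    exact Nat.mul_le_mul_left _ e3)
  intro r hr
  have : g * r ∈ {y : G | ∃ u ∈ (P : Subgroup G), u * g * u⁻¹ = y} := h4 ▸ ⟨r, hr, rfl⟩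
  exact this

theorem Cam.hasNPC {N : Subgroup G} [hN : N.Normal] (h : Cam N) {p : ℕ} [hp : Fact p.Prime]
    (hd : p ∣ N.index) : HasNormalPComplement p N := by
  obtain ⟨P⟩ : Nonempty (Sylow p G) := inferInstance
  obtain ⟨g, hgP, -, -, hg⟩ := h.exists_transitive P hd
  refine H8.hasNPC_of_normal_of_le_frattini P N fun r hr => ?_
  obtain ⟨u, hu, hur⟩ := hg r ⟨r.2, hr⟩
  have := H3.commutatorElement_mem_frattini P.isPGroup' (⟨g, hgP⟩⁻¹) ⟨u, hu⟩
  convert this using 1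
  apply Subtype.ext
  change (r : G) = g⁻¹ * u * g⁻¹⁻¹ * u⁻¹
  rw [inv_inv, mul_assoc, mul_assoc, ← mul_assoc u, hur, inv_mul_cancel_left]

theorem Cam.false_of_isNilpotent {N : Subgroup G} [hN : N.Normal] (h : Cam N)
    (hnil : Group.IsNilpotent N) {p q : ℕ} [hp : Fact p.Prime] [hq : Fact q.Prime] (hpq : p ≠ q)
    (hd : p ∣ N.index) (h1 : p ∣ Nat.card N) (h2 : q ∣ Nat.card N) : False := by
  obtain ⟨P⟩ : Nonempty (Sylow p G) := inferInstance
  obtain ⟨g, hgP, hgN, hgp, hg⟩ := h.exists_transitive P hd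
  have hNF : N ≤ fittingSubgroup G := L.le_fittingSubgroup hN hnil
  set K := pCore q G ⊓ N with hK
  set R := (P : Subgroup G) ⊓ N with hR
  have hKq : IsPGroup q K := (L.isPGroup_pCore q).to_le inf_le_left
  haveI : Nontrivial K := by
    obtain ⟨y, hy⟩ := exists_prime_orderOf_dvd_card' (G := N) q h2
    rw [← orderOf_coe] at hy
    refine ⟨⟨⟨y, L.mem_pCore_of_mem_fittingSubgroup hq.out (k := 1)
      (by rw [pow_one, ← hy, pow_orderOf_eq_one]) (hNF y.2), y.2⟩, 1, fun h => ?_⟩⟩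
    have : (y : G) = 1 := congrArg Subtype.val h
    rw [this, orderOf_one] at hy
    exact hq.out.one_lt.ne hy
  have hRK : R ≤ centralizer (K : Set G) :=
    (L.le_pCore_of_le_fittingSubgroup hp.out (P.isPGroup'.to_le inf_le_left)
      (inf_le_right.trans hNF)).trans ((L.pCore_le_pPrimeCore hp.out hq.out hpq).trans
      ((L.pPrimeCore_le_centralizer_pCore hq.out).trans (centralizer_le inf_le_left)))
  have hfpf : ∀ u ∈ (P : Subgroup G), u ∉ N → ∀ k ∈ K, Commute u k → k = 1 := by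
    intro u hu huN k hk hc
    obtain ⟨i, hi⟩ := H8.exists_orderOf_eq_pow_of_mem P.isPGroup' hu
    obtain ⟨j, hj⟩ := H8.exists_orderOf_eq_pow_of_mem hKq hk
    exact h.eq_one huN hk.2 hc (by
      rw [hi, hj]; exact ((Nat.coprime_primes hp.out hq.out).2 hpq).pow _ _)
  let f : (P : Subgroup G) →* MulAut K := H1.conjAut le_normalizer_of_normal
  have hker : ∀ u : (P : Subgroup G), f u = 1 ↔ (u : G) ∈ N := by
    intro u
    rw [← MonoidHom.mem_ker, H1.mem_ker_conjAut]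
    refine ⟨fun h => ?_, fun h => hRK ⟨u.2, h⟩⟩
    by_contra huN
    obtain ⟨k, hk⟩ := exists_ne (1 : K)
    exact hk (Subtype.ext (hfpf u u.2 huN k k.2 (h k k.2).symm))
  have hφ : H9.IsFrobAction f.range.subtype := by
    rintro ⟨_, u, rfl⟩ ha k hk
    refine Subtype.ext (hfpf u u.2 (fun h => ha (Subtype.ext ((hker u).2 h))) k k.2 ?_)
    have : (u : G) * k * (u : G)⁻¹ = k := congrArg Subtype.val hk
    exact mul_inv_eq_iff_eq_mul.1 this
  have hA : IsPGroup p (⊤ : Subgroup f.range) :=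
    (P.isPGroup'.of_surjective f.rangeRestrict f.rangeRestrict_surjective).to_subgroup ⊤
  have hRne : R ≠ ⊥ := by
    intro h'
    obtain ⟨Q, hQ⟩ := H8.exists_sylow_eq_subgroupOf P N
    refine H7.sylow_ne_bot_of_dvd Q h1 ?_
    rw [hQ, subgroupOf_eq_bot, disjoint_iff, ← hR, h']
  haveI : Group.IsNilpotent (P : Subgroup G) := P.isPGroup'.isNilpotent
  have hlt := L.commutator_lt_of_isNilpotent (N := R) (K := P) inf_le_left
    (H1.le_normalizer_inf le_normalizer le_normalizer_of_normal) hRne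
  obtain ⟨r, hr, hrM⟩ := SetLike.exists_of_lt hlt
  obtain ⟨u, hu, hur⟩ := hg r hr
  apply hrM
  have hr' : r = g⁻¹ * u * g * u⁻¹ := by
    rw [mul_assoc, mul_assoc, ← mul_assoc u, hur, inv_mul_cancel_left]
  by_cases huN : u ∈ N
  · rw [hr', commutator_comm]
    simpa [commutatorElement_def] using
      commutator_mem_commutator (H₁ := P) (H₂ := R) (inv_mem hgP) ⟨hu, huN⟩
  obtain ⟨k, hk⟩ := H8.exists_orderOf_eq_pow_of_mem hA (mem_top (f.rangeRestrict ⟨u, hu⟩))
  have hd' : p ∣ orderOf (f.rangeRestrict ⟨u, hu⟩) := by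
    rw [hk]
    refine dvd_pow_self p ?_
    rintro rfl
    exact huN ((hker ⟨u, hu⟩).1 (congrArg Subtype.val (orderOf_eq_one_iff.1 hk)))
  have h3 := hφ.mem_zpowers_of_isPGroup hp.out hA (mem_top _) (mem_top (f.rangeRestrict ⟨g, hgP⟩))
    (orderOf_pow_orderOf_div (orderOf_pos _).ne' hd') (by
      rw [← map_pow]
      exact Subtype.ext ((hker _).2 hgp))
  obtain ⟨j, hj⟩ := (zpowers_le.2 (npow_mem_zpowers _ _)) h3
  have h4 : (u ^ j)⁻¹ * g ∈ N := by
    refine (hker ((⟨u, hu⟩ ^ j)⁻¹ * ⟨g, hgP⟩)).1 ?_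
    have : f ⟨u, hu⟩ ^ j = f ⟨g, hgP⟩ := congrArg Subtype.val hj
    rw [map_mul, map_inv, map_zpow, this, inv_mul_cancel]
  have h5 := commutator_mem_commutator (H₁ := R) (H₂ := P)
    (inv_mem (show (u ^ j)⁻¹ * g ∈ R from
      mem_inf.2 ⟨mul_mem (inv_mem (zpow_mem hu j)) hgP, h4⟩)) hu
  rw [hr']
  convert h5 using 1
  rw [commutatorElement_def]
  group

theorem Cam.trichotomy {N : Subgroup G} [hN : N.Normal] (hN1 : N ≠ ⊥) (hN2 : N ≠ ⊤) (h : Cam N) :
    (∀ x ∈ N, x ≠ 1 → centralizer ({x} : Set G) ≤ N) ∨ IsPrimePow (Nat.card N) ∨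
      IsPrimePow N.index := by
  by_contra hcon
  push Not at hcon
  obtain ⟨h1, h2, h3⟩ := hcon
  have h4 : ¬ N.index.Coprime (Nat.card N) := fun hc => by
    obtain ⟨x, hx, hx1, hx2⟩ := h1
    exact hx2 ((S4112.result N N le_rfl hN1 hN2 h).1.2 hc x hx hx1)
  obtain ⟨t, ht, ht1, ht2⟩ := Nat.Prime.not_coprime_iff_dvd.1 h4
  have hother : ∀ n : ℕ, t ∣ n → ¬ IsPrimePow n → ∃ s, s.Prime ∧ s ∣ n ∧ s ≠ t := by
    intro n hn hn'
    by_contra hcon
    push Not at hcon
    exact hn' (isPrimePow_iff_unique_prime_dvd.2 ⟨t, ⟨ht, hn⟩, fun s hs => hcon s hs.1 hs.2⟩)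
  obtain ⟨s, hs, hs1, hst⟩ := hother _ ht1 h3
  haveI := Fact.mk ht
  haveI := Fact.mk hs
  by_cases hs2 : s ∣ Nat.card N
  · set K := pPrimeCore t G ⊓ pPrimeCore s G ⊓ N with hK
    have hc := L.card_eq_card_map_mk'_mul K N inf_le_right
    haveI : (N.map (QuotientGroup.mk' K)).Normal := hN.map _ (QuotientGroup.mk'_surjective K)
    have hmem : ∀ r : ℕ, r.Prime → r ∣ N.index → ∀ x : N, (orderOf x).Coprime r →
        (x : G) ∈ pPrimeCore r G := by
      intro r hr hd x hx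
      haveI := Fact.mk hr
      have h5 : (x : G) ∈ (pPrimeCore r N).map N.subtype :=
        ⟨x, H8.hasNPC_iff_forall_mem_pPrimeCore.1 (h.hasNPC hd) x hx, rfl⟩
      rw [L.map_subtype_pPrimeCore hr] at h5
      exact h5.1
    refine (h.map (K := K)).false_of_isNilpotent ?_ hst ?_ ?_ ?_
    · refine H8.isNilpotent_of_forall_hasNPC fun r hr hd => ?_
      haveI := Fact.mk hr
      by_cases hrt : r = t
      · exact H8.hasNPC_map (h.hasNPC (hrt ▸ ht1)) _
      by_cases hrs : r = s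
      · exact H8.hasNPC_map (h.hasNPC (hrs ▸ hs1)) _
      exfalso
      obtain ⟨y, hy⟩ := exists_prime_orderOf_dvd_card' r hd
      obtain ⟨x, ⟨m, hm⟩, rfl⟩ := H9.exists_pElement_map_eq
        ((QuotientGroup.mk' K).subgroupMap_surjective N) hr (k := 1) (hy.trans (pow_one r).symm)
      have h5 : (QuotientGroup.mk' K).subgroupMap N x = 1 :=
        Subtype.ext ((QuotientGroup.eq_one_iff (x : G)).2 ⟨⟨hmem t ht ht1 x (by
          rw [hm]; exact ((Nat.coprime_primes hr ht).2 hrt).pow_left m), hmem s hs hs1 x (by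
          rw [hm]; exact ((Nat.coprime_primes hr hs).2 hrs).pow_left m)⟩, x.2⟩)
      rw [h5, orderOf_one] at hy
      exact hr.one_lt.ne hy
    · rw [index_map_eq _ (QuotientGroup.mk'_surjective K)
        ((QuotientGroup.ker_mk' K).le.trans inf_le_right)]
      exact hs1
    · rw [hc] at hs2
      exact (hs.dvd_mul.1 hs2).resolve_right fun h' => L.not_dvd_card_pPrimeCore hs
        (h'.trans (card_dvd_of_le (inf_le_left.trans inf_le_right)))
    · rw [hc] at ht2
      exact (ht.dvd_mul.1 ht2).resolve_right fun h' => L.not_dvd_card_pPrimeCore ht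
        (h'.trans (card_dvd_of_le (inf_le_left.trans inf_le_left)))
  · obtain ⟨y, hy⟩ := exists_prime_orderOf_dvd_card' (G := G) s (hs1.trans N.index_dvd_card)
    have hyN : y ∉ N := fun h' => hs2 (hy ▸ N.orderOf_dvd_natCard h')
    obtain ⟨q, hq, hq1, hqt⟩ := hother _ ht2 h2
    haveI := Fact.mk hq
    refine h.false_of_isNilpotent (H5.isNilpotent_of_fpf hs N y (le_normalizer_of_normal (mem_top y))
      (hy ▸ pow_orderOf_eq_one y) fun k hk hc => h.eq_one hyN hk hc ?_) hqt.symm ht1 ht2 hq1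
    rw [hy]
    exact Nat.Coprime.coprime_dvd_right (N.orderOf_dvd_natCard hk) ((hs.coprime_iff_not_dvd).2 hs2)

end Cfsg.Agent.H6
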