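import Cfsg.Agent.H6.Induction
import Cfsg.Agent.H6.Supplement
import Cfsg.Agent.H9.ClassSize
import Cfsg.Agent.H8.Schmidt
import Cfsg.Agent.H1.PAction
import Cfsg.Agent.H1.Abelian
import Cfsg.Agent.H7.Comm
import Cfsg.Agent.H7.Ito
import Cfsg.Agent.H2.Primitive
import Cfsg.Agent.H6.ZAction

/-! Class sizes and normal `p`-complements. -/

set_option autoImplicit false
set_option linter.style.haveILetI false

namespace Cfsg.Agent.H6

open Subgroup
open scoped commutatorElement Pointwise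

variable {G : Type*} [Group G] [Finite G]

/-- If all `p'`-elements have class size prime to `p`, the Sylow `p`-subgroup is normal. -/
theorem sylow_normal_of_coprime_class {p : ℕ} [hp : Fact p.Prime]
    (h : ∀ y : G, (orderOf y).Coprime p → ¬ p ∣ (centralizer ({y} : Set G)).index)
    (P : Sylow p G) : (P : Subgroup G).Normal := by
  rw [← normalizer_eq_top_iff]
  refine eq_top_of_forall_exists_conj_mem _ fun g => ?_
  obtain ⟨a, b, -, -, rfl, hab, ⟨k, hk⟩, hb⟩ := H8.exists_pPart_pPrimePart hp.out g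
  obtain ⟨Q, hQ1, hQ2, hQ3, hQ4⟩ := H1.exists_sylow_of_le (p := p)
    (H := centralizer ({b} : Set G)) (Q := zpowers a)
    (zpowers_le.2 (mem_centralizer_singleton_iff.2 hab)) (H8.isPGroup_zpowers_of_orderOf hk)
  obtain ⟨x, -, hx⟩ := H1.exists_conj_eq_sylow (H := ⊤) (P := P) (Q := Q) le_top P.isPGroup'
    (by rw [relIndex_top_right]; exact P.not_dvd_index) le_top hQ3 (by
      rw [relIndex_top_right, ← relIndex_mul_index hQ2]
      exact fun h' => (hp.out.dvd_mul.1 h').elim hQ4 (h b hb))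
  refine ⟨x⁻¹, ?_⟩
  rw [← hx, H1.normalizer_map_conj, H1.mem_map_conj]
  have : x⁻¹ * (x⁻¹⁻¹ * (a * b) * x⁻¹) * x = a * b := by group
  rw [this]
  refine mul_mem (le_normalizer (hQ1 (mem_zpowers a))) (centralizer_le_normalizer _ ?_)
  intro y hy
  exact mem_centralizer_singleton_iff.1 (hQ2 hy)

theorem mem_centralizer_sylow_of_coprime_class {p : ℕ} [hp : Fact p.Prime]
    (h : ∀ y : G, (orderOf y).Coprime p → ¬ p ∣ (centralizer ({y} : Set G)).index)
    (P : Sylow p G) {y : G} (hy : (orderOf y).Coprime p) :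
    y ∈ centralizer ((P : Subgroup G) : Set G) := by
  haveI := sylow_normal_of_coprime_class h P
  obtain ⟨Q, hQ⟩ := H9.not_dvd_index_iff_exists_sylow_le.1 (h y hy)
  haveI := P.unique_of_normal this
  rw [Subsingleton.elim P Q]
  intro z hz
  exact mem_centralizer_singleton_iff.1 (hQ hz)

theorem hasNPC_of_coprime_class {p : ℕ} [hp : Fact p.Prime]
    (h : ∀ y : G, (orderOf y).Coprime p → ¬ p ∣ (centralizer ({y} : Set G)).index) :
    HasNormalPComplement p G := by
  obtain ⟨P⟩ : Nonempty (Sylow p G) := inferInstance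
  exact H8.hasNPC_of_coprime_centralizes P fun X hX _ g _ hg =>
    centralizer_le hX (mem_centralizer_sylow_of_coprime_class h P hg)

/-- If the elements of order `p` (or `4`) of a normal `p`-subgroup `V` have `p`-power class size,
then `O^p(G)` centralizes `V`. -/
theorem le_centralizer_pResidual_of_class {p : ℕ} [hp : Fact p.Prime] (V : Subgroup G) [V.Normal]
    (hV : IsPGroup p V) (h : ∀ x ∈ V, (x ^ p = 1 ∨ (p = 2 ∧ x ^ 4 = 1)) →
      ∃ a : ℕ, (centralizer ({x} : Set G)).index = p ^ a) :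
    V ≤ centralizer (pResidual p G : Set G) := by
  set A := pResidual p G with hA
  set C := centralizer (A : Set G) with hC
  by_contra hcon
  obtain ⟨T, ⟨hTn, hTV, hTC⟩, hmin⟩ := WellFounded.has_min (wellFounded_lt (α := Subgroup G))
    {T | T.Normal ∧ T ≤ V ∧ ¬ T ≤ C} ⟨V, inferInstance, le_rfl, hcon⟩
  have hmin' : ∀ U : Subgroup G, U.Normal → U < T → U ≤ C := fun U h1 h2 => by
    by_contra h3
    exact hmin U ⟨h1, h2.le.trans hTV, h3⟩ h2
  have hT : IsPGroup p T := hV.to_le hTV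
  have hgen : ∀ x : G, (∀ g : G, (orderOf g).Coprime p → Commute g x) → x ∈ C := by
    intro x hx
    have : A ≤ centralizer {x} := by
      rw [hA, ← H8.pResidualOf_top, H8.pResidualOf_eq_closure, closure_le]
      intro g hg
      exact mem_centralizer_singleton_iff.2 (hx g hg.2)
    intro g hg
    exact mem_centralizer_singleton_iff.1 (this hg)
  have ha : ⁅T, A⁆ = T := by
    by_contra hne
    have h1 := hmin' _ inferInstance (lt_of_le_of_ne (commutator_le_left T A) hne)
    refine hTC fun x hx => hgen x fun g hg => ?_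
    have hgA : zpowers g ≤ A := zpowers_le.2 (H8.mem_pResidual_of_coprime hg)
    have := H1.le_centralizer_of_commutator_le (A := zpowers g) (G := T) (H := C)
      le_normalizer_of_normal (H1.coprime_card_of_isPGroup hT (by rwa [Nat.card_zpowers]))
      ((commutator_mono le_rfl hgA).trans h1) (hgA.trans (le_centralizer_iff.1 le_rfl))
    exact (this (mem_zpowers g) x hx).symm
  have hb : T ⊓ C ≤ centralizer (T : Set G) := by
    have h1 := H7.three_subgroups T A (T ⊓ C) ⊥ (by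
      rw [commutator_eq_bot_iff_le_centralizer.2 (le_centralizer_iff.1 inf_le_right),
        commutator_bot_left]) (by
      rw [le_bot_iff, commutator_eq_bot_iff_le_centralizer]
      exact (commutator_le_left _ _).trans inf_le_right)
    rw [ha, le_bot_iff, commutator_eq_bot_iff_le_centralizer] at h1
    exact le_centralizer_iff.1 h1
  have hTne : T ≠ ⊥ := by
    rintro rfl
    exact hTC bot_le
  have hc : (frattini T).map T.subtype ≤ T ⊓ C :=
    le_inf (map_subtype_le _) (hmin' _ inferInstance (H1.frattiniOf_lt hTne))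
  have hcomm : ⁅T, T⁆ ≤ T ⊓ C := (H1.commutator_le_frattiniOf hT.isNilpotent).trans hc
  have hpow : ∀ x ∈ T, x ^ p ∈ T ⊓ C := fun x hx => hc (H1.pow_mem_frattiniOf hT hx)
  have hcc : ∀ x ∈ T, ∀ y ∈ T, ∀ z ∈ T, Commute z ⁅x, y⁆ := fun x hx y hy z hz =>
    hb (hcomm (commutator_mem_commutator hx hy)) z hz
  have hd : ∀ x ∈ T, ∀ y ∈ T, ⁅x, y⁆ ^ p = 1 := fun x hx y hy => by
    rw [← H1.commutatorElement_pow_left_of_central (hcc x hx y hy x hx),
      commutatorElement_eq_one_iff_mul_comm]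
    exact (hb (hpow x hx) y hy).symm
  obtain ⟨n, hn1, hn2, hn3⟩ : ∃ n : ℕ, p ∣ n ∧ p ∣ n.choose 2 ∧
      ∀ x : G, x ^ n = 1 → (x ^ p = 1 ∨ (p = 2 ∧ x ^ 4 = 1)) := by
    rcases hp.out.eq_two_or_odd' with h2 | h2
    · exact ⟨4, by rw [h2]; norm_num, by rw [h2]; decide, fun x hx => Or.inr ⟨h2, hx⟩⟩
    · exact ⟨p, dvd_rfl, hp.out.dvd_choose_self (by norm_num)
        (lt_of_le_of_ne hp.out.two_le (by rintro rfl; exact absurd h2 (by decide))),
        fun x hx => Or.inl hx⟩
  have hmul : ∀ x ∈ T, ∀ y ∈ T, (x * y) ^ n = x ^ n * y ^ n := fun x hx y hy => by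
    obtain ⟨m, hm⟩ := hn2
    rw [H1.mul_pow_of_central (hcc y hy x hx x hx) (hcc y hy x hx y hy), hm, pow_mul,
      hd y hy x hx, one_pow, mul_one]
  let Ω : Subgroup G :=
    { carrier := {x | x ∈ T ∧ x ^ n = 1}
      one_mem' := ⟨one_mem _, one_pow _⟩
      mul_mem' := fun {a b} ha hb => ⟨mul_mem ha.1 hb.1, by
        rw [hmul a ha.1 b hb.1, ha.2, hb.2, mul_one]⟩
      inv_mem' := fun {a} ha => ⟨inv_mem ha.1, by rw [inv_pow, ha.2, inv_one]⟩ }
  have he : T ≤ Ω := by
    rw [← ha, commutator_le]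
    intro x hx a haA
    refine ⟨commutator_le_left T A (commutator_mem_commutator hx haA), ?_⟩
    have h1 : ⁅x, a⁆ = x * (a * x⁻¹ * a⁻¹) := by rw [commutatorElement_def]; group
    obtain ⟨m, rfl⟩ := hn1
    have h2 : (x⁻¹) ^ (p * m) ∈ C := by
      rw [pow_mul]; exact pow_mem (hpow _ (inv_mem hx)).2 m
    rw [h1, hmul x hx _ (hTn.conj_mem _ (inv_mem hx) a), conj_pow, h2 a haA]
    group
  -- a `P`-fixed point in `T / (T ⊓ C)`
  obtain ⟨P⟩ : Nonempty (Sylow p G) := inferInstance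
  obtain ⟨x, hxT, hxC, hx⟩ : ∃ x ∈ T, x ∉ C ∧ ∀ u ∈ (P : Subgroup G), ⁅u, x⁆ ∈ C := by
    have h1 : T.map (QuotientGroup.mk' C) ≠ ⊥ := fun h =>
      hTC ((H7.le_iff_map_mk'_eq_bot T C).2 h)
    haveI : (T.map (QuotientGroup.mk' C)).Normal := hTn.map _ (QuotientGroup.mk'_surjective C)
    obtain ⟨k, hk⟩ := IsPGroup.iff_card.1 (hT.map (QuotientGroup.mk' C))
    obtain ⟨Q, hQ1, hQ2, -⟩ := H2.inf_centralizer_ne_bot_of_isPGroup
      (P.isPGroup'.map (QuotientGroup.mk' C)) (N := T.map (QuotientGroup.mk' C))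
      le_normalizer_of_normal (by
        rw [hk]
        refine dvd_pow_self p ?_
        rintro rfl
        exact h1 (card_eq_one.1 (by simpa using hk)))
    obtain ⟨⟨y, hy⟩, hy1⟩ := ne_bot_iff_exists_ne_one.1 hQ2
    obtain ⟨⟨x, hx, rfl⟩, hy2⟩ := hQ1 hy
    refine ⟨x, hx, fun hxC => hy1 (Subtype.ext ((QuotientGroup.eq_one_iff x).2 hxC)),
      fun u hu => (H7.commutatorElement_mem_iff_commute C u x).2 (hy2 _ ⟨u, hu, rfl⟩)⟩
  obtain ⟨a, ha'⟩ := h x (hTV hxT) (hn3 x (he hxT).2)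
  refine hxC (hgen x fun g hg => ?_)
  obtain ⟨u, hu, hug⟩ := H9.exists_sylow_conj_eq ha' P g
  have h1 : ⁅g, x⁆ ∈ C := by
    rw [commutatorElement_def, ← hug]; exact hx u hu
  have h2 : ⁅g, x⁆ ^ orderOf g = 1 := by
    rw [← H1.commutatorElement_pow_left_of_central (h1 g (H8.mem_pResidual_of_coprime hg)),
      pow_orderOf_eq_one, commutatorElement_one_left]
  have h3 : ⁅g, x⁆ ∈ T := T.mul_mem (hTn.conj_mem x hxT g) (T.inv_mem hxT)
  obtain ⟨k, hk⟩ := H8.exists_orderOf_eq_pow_of_mem hT h3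
  exact commutatorElement_eq_one_iff_mul_comm.1 (H8.eq_one_of_orderOf_pow_of_coprime hk
    (Nat.Coprime.coprime_dvd_left (orderOf_dvd_of_pow_eq_one h2) hg))

/-- A group with a cyclic Sylow `p`-subgroup and a central element of order `p` is
`p`-nilpotent. -/
theorem hasNPC_of_isCyclic_of_central {p : ℕ} [hp : Fact p.Prime] (P : Sylow p G)
    (hP : IsCyclic (P : Subgroup G)) {z : G} (hz : orderOf z = p) (hzc : z ∈ center G) :
    HasNormalPComplement p G := by
  refine H8.hasNPC_of_coprime_centralizes P fun X hX _ g hg hc => ?_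
  have hzP : z ∈ (P : Subgroup G) := H9.mem_sylow_of_mem_normalizer P (k := 1)
    (by rw [hz, pow_one]) (center_le_normalizer _ hzc)
  haveI : IsCyclic X := isCyclic_of_le hX
  refine H1.le_centralizer_of_abelian_of_prime_order (A := zpowers g) (V := X) inferInstance
    (zpowers_le.2 hg) (H1.coprime_card_of_isPGroup (P.isPGroup'.to_le hX)
      (by rwa [Nat.card_zpowers])) (fun v hv hvp => ?_) (mem_zpowers g)
  obtain ⟨k, hk⟩ := H8.exists_orderOf_eq_pow_of_mem P.isPGroup' (hX hv)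
  have h1 : orderOf v = p := by
    rw [hk] at hvp ⊢
    rw [(Nat.prime_iff.1 hvp |> fun h => (Nat.Prime.eq_one_of_pow hvp)), pow_one]
  exact center_le_centralizer _ ((zpowers_le.2 hzc)
    (mem_zpowers_of_orderOf_dvd (hX hv) hzP (by rw [h1, hz])))

end Cfsg.Agent.H6
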