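import Cfsg.Agent.H6.Rotation
import Cfsg.Agent.H9.ClassSize
import Cfsg.Agent.H1.Coprime
import Cfsg.Agent.L.BaerSuzuki
import Cfsg.Agent.L.MinNormal

/-!
Kazarin's theorem: an element with a conjugacy class of prime power size lies in the solvable
radical.
-/

set_option autoImplicit false
set_option linter.style.haveILetI false

open scoped ComplexConjugate

namespace Cfsg.Agent.H6

universe u

variable {G : Type*} [Group G]

theorem pow_pow_sub_one_mem_pow {R : Type*} [CommRing R] (I : Ideal R) {q : ℕ} (hq : (q : R) ∈ I)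
    {u : R} (hu : u - 1 ∈ I) (j : ℕ) : u ^ q ^ j - 1 ∈ I ^ (j + 1) := by
  induction j with
  | zero => simpa using hu
  | succ j ih =>
    rw [pow_succ q, pow_mul, ← mul_geom_sum, pow_succ I]
    refine Ideal.mul_mem_mul ih ?_
    have h1 : u ^ q ^ j - 1 ∈ I := Ideal.pow_le_self (Nat.succ_ne_zero j) ih
    have h2 : ∑ i ∈ Finset.range q, (u ^ q ^ j) ^ i =
        ∑ i ∈ Finset.range q, ((u ^ q ^ j) ^ i - 1) + q := by
      simp [Finset.sum_sub_distrib]
    rw [h2]
    refine I.add_mem (I.sum_mem fun i _ => ?_) hq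
    rw [← mul_geom_sum]
    exact I.mul_mem_right _ h1

/-- An abstract form of the limiting argument. -/
theorem exists_sum_filter_eq_zero {ι : Type*} [Fintype ι] (c ω : ι → ℂ)
    (hc : ∀ i, IsIntegral ℤ (c i)) (hω : ∀ i, IsIntegral ℤ (ω i)) {q : ℕ} (hq : q.Prime) (ν : ℕ)
    (h : ∀ m, m ≠ 0 → ∀ s, q ^ (ν + s) ∣ m → ∃ k : ℕ, ∑ i, c i * ω i ^ m = (q : ℂ) ^ s * k) :
    ∃ B : Finset ι, (∀ i ∈ B, ω i ≠ 0) ∧
      (∀ i, ∀ n a : ℕ, n ≠ 0 → a.Coprime q → ω i ^ n = a → i ∈ B) ∧ ∑ i ∈ B, c i = 0 := by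
  classical
  let S : Set ℂ := Set.range c ∪ Set.range ω
  have hS : S.Finite := (Set.finite_range c).union (Set.finite_range ω)
  have hSi : ∀ z ∈ S, IsIntegral ℤ z := by
    rintro z (⟨i, rfl⟩ | ⟨i, rfl⟩)
    exacts [hc i, hω i]
  let R := Algebra.adjoin ℤ S
  have hfg : (Subalgebra.toSubmodule R).FG := fg_adjoin_of_finite hS hSi
  haveI : Module.Finite ℤ R := Module.Finite.of_fg hfg
  haveI : IsNoetherianRing R := IsNoetherianRing.of_finite ℤ R
  have hne : Ideal.span {(q : R)} ≠ ⊤ := by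
    intro htop
    rw [Ideal.span_singleton_eq_top] at htop
    obtain ⟨v, hv⟩ := htop.exists_right_inv
    have hv' : (q : ℂ) * (v : ℂ) = 1 := by simpa using congrArg Subtype.val hv
    have hq0 : (q : ℂ) ≠ 0 := by exact_mod_cast hq.ne_zero
    have hvi : IsIntegral ℤ (v : ℂ) := IsIntegral.of_mem_of_fg R hfg _ v.2
    have : (v : ℂ) = ((1 : ℤ) : ℂ) / q := by
      rw [eq_div_iff hq0, mul_comm, hv']; simp
    rw [this] at hvi
    have h1 := dvd_of_isIntegral_div hq.ne_zero hvi
    exact hq.one_lt.ne' (by exact_mod_cast Int.eq_one_of_dvd_one (by positivity) h1)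
  obtain ⟨I, hI, hqI⟩ := Ideal.exists_le_maximal _ hne
  have hqI' : (q : R) ∈ I := hqI (Ideal.mem_span_singleton_self _)
  haveI : Finite (R ⧸ I) := by
    refine Module.finite_of_fg_torsion (R ⧸ I) fun z => ?_
    refine ⟨⟨(q : ℤ), mem_nonZeroDivisors_of_ne_zero (by exact_mod_cast hq.ne_zero)⟩, ?_⟩
    obtain ⟨z, rfl⟩ := Ideal.Quotient.mk_surjective z
    change (q : ℤ) • (Ideal.Quotient.mk I z) = 0
    rw [zsmul_eq_mul, Int.cast_natCast, ← map_natCast (Ideal.Quotient.mk I), ← map_mul,
      Ideal.Quotient.eq_zero_iff_mem]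
    exact I.mul_mem_right _ hqI'
  letI := Ideal.Quotient.field I
  letI := Fintype.ofFinite (R ⧸ I)
  let c' : ι → R := fun i => ⟨c i, Algebra.subset_adjoin (Or.inl ⟨i, rfl⟩)⟩
  let ω' : ι → R := fun i => ⟨ω i, Algebra.subset_adjoin (Or.inr ⟨i, rfl⟩)⟩
  refine ⟨Finset.univ.filter fun i => ω' i ∉ I, ?_, ?_, ?_⟩
  · intro i hi h0
    refine (Finset.mem_filter.mp hi).2 ?_
    have : ω' i = 0 := Subtype.ext h0
    rw [this]; exact I.zero_mem
  · intro i n a hn ha hna
    refine Finset.mem_filter.mpr ⟨Finset.mem_univ _, fun hi => hI.ne_top ?_⟩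
    have h1 : (a : R) ∈ I := by
      have : (a : R) = ω' i ^ n := Subtype.ext (by simpa [ω'] using hna.symm)
      rw [this]
      exact I.pow_mem_of_mem hi n (Nat.pos_of_ne_zero hn)
    have h2 : IsCoprime (a : R) (q : R) := by
      simpa using (Nat.isCoprime_iff_coprime.mpr ha).map (Int.castRingHom R)
    obtain ⟨u, v, huv⟩ := h2
    rw [Ideal.eq_top_iff_one, ← huv]
    exact I.add_mem (I.mul_mem_left _ h1) (I.mul_mem_left _ hqI')
  · set N := Fintype.card (R ⧸ I) - 1 with hN
    have hN0 : N ≠ 0 := by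
      have := Fintype.one_lt_card (α := R ⧸ I)
      omega
    have key : ∀ s, ∑ i ∈ Finset.univ.filter (fun i => ω' i ∉ I), c' i ∈ I ^ s := by
      intro s
      obtain ⟨k, hk⟩ := h (N * q ^ (ν + s)) (mul_ne_zero hN0 (pow_ne_zero _ hq.ne_zero)) s
        (dvd_mul_left _ _)
      have hk' : ∑ i, c' i * ω' i ^ (N * q ^ (ν + s)) = (q : R) ^ s * k :=
        Subtype.ext (by simpa [c', ω'] using hk)
      have h1 : ∑ i ∈ Finset.univ.filter (fun i => ω' i ∉ I), c' i =
          (q : R) ^ s * k - ∑ i, c' i * (ω' i ^ (N * q ^ (ν + s)) - if ω' i ∉ I then 1 else 0) := by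
        rw [← hk', ← Finset.sum_sub_distrib, Finset.sum_filter]
        exact Finset.sum_congr rfl fun i _ => by split_ifs <;> ring
      rw [h1]
      refine Ideal.sub_mem _ (Ideal.mul_mem_right _ _ (Ideal.pow_mem_pow hqI' s))
        (Ideal.sum_mem _ fun i _ => Ideal.mul_mem_left _ _ ?_)
      split_ifs with hi
      · rw [sub_zero]
        refine Ideal.pow_le_pow_right ?_ (Ideal.pow_mem_pow hi _)
        calc s ≤ ν + s := Nat.le_add_left _ _
          _ ≤ q ^ (ν + s) := (Nat.lt_pow_self hq.one_lt).le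
          _ ≤ N * q ^ (ν + s) := Nat.le_mul_of_pos_left _ (Nat.pos_of_ne_zero hN0)
      · rw [pow_mul]
        refine Ideal.pow_le_pow_right (by omega) (pow_pow_sub_one_mem_pow I hqI' ?_ (ν + s))
        rw [← Ideal.Quotient.eq_zero_iff_mem, map_sub, map_pow, map_one,
          FiniteField.pow_card_sub_one_eq_one _ (by rwa [Ne, Ideal.Quotient.eq_zero_iff_mem]),
          sub_self]
    have h0 : ∑ i ∈ Finset.univ.filter (fun i => ω' i ∉ I), c' i = 0 := by
      rw [← Ideal.mem_bot, ← Ideal.iInf_pow_eq_bot_of_isDomain I hI.ne_top]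
      exact Ideal.mem_iInf.mpr key
    simpa [c'] using congrArg Subtype.val h0

open Classical in
/-- The squares of the degrees of the irreducible characters with `M` in their kernel add up to the
index of `M`. -/
theorem sum_irr_degree_sq_ker [Fintype G] [Fintype (IrrCharacter G)] (M : Subgroup G)
    [hM : M.Normal] :
    ∑ χ ∈ Finset.univ.filter (fun χ : IrrCharacter G => ∀ m ∈ M, χ.1 m = χ.1 1), χ.1 1 ^ 2 =
      M.index := by
  let f : G → ℂ := fun g => if g ∈ M then 1 else 0
  have hf : IsClassFunction G f := fun g h => by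
    simp only [f, hM.mem_comm_iff (a := h * g), inv_mul_cancel_left]
  have h1 : ∀ χ : IrrCharacter G, χ.1 1 * ∑ g, f g * χ.1 g =
      if ∀ m ∈ M, χ.1 m = χ.1 1 then χ.1 1 ^ 2 * Nat.card M else 0 := by
    intro χ
    split_ifs with hχ
    · have : ∀ g, f g * χ.1 g = if g ∈ M then χ.1 1 else 0 := fun g => by
        simp only [f]
        split_ifs with hg
        · rw [one_mul, hχ g hg]
        · simp
      simp only [this]
      rw [← Finset.sum_filter, Finset.sum_const, nsmul_eq_mul, ← Fintype.card_subtype,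
        ← Nat.card_eq_fintype_card]
      ring
    · push Not at hχ
      obtain ⟨m, hm, hne⟩ := hχ
      have h2 := χ.2.sum_mul_mul hf m
      have h3 : ∑ g, f g * χ.1 (g * m) = ∑ g, f g * χ.1 g := by
        refine Fintype.sum_equiv (Equiv.mulRight m) _ _ fun g => ?_
        simp only [f, Equiv.coe_mulRight, M.mul_mem_cancel_right hm]
      rw [h3, div_mul_eq_mul_div, eq_div_iff χ.2.one_ne_zero] at h2
      by_contra h0
      exact hne (mul_left_cancel₀ (right_ne_zero_of_mul h0) h2).symm
  have h2 : ∑ χ : IrrCharacter G, χ.1 1 * ∑ g, f g * χ.1 g = Nat.card G := by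
    simp only [Finset.mul_sum]
    rw [Finset.sum_comm]
    have h3 : ∀ g, ∑ χ : IrrCharacter G, χ.1 1 * (f g * χ.1 g) =
        if g = 1 then (Nat.card G : ℂ) else 0 := by
      intro g
      have h4 : ∑ χ : IrrCharacter G, χ.1 1 * χ.1 g = if g = 1 then (Nat.card G : ℂ) else 0 := by
        convert sum_irr_degree_mul g
      simp only [mul_left_comm _ (f g)]
      rw [← Finset.mul_sum, h4]
      split_ifs with hg
      · simp [f, hg, M.one_mem]
      · simp
    simp only [h3]
    simp
  simp only [h1] at h2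
  rw [← Finset.sum_filter, ← Finset.sum_mul, ← M.index_mul_card, Nat.cast_mul] at h2
  exact mul_right_cancel₀ (card_ne_zero_complex M) h2

/-- The character-theoretic core of Kazarin's theorem. -/
theorem dvd_index_of_index_centralizer_eq_pow [Finite G] {x y : G} {p q a : ℕ} (hp : p.Prime)
    (hq : q.Prime) (hpq : p ≠ q) (hx : (Subgroup.centralizer ({x} : Set G)).index = p ^ a)
    (M : Subgroup G) [M.Normal] (hxM : ∀ g, x * g * x⁻¹ * g⁻¹ ∈ M)
    (hmin : ∀ N : Subgroup G, N.Normal → (∀ g, x * g * x⁻¹ * g⁻¹ ∈ N) → M ≤ N)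
    (hyM : y ∈ M) (hy : q ∣ orderOf y) : p ∣ M.index := by
  classical
  letI := Fintype.ofFinite G
  letI := Fintype.ofFinite (IrrCharacter G)
  have hint : ∀ χ : IrrCharacter G, IsIntegral ℤ (conj (χ.1 y)) := fun χ => by
    rw [← χ.2.isCharacter.apply_inv]
    exact χ.2.isCharacter.isIntegral _
  obtain ⟨B, hB1, hB2, hB3⟩ := exists_sum_filter_eq_zero
    (fun χ : IrrCharacter G => χ.1 1 * conj (χ.1 y))
    (fun χ => ((Subgroup.centralizer ({x} : Set G)).index : ℂ) * χ.1 x / χ.1 1)
    (fun χ => (χ.2.isCharacter.isIntegral _).mul (hint χ))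
    (fun χ => χ.2.isIntegral_central x) hq ((Nat.card G).factorization q)
    (fun m hm s hs => exists_sum_central_pow_eq x hq hy m hm s hs)
  let L := Finset.univ.filter (fun χ : IrrCharacter G => ∀ m ∈ M, χ.1 m = χ.1 1)
  have hLB : L ⊆ B := by
    intro χ hχ
    have hχ' := (Finset.mem_filter.mp hχ).2
    obtain ⟨K, hK, hK1, hK2, -⟩ := χ.2.isCharacter.exists_ker
    have hMK : M ≤ K := fun m hm => (hK1 m).mpr (hχ' m hm)
    have h1 : ∀ g, χ.1 (x * g) = χ.1 x / χ.1 1 * χ.1 g := by
      intro g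
      have h2 := χ.2.sum_mul_mul (isClassFunction_indicator x) g
      have h3 : ∀ g, ∑ z, (if IsConj x z then (1 : ℂ) else 0) * χ.1 (z * g) =
          (Subgroup.centralizer ({x} : Set G)).index * χ.1 (x * g) := by
        intro g
        have : ∀ z, (if IsConj x z then (1 : ℂ) else 0) * χ.1 (z * g) =
            if IsConj x z then χ.1 (x * g) else 0 := fun z => by
          split_ifs with hz
          · obtain ⟨c, rfl⟩ := isConj_iff.mp hz
            have h4 := hK2 _ (hK.conj_mem _ (hMK (hxM c)) (g⁻¹ * x⁻¹))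
              (c * x * c⁻¹ * g)
            rw [one_mul, ← h4]
            group
          · simp
        simp only [this]
        rw [← Finset.sum_filter, Finset.sum_const, nsmul_eq_mul, card_filter_isConj]
      have h4 := h3 1
      simp only [mul_one] at h4
      rw [h3, h4, mul_div_assoc, mul_assoc] at h2
      exact mul_left_cancel₀ (by exact_mod_cast Subgroup.index_ne_zero_of_finite) h2
    have h2 : ∀ n : ℕ, χ.1 (x ^ n) = (χ.1 x / χ.1 1) ^ n * χ.1 1 := by
      intro n
      induction n with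
      | zero => simp
      | succ n ih => rw [pow_succ', h1, ih]; ring
    have h3 := h2 (orderOf x)
    rw [pow_orderOf_eq_one, eq_comm, mul_eq_right₀ χ.2.one_ne_zero] at h3
    refine hB2 χ (orderOf x) (p ^ (a * orderOf x)) (orderOf_pos x).ne'
      (((Nat.coprime_primes hp hq).mpr hpq).pow_left _) ?_
    rw [mul_div_assoc, mul_pow, h3, hx, mul_one]
    push_cast
    ring
  have hL : ∑ χ ∈ L, χ.1 1 * conj (χ.1 y) = M.index := by
    rw [← sum_irr_degree_sq_ker M]
    refine Finset.sum_congr (by congr) fun χ hχ => ?_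
    rw [← χ.2.isCharacter.apply_inv, (Finset.mem_filter.mp hχ).2 _ (M.inv_mem hyM), sq]
  have hp0 : (p : ℂ) ≠ 0 := by exact_mod_cast hp.ne_zero
  have hrest : ∀ χ ∈ B \ L, IsIntegral ℤ (χ.1 1 * conj (χ.1 y) / p) := by
    intro χ hχ
    obtain ⟨hχB, hχL⟩ := Finset.mem_sdiff.mp hχ
    obtain ⟨n, -, hn⟩ := χ.2.exists_nat_one
    have hpn : p ∣ n := by
      by_contra hpn
      have hcop : n.Coprime (Subgroup.centralizer ({x} : Set G)).index := by
        rw [hx]
        exact (((Nat.Prime.coprime_iff_not_dvd hp).mpr hpn).symm).pow_right _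
      rcases χ.2.eq_zero_or_norm_eq hn x hcop with h0 | h0
      · exact hB1 χ hχB (by simp [h0])
      · obtain ⟨K, hK, hK1, -, hK3⟩ := χ.2.isCharacter.exists_ker
        have hMK := hmin K hK (hK3 x (by rw [h0, hn]; simp))
        exact hχL (Finset.mem_filter.mpr ⟨Finset.mem_univ _, fun m hm => (hK1 m).mp (hMK hm)⟩)
    obtain ⟨d, rfl⟩ := hpn
    rw [hn, Nat.cast_mul, mul_assoc, mul_div_cancel_left₀ _ hp0]
    exact (isIntegral_natCast d).mul (hint χ)
  rw [← Finset.sum_sdiff hLB, hL] at hB3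
  have h1 : (((M.index : ℤ)) : ℂ) / p = -∑ χ ∈ B \ L, χ.1 1 * conj (χ.1 y) / p := by
    rw [← Finset.sum_div, ← neg_div, neg_eq_of_add_eq_zero_right hB3]
    simp
  have h2 : IsIntegral ℤ ((((M.index : ℤ)) : ℂ) / p) := by
    rw [h1]
    exact (IsIntegral.sum _ hrest).neg
  exact_mod_cast dvd_of_isIntegral_div hp.ne_zero h2

/-- Kazarin's theorem for elements of prime power order. -/
theorem mem_solvableRadical_of_index_centralizer_aux (G : Type u) [Group G] [Finite G] :
    ∀ (x : G) (p q a k : ℕ), p.Prime → q.Prime → orderOf x = q ^ k →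
      (Subgroup.centralizer ({x} : Set G)).index = p ^ a → x ∈ solvableRadical G := by
  refine L.induction_on_card (P := fun G _ _ => ∀ (x : G) (p q a k : ℕ), p.Prime → q.Prime →
    orderOf x = q ^ k → (Subgroup.centralizer ({x} : Set G)).index = p ^ a →
    x ∈ solvableRadical G) G ?_
  intro G _ _ ih x p q a k hp hq hk hx
  haveI := Fact.mk hp
  haveI := Fact.mk hq
  by_cases hpq : p = q
  · subst hpq
    exact L.le_solvableRadical inferInstance (H1.isSolvable_of_isPGroup (L.isPGroup_pCore p))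
      (H9.mem_pCore_of_index_centralizer_eq_pow hk hx)
  let N := Subgroup.normalClosure ({x} : Set G)
  have hxN : x ∈ N := Subgroup.subset_normalClosure rfl
  by_cases hN : N = ⊤
  swap
  · obtain ⟨b, -, hb⟩ := (Nat.dvd_prime_pow hp).mp
      (hx ▸ H9.index_centralizer_subgroup_dvd N ⟨x, hxN⟩)
    have h1 := ih N (L.card_lt_of_ne_top hN) ⟨x, hxN⟩ p q b k hp hq
      (by rw [← hk, Subgroup.orderOf_mk]) hb
    have h2 : x ∈ (solvableRadical N).map N.subtype := ⟨_, h1, rfl⟩
    rw [L.map_subtype_solvableRadical] at h2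
    exact h2.1
  let M := Subgroup.normalClosure (Set.range fun g : G => x * g * x⁻¹ * g⁻¹)
  have hxM : ∀ g, x * g * x⁻¹ * g⁻¹ ∈ M := fun g => Subgroup.subset_normalClosure ⟨g, rfl⟩
  have hsup : Subgroup.zpowers x ⊔ M = ⊤ := by
    haveI : (Subgroup.zpowers x ⊔ M).Normal := by
      refine ⟨fun z hz g => ?_⟩
      obtain ⟨u, hu, m, hm, rfl⟩ := (H1.mem_sup_iff_of_le_normalizer
        (Subgroup.le_normalizer_of_normal)).mp hz
      obtain ⟨j, rfl⟩ := Subgroup.mem_zpowers_iff.mp hu
      have h1 : g * (x ^ j * m) * g⁻¹ = (g * x * g⁻¹) ^ j * (g * m * g⁻¹) := by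
        rw [conj_zpow]; group
      rw [h1]
      refine Subgroup.mul_mem _ (Subgroup.zpow_mem _ ?_ _)
        (Subgroup.mem_sup_right (Subgroup.Normal.conj_mem inferInstance m hm g))
      have h2 : g * x * g⁻¹ = (x * g * x⁻¹ * g⁻¹)⁻¹ * x := by group
      rw [h2]
      exact Subgroup.mul_mem _ (Subgroup.mem_sup_right (M.inv_mem (hxM g)))
        (Subgroup.mem_sup_left (Subgroup.mem_zpowers x))
    rw [eq_top_iff, ← hN]
    exact Subgroup.normalClosure_le_normal
      (Set.singleton_subset_iff.mpr (Subgroup.mem_sup_left (Subgroup.mem_zpowers x)))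
  have hidx : M.index ∣ q ^ k := by
    rw [← Subgroup.relIndex_top_right, ← hsup, Subgroup.relIndex_sup_right, ← hk,
      ← Nat.card_zpowers]
    exact Subgroup.relIndex_dvd_card _ _
  have hpM : ¬ p ∣ M.index := fun h =>
    hpq ((Nat.prime_dvd_prime_iff_eq hp hq).mp (hp.dvd_of_dvd_pow (h.trans hidx)))
  have hqM : ¬ q ∣ Nat.card M := by
    intro h
    obtain ⟨y, hy⟩ := exists_prime_orderOf_dvd_card' q h
    refine hpM (dvd_index_of_index_centralizer_eq_pow hp hq hpq hx M hxM
      (fun N hN h => Subgroup.normalClosure_le_normal ?_) y.2 (by rw [Subgroup.orderOf_coe, hy]))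
    rintro _ ⟨g, rfl⟩
    exact h g
  have hsolx : Group.IsSolvable (Subgroup.zpowers x) :=
    H1.isSolvable_of_isMulCommutative inferInstance
  obtain ⟨P, hPM, hP, hPi, hxP⟩ := H1.exists_invariant_sylow (A := Subgroup.zpowers x) (G := M)
    Subgroup.le_normalizer_of_normal
    (by rw [Nat.card_zpowers, hk]; exact ((Nat.Prime.coprime_iff_not_dvd hq).mpr hqM).pow_left _)
    (Or.inl hsolx) p
  have hPidx : ¬ p ∣ P.index := by
    rw [← Subgroup.relIndex_mul_index hPM]
    exact fun h => (hp.dvd_mul.mp h).elim hPi hpM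
  have hconj : ∀ g, g * x * g⁻¹ ∈ Subgroup.zpowers x ⊔ P := by
    intro g
    obtain ⟨u, hu, c, hc, rfl⟩ := H9.exists_mul_eq_of_coprime_index (H := P)
      (K := Subgroup.centralizer ({x} : Set G))
      (by rw [hx]; exact ((Nat.Prime.coprime_iff_not_dvd hp).mpr hPidx).symm.pow_right _) g
    have h1 : u * c * x * (u * c)⁻¹ = u * x * u⁻¹ := by
      rw [mul_assoc u, Subgroup.mem_centralizer_singleton_iff.mp hc]; group
    rw [h1]
    exact Subgroup.mul_mem _ (Subgroup.mul_mem _ (Subgroup.mem_sup_right hu)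
      (Subgroup.mem_sup_left (Subgroup.mem_zpowers x))) (Subgroup.mem_sup_right (P.inv_mem hu))
  have htop : Subgroup.zpowers x ⊔ P = ⊤ := by
    rw [eq_top_iff, ← hN]
    refine (Subgroup.closure_le _).mpr fun z hz => ?_
    obtain ⟨w, hw, hwz⟩ := Group.mem_conjugatesOfSet_iff.mp hz
    obtain rfl : w = x := hw
    obtain ⟨g, rfl⟩ := isConj_iff.mp hwz
    exact hconj g
  haveI : P.Normal := by
    rw [← Subgroup.normalizer_eq_top_iff, eq_top_iff, ← htop]
    exact sup_le hxP Subgroup.le_normalizer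
  have hsol := L.isSolvable_sup_of_normal _ P hsolx (H1.isSolvable_of_isPGroup hP)
  rw [htop] at hsol
  exact L.le_solvableRadical inferInstance hsol (Subgroup.mem_top x)

/-- **Kazarin's theorem**: an element whose class has prime power size lies in the solvable
radical. -/
theorem mem_solvableRadical_of_index_centralizer [Finite G] {x : G} {p a : ℕ} (hp : p.Prime)
    (hx : (Subgroup.centralizer ({x} : Set G)).index = p ^ a) : x ∈ solvableRadical G := by
  refine L.mem_of_forall_pPart_mem (isOfFinOrder_of_finite x) fun q hq y hy ⟨k, hk⟩ => ?_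
  obtain ⟨b, -, hb⟩ := (Nat.dvd_prime_pow hp).mp (hx ▸ H9.index_centralizer_dvd_of_mem_zpowers hy)
  obtain ⟨j, -, hj⟩ := (Nat.dvd_prime_pow hq).mp (orderOf_dvd_of_pow_eq_one hk)
  exact mem_solvableRadical_of_index_centralizer_aux G y p q b j hp hq hj hb

theorem isSolvable_normalClosure_of_index_centralizer [Finite G] {x : G} {p a : ℕ} (hp : p.Prime)
    (hx : (Subgroup.centralizer ({x} : Set G)).index = p ^ a) :
    Group.IsSolvable (Subgroup.normalClosure ({x} : Set G)) :=
  L.isSolvable_of_le (B := solvableRadical G) (Subgroup.normalClosure_le_normal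
    (Set.singleton_subset_iff.mpr (mem_solvableRadical_of_index_centralizer hp hx)))

/-- If `O_p(G) = 1`, an element with a class of `p`-power size lies in the centre of the Fitting
subgroup. -/
theorem mem_fitting_inf_centralizer_of_index_centralizer [Finite G] {x : G} {p a : ℕ}
    (hp : p.Prime) (hx : (Subgroup.centralizer ({x} : Set G)).index = p ^ a)
    (hO : pCore p G = ⊥) :
    x ∈ fittingSubgroup G ⊓ Subgroup.centralizer (fittingSubgroup G : Set G) := by
  have h1 : x ∈ Subgroup.centralizer (fittingSubgroup G : Set G) := by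
    have : fittingSubgroup G ≤ Subgroup.centralizer ({x} : Set G) := by
      rw [L.fittingSubgroup_eq_iSup_pCore]
      refine iSup_le fun r => ?_
      by_cases hr : (r : ℕ) = p
      · rw [hr, hO]; exact bot_le
      · haveI := Fact.mk r.2
        obtain ⟨R, hR⟩ := (H9.not_dvd_index_iff_exists_sylow_le (p := r)
          (H := Subgroup.centralizer ({x} : Set G))).mp (by
            rw [hx]
            exact fun h => hr ((Nat.prime_dvd_prime_iff_eq r.2 hp).mp (r.2.dvd_of_dvd_pow h)))
        exact (L.pCore_le_sylow R).trans hR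
    intro f hf
    exact Subgroup.mem_centralizer_singleton_iff.mp (this hf)
  haveI : Group.IsSolvable (solvableRadical G ⊓ Subgroup.centralizer (fittingSubgroup G : Set G) :
    Subgroup G) := L.isSolvable_of_le inf_le_left
  exact ⟨L.le_fittingSubgroup_of_le_centralizer
    (solvableRadical G ⊓ Subgroup.centralizer (fittingSubgroup G : Set G)) inf_le_right
    ⟨mem_solvableRadical_of_index_centralizer hp hx, h1⟩, h1⟩

/-- Camina–Camina: conjugates of an element with a class of `p`-power size commute modulo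
`O_p(G)`. -/
theorem commutator_conj_mem_pCore_of_index_centralizer [Finite G] {x : G} {p a : ℕ}
    (hp : p.Prime) (hx : (Subgroup.centralizer ({x} : Set G)).index = p ^ a) (g h : G) :
    (g * x * g⁻¹) * (h * x * h⁻¹) * (g * x * g⁻¹)⁻¹ * (h * x * h⁻¹)⁻¹ ∈ pCore p G := by
  obtain ⟨b, -, hb⟩ := (Nat.dvd_prime_pow hp).mp (hx ▸ H9.index_centralizer_mk_dvd (pCore p G) x)
  obtain ⟨h1, h2⟩ := mem_fitting_inf_centralizer_of_index_centralizer hp hb
    (L.pCore_quotient_pCore hp)
  have h3 := (Subgroup.Normal.conj_mem inferInstance _ h2 (h : G ⧸ pCore p G)) _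
    (Subgroup.Normal.conj_mem inferInstance _ h1 (g : G ⧸ pCore p G))
  rw [← QuotientGroup.eq_one_iff]
  simp only [QuotientGroup.mk_mul, QuotientGroup.mk_inv]
  rw [h3]
  group

end Cfsg.Agent.H6
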