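import Cfsg.Agent.H6.NilpHall
import Cfsg.Agent.H6.Kazarin
import Cfsg.Agent.H3.ClassCount
import Cfsg.Agent.H3.PiComplement

/-!
Counting conjugacy classes meeting a subset; groups with many classes of `π`-elements.
-/

set_option autoImplicit false
set_option linter.style.haveILetI false

namespace Cfsg.Agent.H6

open Subgroup

universe u

variable {G : Type*} [Group G]

theorem _root_.Cfsg.IsCharacter.norm_eq_one_of_degree_one [Finite G] {χ : G → ℂ}
    (hχ : IsCharacter G χ) (h : χ 1 = 1) (g : G) : ‖χ g‖ = 1 := by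
  obtain ⟨n, ρ, rfl⟩ := hχ
  obtain ⟨b, l, -, h2, h3, -⟩ := exists_eigenvalues ρ g
  have h4 := h3 1
  rw [Representation.char_one] at h
  have h5 : Module.finrank ℂ (Fin n → ℂ) = 1 := by exact_mod_cast h
  haveI : Unique (Fin (Module.finrank ℂ (Fin n → ℂ))) := by rw [h5]; infer_instance
  rw [pow_one, Fintype.sum_unique, pow_one] at h4
  rw [h4]
  exact norm_eq_one_of_pow_eq_one (orderOf_pos g) (h2 _)

/-- The class number in terms of the index of the derived subgroup. -/
theorem sq_mul_card_conjClasses_le [Finite G] {p : ℕ}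
    (hp : ∀ r : ℕ, r.Prime → r ∣ Nat.card G → p ≤ r) :
    p ^ 2 * Nat.card (ConjClasses G) + (commutator G).index ≤
      Nat.card G + p ^ 2 * (commutator G).index := by
  classical
  letI := Fintype.ofFinite G
  choose d hd0 hd using fun χ : IrrCharacter G => χ.2.exists_nat_one
  let L := Finset.univ.filter (fun χ : IrrCharacter G => ∀ m ∈ commutator G, χ.1 m = χ.1 1)
  have h1 : ∑ χ, d χ ^ 2 = Nat.card G := by
    have := sum_irr_degree_sq (G := G)
    simp only [hd] at this
    exact_mod_cast this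
  have h2 : ∑ χ ∈ L, d χ ^ 2 = (commutator G).index := by
    have := sum_irr_degree_sq_ker (commutator G)
    have h3 : ∑ χ ∈ L, (d χ : ℂ) ^ 2 = (commutator G).index := by
      rw [← this]
      exact Finset.sum_congr (by congr) fun χ _ => by rw [hd]
    exact_mod_cast h3
  have h3 : L.card ≤ ∑ χ ∈ L, d χ ^ 2 := by
    rw [Finset.card_eq_sum_ones]
    exact Finset.sum_le_sum fun χ _ => Nat.one_le_pow _ _ (hd0 χ)
  have h4 : Lᶜ.card * p ^ 2 ≤ ∑ χ ∈ Lᶜ, d χ ^ 2 := by
    rw [← smul_eq_mul, ← Finset.sum_const]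
    refine Finset.sum_le_sum fun χ hχ => Nat.pow_le_pow_left ?_ 2
    have hne : d χ ≠ 1 := by
      intro h
      refine Finset.mem_compl.mp hχ (Finset.mem_filter.mpr ⟨Finset.mem_univ _, ?_⟩)
      obtain ⟨K, hK, hK1, -, hK3⟩ := χ.2.isCharacter.exists_ker
      have h5 : χ.1 1 = 1 := by rw [hd, h, Nat.cast_one]
      have h6 : commutator G ≤ K := by
        rw [commutator_def, commutator_le]
        intro a _ b _
        exact hK3 a (by rw [χ.2.isCharacter.norm_eq_one_of_degree_one h5, h5, norm_one]) b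
      exact fun m hm => (hK1 m).mp (h6 hm)
    exact (hp _ (Nat.minFac_prime hne) ((Nat.minFac_dvd _).trans
      (χ.2.degree_dvd_card (hd χ)))).trans (Nat.minFac_le (hd0 χ))
  have h5 := Finset.sum_add_sum_compl L (fun χ => d χ ^ 2)
  have h6 := Finset.card_add_card_compl L
  rw [← card_irr_eq_card_conjClasses, Nat.card_eq_fintype_card, ← h6]
  nlinarith [Nat.mul_le_mul_left (p ^ 2) h3]

theorem card_commutator_le_of_lt_mul [Finite G] {p : ℕ}
    (hp : ∀ r : ℕ, r.Prime → r ∣ Nat.card G → p ≤ r)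
    (h : Nat.card G < p * Nat.card (ConjClasses G)) : Nat.card (commutator G) ≤ p := by
  have h1 := sq_mul_card_conjClasses_le hp
  have h2 := (commutator G).index_mul_card
  by_contra h3
  push Not at h3
  generalize Nat.card (ConjClasses G) = k at *
  generalize Nat.card G = n at *
  generalize (commutator G).index = i at *
  generalize Nat.card (commutator G) = c at *
  have h4 : i * (p + 1) ≤ n := h2 ▸ Nat.mul_le_mul_left i h3
  rcases Nat.eq_zero_or_pos p with rfl | hp0
  · simp at h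
  obtain ⟨p, rfl⟩ : ∃ p', p = p' + 1 := ⟨p - 1, by omega⟩
  nlinarith [Nat.mul_le_mul_left p h4, Nat.mul_lt_mul_of_pos_left h hp0]

theorem isMulCommutative_of_lt_mul [Finite G] {p : ℕ}
    (hp : ∀ r : ℕ, r.Prime → r ∣ Nat.card G → p ≤ r)
    (h : Nat.card G * (p ^ 2 + p - 1) < p ^ 3 * Nat.card (ConjClasses G)) :
    IsMulCommutative G := by
  rw [← _root_.commutator_eq_bot_iff, ← Subgroup.card_eq_one]
  by_contra hne
  have h1 := sq_mul_card_conjClasses_le hp
  have h2 := (commutator G).index_mul_card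
  have h3 : p ≤ Nat.card (commutator G) :=
    (hp _ (Nat.minFac_prime hne) ((Nat.minFac_dvd _).trans (card_subgroup_dvd_card _))).trans
      (Nat.minFac_le Nat.card_pos)
  generalize Nat.card (ConjClasses G) = k at *
  generalize Nat.card G = n at *
  generalize (commutator G).index = i at *
  generalize Nat.card (commutator G) = c at *
  have h4 : i * p ≤ n := h2 ▸ Nat.mul_le_mul_left i h3
  rcases Nat.eq_zero_or_pos p with rfl | hp0
  · simp at h
  obtain ⟨p, rfl⟩ : ∃ p', p = p' + 1 := ⟨p - 1, by omega⟩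
  have h5 : (p + 1) ^ 2 + (p + 1) - 1 = (p + 1) ^ 2 + p := by omega
  rw [h5] at h
  nlinarith [Nat.mul_le_mul_left (p * p + 2 * p) h4, Nat.mul_le_mul_left (p + 1) h1]

/-- A group with derived subgroup of order at most the smallest prime divisor is nilpotent. -/
theorem isNilpotent_of_card_commutator_le [Finite G] {p : ℕ}
    (hp : ∀ r : ℕ, r.Prime → r ∣ Nat.card G → p ≤ r) (h : Nat.card (commutator G) ≤ p) :
    Group.IsNilpotent G := by
  have h1 : commutator G ≤ center G := by
    intro x hx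
    rw [← H9.index_centralizer_eq_one_iff]
    by_contra hne
    letI := Fintype.ofFinite G
    have h2 := (hp _ (Nat.minFac_prime hne) ((Nat.minFac_dvd _).trans (index_dvd_card _))).trans
      (Nat.minFac_le (Nat.pos_of_ne_zero index_ne_zero_of_finite))
    have hx1 : x ≠ 1 := by
      rintro rfl
      exact hne (H9.index_centralizer_eq_one_iff.mpr (one_mem _))
    rw [index_centralizer_eq_ncard] at h2
    have h3 : {y | IsConj x y} ⊂ (commutator G : Set G) := by
      refine ⟨fun y hy => ?_, fun hh => hx1 ?_⟩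
      · obtain ⟨c, rfl⟩ := isConj_iff.mp hy
        exact Subgroup.Normal.conj_mem inferInstance x hx c
      · exact isConj_one_left.mp (hh (one_mem _))
    have h4 := Set.ncard_lt_ncard h3
    rw [← Nat.card_coe_set_eq] at h4
    exact absurd (h2.trans_lt (h4.trans_le h)) (lt_irrefl _)
  refine ⟨⟨2, ?_⟩⟩
  rw [eq_top_iff]
  intro x _
  rw [Subgroup.mem_upperCentralSeries_succ_iff]
  intro y
  rw [Subgroup.upperCentralSeries_one]
  exact h1 (commutator_mem_commutator (mem_top x) (mem_top y))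

/-- The number of conjugacy classes meeting a set. -/
noncomputable def ncl (S : Set G) : ℕ := (ConjClasses.mk '' S).ncard

theorem ncl_le_of_conj [Finite G] {S T : Set G} (h : ∀ z ∈ S, ∃ w ∈ T, IsConj z w) :
    ncl S ≤ ncl T := by
  refine Set.ncard_le_ncard ?_
  rintro _ ⟨z, hz, rfl⟩
  obtain ⟨w, hw, hzw⟩ := h z hz
  exact ⟨w, hw, (ConjClasses.mk_eq_mk_iff_isConj.mpr hzw).symm⟩

theorem ncl_le_ncard [Finite G] (S : Set G) : ncl S ≤ S.ncard := Set.ncard_image_le

theorem ncl_union_le (S T : Set G) : ncl (S ∪ T) ≤ ncl S + ncl T := by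
  rw [ncl, Set.image_union]
  exact Set.ncard_union_le _ _

theorem kcl_eq_ncl {Q : ℕ → Prop} :
    H3.kcl (fun x : G => Q (orderOf x)) = ncl {x : G | Q (orderOf x)} := by
  rw [H3.kcl, ncl, ← Nat.card_coe_set_eq]
  refine Nat.card_congr (Equiv.subtypeEquivRight fun c => ?_)
  obtain ⟨x, rfl⟩ := ConjClasses.mk_surjective c
  rw [H3.forall_mem_carrier_mk]
  refine ⟨fun h => ⟨x, h, rfl⟩, ?_⟩
  rintro ⟨y, hy, hyx⟩
  rwa [← H3.orderOf_eq_of_isConj (ConjClasses.mk_eq_mk_iff_isConj.mp hyx)]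

theorem kpi_eq_ncl (π : Set ℕ) : H3.kpi π G = ncl {x : G | L.IsPiNum π (orderOf x)} :=
  kcl_eq_ncl (Q := L.IsPiNum π)

theorem ncl_le_card_conjClasses [Finite G] (L : Subgroup G) :
    ncl (L : Set G) ≤ Nat.card (ConjClasses L) := by
  have : ConjClasses.mk '' (L : Set G) = Set.range (ConjClasses.map L.subtype) := by
    ext c
    constructor
    · rintro ⟨x, hx, rfl⟩
      exact ⟨ConjClasses.mk ⟨x, hx⟩, rfl⟩
    · rintro ⟨d, rfl⟩
      obtain ⟨x, rfl⟩ := ConjClasses.mk_surjective d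
      exact ⟨x, x.2, rfl⟩
  rw [ncl, this, ← Set.image_univ, ← Set.ncard_univ]
  exact Set.ncard_image_le

/-- Decomposing elements into commuting parts. -/
theorem ncl_le_mul [Finite G] (S X : Set G) (Q : ℕ → Prop) (B : ℕ)
    (hX : ∀ x ∈ X, ∀ g, g * x * g⁻¹ ∈ X)
    (hS : ∀ z ∈ S, ∃ x ∈ X, ∃ y, Commute x y ∧ Q (orderOf y) ∧ z = x * y)
    (hB : ∀ x ∈ X, ncl {y : centralizer ({x} : Set G) | Q (orderOf y)} ≤ B) :
    ncl S ≤ ncl X * B := by
  classical
  let D := ConjClasses.mk '' X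
  let E : D → Type _ := fun d =>
    ConjClasses.mk '' {y : centralizer ({d.1.out} : Set G) | Q (orderOf y)}
  have hout : ∀ (K : Type _) [Group K] (c : ConjClasses K), ConjClasses.mk c.out = c :=
    fun K _ c => Quotient.out_eq c
  have hD : ∀ d : D, d.1.out ∈ X := by
    rintro ⟨d, x, hx, rfl⟩
    obtain ⟨g, hg⟩ := isConj_iff.mp (ConjClasses.mk_eq_mk_iff_isConj.mp (hout G (.mk x)).symm)
    exact hg ▸ hX x hx g
  let f : (Σ d : D, E d) → ConjClasses G := fun s => ConjClasses.mk (s.1.1.out * s.2.1.out)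
  have h1 : ConjClasses.mk '' S ⊆ Set.range f := by
    rintro _ ⟨z, hz, rfl⟩
    obtain ⟨x, hx, y, hxy, hy, rfl⟩ := hS z hz
    obtain ⟨g, hg⟩ := isConj_iff.mp (ConjClasses.mk_eq_mk_iff_isConj.mp (hout G (.mk x)).symm)
    have h2 : g * y * g⁻¹ ∈ centralizer ({(ConjClasses.mk x).out} : Set G) := by
      rw [mem_centralizer_singleton_iff, ← hg]
      calc g * y * g⁻¹ * (g * x * g⁻¹) = g * (y * x) * g⁻¹ := by group
        _ = _ := by rw [← hxy.eq]; group
    refine ⟨⟨⟨.mk x, x, hx, rfl⟩, ⟨.mk ⟨_, h2⟩, ⟨_, h2⟩, ?_, rfl⟩⟩, ?_⟩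
    · change Q _
      rwa [Subgroup.orderOf_mk, ← H3.orderOf_eq_of_isConj (isConj_iff.mpr ⟨g, rfl⟩)]
    · obtain ⟨⟨c, hc⟩, hc'⟩ := isConj_iff.mp (ConjClasses.mk_eq_mk_iff_isConj.mp
        (hout _ (.mk (⟨_, h2⟩ : centralizer ({(ConjClasses.mk x).out} : Set G)))).symm)
      change ConjClasses.mk (_ * _) = _
      rw [eq_comm, ConjClasses.mk_eq_mk_iff_isConj, isConj_iff]
      refine ⟨c * g, ?_⟩
      dsimp only
      rw [← hc']
      rw [mem_centralizer_singleton_iff] at hc
      calc c * g * (x * y) * (c * g)⁻¹ = (c * (g * x * g⁻¹)) * (g * y * g⁻¹) * c⁻¹ := by group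
        _ = _ := by rw [hg, hc]; simp [mul_assoc]
  letI := Fintype.ofFinite D
  calc ncl S ≤ (Set.range f).ncard := Set.ncard_le_ncard h1
    _ ≤ Nat.card (Σ d : D, E d) := by
      rw [← Set.image_univ, ← Set.ncard_univ]
      exact Set.ncard_image_le
    _ = ∑ d : D, Nat.card (E d) := Nat.card_sigma
    _ ≤ ∑ _d : D, B := Finset.sum_le_sum fun d _ => hB _ (hD d)
    _ = ncl X * B := by
      rw [Finset.sum_const, smul_eq_mul, Finset.card_univ, ← Nat.card_eq_fintype_card]
      rfl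

/-- Classes meeting `T` in a single point must meet `Y`. -/
theorem two_mul_ncl_le [Finite G] (T Y : Set G)
    (h : ∀ z ∈ T, (∀ w ∈ T, IsConj z w → w = z) → z ∈ Y) : 2 * ncl T ≤ T.ncard + Y.ncard := by
  classical
  letI := Fintype.ofFinite G
  let s := T.toFinset
  let t := (T ∩ Y).toFinset
  have h1 : ncl T = (s.image ConjClasses.mk).card := by
    rw [ncl, ← Set.ncard_coe_finset, Finset.coe_image, Set.coe_toFinset]
  have h2 := Finset.card_eq_sum_card_fiberwise (f := ConjClasses.mk) (s := s)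
    (t := s.image ConjClasses.mk) (fun x hx => Finset.mem_image_of_mem _ hx)
  have h3 := Finset.card_eq_sum_card_fiberwise (f := ConjClasses.mk) (s := t)
    (t := s.image ConjClasses.mk) (fun x hx => Finset.mem_image_of_mem _ (by
      simp only [s, t, Set.coe_toFinset, Set.mem_toFinset] at hx ⊢
      exact hx.1))
  have h4 : t.card ≤ Y.ncard := by
    rw [← Set.ncard_coe_finset, Set.coe_toFinset]
    exact Set.ncard_le_ncard Set.inter_subset_right
  have h5 : T.ncard = s.card := by rw [← Set.ncard_coe_finset, Set.coe_toFinset]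
  refine le_trans ?_ (Nat.add_le_add_left h4 _)
  rw [h1, h5, h2, h3, ← Finset.sum_add_distrib, mul_comm, ← smul_eq_mul, ← Finset.sum_const]
  refine Finset.sum_le_sum fun c hc => ?_
  obtain ⟨z, hz, rfl⟩ := Finset.mem_image.mp hc
  have hzT : z ∈ T := Set.mem_toFinset.mp hz
  by_cases hw : ∀ w ∈ T, IsConj z w → w = z
  · have h6 : 0 < (s.filter fun x => ConjClasses.mk x = ConjClasses.mk z).card :=
      Finset.card_pos.mpr ⟨z, Finset.mem_filter.mpr ⟨hz, rfl⟩⟩
    have h7 : 0 < (t.filter fun x => ConjClasses.mk x = ConjClasses.mk z).card :=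
      Finset.card_pos.mpr ⟨z, Finset.mem_filter.mpr ⟨Set.mem_toFinset.mpr ⟨hzT, h z hzT hw⟩, rfl⟩⟩
    omega
  · push Not at hw
    obtain ⟨w, hwT, hzw, hne⟩ := hw
    have h6 : 1 < (s.filter fun x => ConjClasses.mk x = ConjClasses.mk z).card :=
      Finset.one_lt_card.mpr ⟨z, Finset.mem_filter.mpr ⟨hz, rfl⟩, w, Finset.mem_filter.mpr
        ⟨Set.mem_toFinset.mpr hwT, (ConjClasses.mk_eq_mk_iff_isConj.mpr hzw).symm⟩, hne.symm⟩
    omega

end Cfsg.Agent.H6
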