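/-
Groups with cyclic odd Sylow subgroups and almost cyclic Sylow `2`-subgroups: basics.
-/
import Cfsg.Agent.P5.Final
import Cfsg.Agent.P4.Dih2
import Cfsg.Agent.Cj.Ext
import Cfsg.Agent.P7.L2B
import Cfsg.Agent.P1.ZStar
import Cfsg.Agent.H2.Components
import Cfsg.Agent.H6.HalfClass1

set_option autoImplicit false
set_option linter.unusedSectionVars false
set_option linter.style.haveILetI false

namespace Cfsg.Agent.H6.Cyc

open Subgroup Cfsg Cfsg.Agent Cfsg.Agent.FT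
open Cfsg.Agent.P4 (odd_iff_not_dvd)
open scoped commutatorElement

universe u

variable {G : Type u} [Group G]

/-- Odd `p`-subgroups are cyclic, `2`-subgroups have a cyclic subgroup of index at most two. -/
structure ZC (G : Type u) [Group G] : Prop where
  odd : ∀ {p : ℕ}, p.Prime → p ≠ 2 → ∀ {P : Subgroup G}, IsPGroup p P → IsCyclic P
  two : ∀ {R : Subgroup G}, IsPGroup 2 R → ∃ a ∈ R, ∀ x ∈ R, ∀ y ∈ R, x ∉ zpowers a →
    y ∉ zpowers a → x * y ∈ zpowers a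

theorem ZC.inj {H : Type u} [Group H] (h : ZC G) (f : H →* G) (hf : Function.Injective f) :
    ZC H where
  odd hp h2 P hP := (isCyclic_map_iff hf).1 (h.odd hp h2 (hP.map f))
  two {R} hR := by
    obtain ⟨_, ⟨a, ha, rfl⟩, h1⟩ := h.two (hR.map f)
    have h2 : ∀ x, f x ∈ zpowers (f a) ↔ x ∈ zpowers a := fun x => by
      rw [← MonoidHom.map_zpowers, mem_map_iff_mem hf]
    refine ⟨a, ha, fun x hx y hy x1 y1 => (h2 _).1 ?_⟩
    rw [map_mul]
    exact h1 _ (mem_map_of_mem f hx) _ (mem_map_of_mem f hy) (mt (h2 x).1 x1) (mt (h2 y).1 y1)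

theorem ZC.sub (h : ZC G) (H : Subgroup G) : ZC H := h.inj H.subtype H.subtype_injective

variable [Finite G]

theorem map_of_isSyl {H : Type*} [Group H] {f : G →* H} (hf : Function.Surjective f) {p : ℕ}
    (hp : p.Prime) {X : Subgroup H} (hX : IsPGroup p X) {Y : Subgroup G}
    (hY : IsSyl p Y (X.comap f)) : Y.map f = X := by
  haveI := Fact.mk hp
  haveI := Finite.of_surjective f hf
  have hle : Y.map f ≤ X := map_le_iff_le_comap.2 hY.le
  refine le_antisymm hle (relIndex_eq_one.1 ?_)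
  obtain ⟨k, hk⟩ := hX.exists_card_eq
  obtain ⟨j, -, hj⟩ := (Nat.dvd_prime_pow hp).1 (hk ▸ relIndex_dvd_card (Y.map f) X)
  have h1 : (Y.map f).relIndex X ∣ Y.relIndex (X.comap f) := by
    conv_lhs => rw [← map_comap_eq_self_of_surjective hf X]
    rw [← relIndex_comap]
    exact relIndex_dvd_of_le_left _ (le_comap_map _ _)
  cases j with
  | zero => exact hj
  | succ j => exact absurd ((hj ▸ dvd_pow_self p j.succ_ne_zero).trans h1) hY.ndvd

theorem ZC.surj {H : Type u} [Group H] (h : ZC G) (f : G →* H) (hf : Function.Surjective f) :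
    ZC H where
  odd {p} hp h2 P hP := by
    obtain ⟨Q, hQ⟩ := exists_isSyl hp (P.comap f)
    rw [← map_of_isSyl hf hp hP hQ]
    haveI := h.odd hp h2 hQ.pgrp
    exact isCyclic_of_surjective _ (f.subgroupMap_surjective Q)
  two {R} hR := by
    obtain ⟨Q, hQ⟩ := exists_isSyl Nat.prime_two (R.comap f)
    rw [← map_of_isSyl hf Nat.prime_two hR hQ]
    obtain ⟨a, ha, h1⟩ := h.two hQ.pgrp
    have h2 : ∀ x, x ∈ zpowers a → f x ∈ zpowers (f a) := fun x hx => by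
      rw [← MonoidHom.map_zpowers]; exact mem_map_of_mem f hx
    refine ⟨f a, mem_map_of_mem f ha, ?_⟩
    rintro _ ⟨x, hx, rfl⟩ _ ⟨y, hy, rfl⟩ x1 y1
    rw [← map_mul]
    exact h2 _ (h1 x hx y hy (mt (h2 x) x1) (mt (h2 y) y1))

theorem ZC.zgroup (h : ZC G) {W : Subgroup G} (hW : Odd 𝐨(W)) : IsZGroup W :=
  isZGroup_iff_isSyl.2 fun p hp P hP => by
    by_cases h2 : p = 2
    · subst h2
      rw [(hP.eq_bot_iff hp).2 (odd_iff_not_dvd.1 hW)]; infer_instance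
    · exact h.odd hp h2 hP.pgrp

theorem ZC.conj_prime (h : ZC G) {p : ℕ} (hp : p.Prime) (h2 : p ≠ 2) {N X Y : Subgroup G}
    (hX : X ≤ N) (hY : Y ≤ N) (cX : 𝐨(X) = p) (cY : 𝐨(Y) = p) : ∃ g ∈ N, X ^ᵍ g = Y := by
  obtain ⟨P, hP, hYP⟩ := exists_isSyl_ge hp (isPGroup_of_card_prime cY) hY
  obtain ⟨g, hg, h1⟩ := hP.exists_conj_le hp (isPGroup_of_card_prime cX) hX
  exact ⟨g, hg, eq_of_card_prime_of_isCyclic hp (h.odd hp h2 hP.pgrp) h1 hYP
    ((card_conj _ _).trans cX) cY⟩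

/-- A normal subgroup of odd prime order is the only subgroup of its order. -/
theorem ZC.eq_of_norm (h : ZC G) {p : ℕ} (hp : p.Prime) (h2 : p ≠ 2) {X Y : Subgroup G}
    (hn : X ≤ 𝐍(Y)) (cX : 𝐨(X) = p) (cY : 𝐨(Y) = p) : X = Y := by
  obtain ⟨g, hg, h1⟩ := h.conj_prime hp h2 (le_norm_self Y) hn cY cX
  rw [← h1, conj_eq_of_mem_norm hg]

theorem ZC.cyc_fit (h : ZC G) {W : Subgroup G} (hW : Odd 𝐨(W)) : IsCyclic (fittingOf W) :=
  isCyclic_of_isNilpotent_of_isZGroup (H2.isNilpotent_fittingOf W)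
    (isZGroup_of_le (fittingOf_normal W).1 (h.zgroup hW))

theorem ZC.der_fit (h : ZC G) {W A : Subgroup G} (hW : Odd 𝐨(W)) (hA : A ≤ 𝐍(W)) :
    ⁅A, A⁆ ≤ 𝐂(fittingOf W) :=
  der_le_cent_of_cyclic (h.cyc_fit hW) (hA.trans (H2.normalizer_le_normalizer_fittingOf W))

/-- Z-lemma. -/
theorem ZC.zl (h : ZC G) {W A B : Subgroup G} (hW : Odd 𝐨(W)) (hA : A ≤ 𝐍(W)) (hB : B ≤ ⁅A, A⁆)
    (hc : 𝐨(B).Coprime 𝐨(W)) : B ≤ 𝐂(W) :=
  coprime_cent_fitting (hB.trans ((der_le A).trans hA)) hc (P4.solvable_of_odd hW)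
    (hB.trans (h.der_fit hW hA))

theorem ZC.zl2 (h : ZC G) {W A B : Subgroup G} (hW : Odd 𝐨(W)) (hA : A ≤ 𝐍(W)) (hB : B ≤ ⁅A, A⁆)
    (h2 : IsPGroup 2 B) : B ≤ 𝐂(W) := h.zl hW hA hB (P4.coprime_of_odd h2 hW).symm

theorem ZC.comm_le_fit (h : ZC G) {W A : Subgroup G} (hW : Odd 𝐨(W)) (hA : A ≤ 𝐍(W)) :
    ⁅W, A⁆ ≤ fittingOf W :=
  (le_inf (comm_le_left_iff.2 hA) ((commutator_mono le_sup_left le_sup_right).trans
    (h.der_fit hW (sup_le (le_norm_self W) hA)))).trans (cent_fittingOf_le (P4.solvable_of_odd hW))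

/-- An odd order subgroup with a fixed point free `2`-group of operators is cyclic. -/
theorem ZC.cyc_of_fpf (h : ZC G) {W A : Subgroup G} (hW : Odd 𝐨(W)) (hA : A ≤ 𝐍(W))
    (h2 : IsPGroup 2 A) (h0 : W ⊓ 𝐂(A) = ⊥) : IsCyclic W := by
  have h1 := H1.commutator_sup_centralizer hA (P4.coprime_of_odd h2 hW).symm
    (Or.inl (P4.solvable_of_two h2))
  rw [h0, sup_bot_eq] at h1
  exact isCyclic_of_le (h1.ge.trans (h.comm_le_fit hW hA)) (h.cyc_fit hW)

theorem six {Q : Type*} [Group Q] [Finite Q] (h : Nat.card Q ∣ 6) :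
    ∃ P : Subgroup Q, _root_.commutator Q ≤ P ∧ Nat.card P ∣ 3 := by
  haveI : Fact (Nat.Prime 3) := ⟨Nat.prime_three⟩
  obtain ⟨P⟩ : Nonempty (Sylow 3 Q) := inferInstance
  obtain ⟨k, hk⟩ := P.isPGroup'.exists_card_eq
  have h1 := P.not_dvd_index
  have h2 : (P : Subgroup Q).index ∣ 2 :=
    ((Nat.Prime.coprime_iff_not_dvd Nat.prime_three).2 h1).symm.dvd_of_dvd_mul_left
      ((index_dvd_card _).trans h)
  have h3 : Nat.card P ∣ 3 := by
    have h4 : Nat.card P ∣ 2 * 3 := (card_subgroup_dvd_card _).trans h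
    refine Nat.Coprime.dvd_of_dvd_mul_left ?_ h4
    rw [hk]; exact Nat.Coprime.pow_left _ (by norm_num)
  refine ⟨P, ?_, h3⟩
  rcases (Nat.dvd_prime Nat.prime_two).1 h2 with e | e
  · rw [index_eq_one.1 e]; exact le_top
  · refine commutator_le.2 fun a _ b _ => ?_
    rw [commutatorElement_def, mul_mem_iff_of_index_two e, mul_mem_iff_of_index_two e,
      mul_mem_iff_of_index_two e, inv_mem_iff, inv_mem_iff]
    tauto

omit [Finite G] in
theorem exists_of_mem_der {A : Subgroup G} {x : G} (hx : x ∈ ⁅A, A⁆) :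
    ∃ y : A, y ∈ _root_.commutator A ∧ (y : G) = x := by
  rw [← map_subtype_der] at hx; exact hx

/-- Action on a group of order dividing four. -/
theorem four_act {V A : Subgroup G} (hV : 𝐨(V) ∣ 4) (hA : A ≤ 𝐍(V)) :
    (∀ x ∈ ⁅A, A⁆, x ^ 3 ∈ 𝐂(V)) ∧ ⁅⁅A, A⁆, ⁅A, A⁆⁆ ≤ 𝐂(V) := by
  have h6 : Nat.card (MulAut V) ∣ 6 := by
    have h1 : 𝐨(V) = 1 ∨ 𝐨(V) = 2 ∨ 𝐨(V) = 4 := by
      have := Nat.le_of_dvd (by norm_num) hV
      interval_cases h : 𝐨(V) <;> simp_all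
    rcases h1 with e | e | e
    · haveI : IsCyclic V := isCyclic_of_card_dvd_prime (p := 2) (by rw [e]; norm_num)
      rw [IsCyclic.card_mulAut, e]; norm_num
    · haveI : IsCyclic V := isCyclic_of_card_dvd_prime (p := 2) (by rw [e])
      rw [IsCyclic.card_mulAut, e]; norm_num
    · exact Half.card_mulAut_dvd_six e
  obtain ⟨P, hP, h3⟩ := six h6
  have h1 : ∀ y ∈ _root_.commutator A, H1.conjAut hA y ∈ P := fun y hy => hP (by
    have := mem_map_of_mem (H1.conjAut hA) hy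
    rw [_root_.commutator, map_commutator] at this
    exact commutator_mono le_top le_top this)
  haveI : Fact (Nat.Prime 3) := ⟨Nat.prime_three⟩
  haveI : IsCyclic P := isCyclic_of_card_dvd_prime h3
  refine ⟨fun x hx => ?_, commutator_le.2 fun x hx y hy => ?_⟩
  · obtain ⟨y, hy, rfl⟩ := exists_of_mem_der hx
    rw [← coe_pow, ← H1.mem_ker_conjAut hA, MonoidHom.mem_ker, map_pow]
    exact orderOf_dvd_iff_pow_eq_one.1 ((orderOf_dvd_natCard P (h1 y hy)).trans h3)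
  · obtain ⟨x, hx', rfl⟩ := exists_of_mem_der hx
    obtain ⟨y, hy', rfl⟩ := exists_of_mem_der hy
    rw [show ⁅(x : G), (y : G)⁆ = ((⁅x, y⁆ : A) : G) from rfl, ← H1.mem_ker_conjAut hA,
      MonoidHom.mem_ker, map_commutatorElement, commutatorElement_eq_one_iff_mul_comm]
    exact (mem_cent.1 (isMulComm_iff_le_cent.1 (isMulComm_of_isCyclic inferInstance) (h1 x hx')) _
      (h1 y hy')).symm

/-- The subgroup generated by the squares. -/
def sq (R : Subgroup G) : Subgroup G := closure {x | ∃ r ∈ R, r * r = x}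

omit [Finite G] in
theorem sq_mem {R : Subgroup G} {r : G} (h : r ∈ R) : r * r ∈ sq R := subset_closure ⟨r, h, rfl⟩

omit [Finite G] in
theorem sq_le_iff {R K : Subgroup G} : sq R ≤ K ↔ ∀ r ∈ R, r * r ∈ K := by
  rw [sq, closure_le]
  exact ⟨fun h r hr => h ⟨r, hr, rfl⟩, by rintro h _ ⟨r, hr, rfl⟩; exact h r hr⟩

omit [Finite G] in
theorem sq_le (R : Subgroup G) : sq R ≤ R := sq_le_iff.2 fun _ h => mul_mem h h

theorem norm_le_norm_sq (R : Subgroup G) : 𝐍(R) ≤ 𝐍(sq R) := fun g hg =>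
  mem_norm_of_conj_le (conj_le_iff.2 (sq_le_iff.2 fun r hr => by
    rw [mem_conj, inv_inv, ← conj_mul]
    exact sq_mem ((mem_normalizer_iff.1 hg r).1 hr)))

omit [Finite G] in
theorem relIndex_dvd_two {A R : Subgroup G} (h : ∀ x ∈ R, ∀ y ∈ R, x ∉ A → y ∉ A → x * y ∈ A) :
    A.relIndex R ∣ 2 := by
  by_cases h1 : R ≤ A
  · rw [relIndex_eq_one.2 h1]; norm_num
  · obtain ⟨x, hx, h2⟩ := not_forall₂.1 h1
    rw [relIndex_eq_two_iff_exists_notMem_and'.2 ⟨x, hx, h2, fun y hy => ?_⟩]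
    by_cases h3 : y ∈ A
    · exact Or.inr h3
    · exact Or.inl (h x hx y hy h2 h3)

omit [Finite G] in
theorem mem_sq_or (a : G) {y : G} (hy : y ∈ zpowers a) : y ∈ zpowers (a * a) ∨
    a * y ∈ zpowers (a * a) := by
  obtain ⟨k, rfl⟩ := hy
  obtain ⟨j, rfl | rfl⟩ := Int.even_or_odd' k
  · exact Or.inl ⟨j, by simp only; rw [← pow_two, zpow_mul]; norm_cast⟩
  · exact Or.inr ⟨j + 1, by simp only; rw [← pow_two, ← zpow_natCast, ← zpow_mul]; group⟩

theorem ZC.sq_spec (h : ZC G) {R : Subgroup G} (hR : IsPGroup 2 R) :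
    IsCyclic (sq R) ∧ (sq R).relIndex R ∣ 4 := by
  obtain ⟨a, ha, h1⟩ := h.two hR
  have h2 : sq R ≤ zpowers a := sq_le_iff.2 fun r hr => by
    by_cases h3 : r ∈ zpowers a
    · exact mul_mem h3 h3
    · exact h1 r hr r hr h3 h3
  refine ⟨isCyclic_of_le h2 inferInstance, ?_⟩
  rw [← relIndex_mul_relIndex _ _ _ h2 (zpowers_le_of_mem ha)]
  refine mul_dvd_mul (b := 2) (d := 2) (relIndex_dvd_two fun x hx y hy x1 y1 => ?_)
    (relIndex_dvd_two h1)
  have h3 : zpowers (a * a) ≤ sq R := zpowers_le_of_mem (sq_mem ha)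
  have h4 := h3 ((mem_sq_or a hx).resolve_left (mt (@h3 x) x1))
  have h5 := h3 ((mem_sq_or a hy).resolve_left (mt (@h3 y) y1))
  have h6 : Commute a x := by obtain ⟨k, rfl⟩ := hx; exact Commute.self_zpow a k
  have := mul_mem (inv_mem (sq_mem ha)) (mul_mem h4 h5)
  rwa [show (a * a)⁻¹ * (a * x * (a * y)) = a⁻¹ * (a⁻¹ * a) * (x * a) * y by group, ← h6.eq,
    show a⁻¹ * (a⁻¹ * a) * (a * x) * y = x * y by group] at this

/-- R-lemma. -/
theorem ZC.rl (h : ZC G) {R A : Subgroup G} (hR : IsPGroup 2 R) (hA : A ≤ 𝐍(R)) :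
    (∀ x ∈ ⁅A, A⁆, ∀ r ∈ R, ⁅x ^ 3, r⁆ ∈ sq R) ∧ ⁅⁅⁅A, A⁆, ⁅A, A⁆⁆, R⁆ ≤ sq R ∧
      ⁅A, A⁆ ≤ 𝐂(sq R) := by
  obtain ⟨h1, h2⟩ := h.sq_spec hR
  haveI := H1.normal_subgroupOf_of_le (norm_le_norm_sq R)
  have h3 := four_act (V := H1.bar 𝐍(R) (sq R) R) (A := H1.bar 𝐍(R) (sq R) A)
    (by rwa [H1.card_bar (le_norm_self R)]) (H1.bar_le_normalizer hA)
  have h4 : ⁅A, A⁆ ≤ 𝐍(R) := (der_le A).trans hA
  rw [← H1.bar_commutator hA hA, ← H1.bar_commutator h4 h4,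
    H1.bar_le_centralizer_iff ((der_le _).trans h4) (le_norm_self R)] at h3
  refine ⟨fun x hx => ?_, h3.2, der_le_cent_of_cyclic h1 (hA.trans (norm_le_norm_sq R))⟩
  have := h3.1 _ (H1.qmk_mem_bar (y := ⟨x, h4 hx⟩) hx)
  rw [← map_pow, H1.qmk_mem_centralizer_bar_iff (le_norm_self R)] at this
  exact this

/-- A perfect group normalizing a `2`-group centralizes it. -/
theorem ZC.perf_two (h : ZC G) {R A : Subgroup G} (hR : IsPGroup 2 R) (hA : A ≤ 𝐍(R))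
    (hp : ⁅A, A⁆ = A) : A ≤ 𝐂(R) := by
  obtain ⟨-, h1, h2⟩ := h.rl hR hA
  rw [hp, hp] at h1
  rw [hp] at h2
  have h3 : ⁅⁅A, R⁆, A⁆ = ⊥ := comm_eq_bot_iff.2 (h1.trans (cent_comm.1 h2))
  rw [← comm_eq_bot_iff, ← hp]
  exact commutator_commutator_eq_bot_of_rotate (by rw [h3]) (by rw [commutator_comm R A, h3])

theorem ZC.perf_fit (h : ZC G) {N A : Subgroup G} (hA : A ≤ 𝐍(N)) (hp : ⁅A, A⁆ = A) :
    A ≤ 𝐂(fittingOf N) := by
  have h1 := dProd_pCoreOf_of_isNilpotent Nat.prime_two (H2.isNilpotent_fittingOf N)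
  have h2 : A ≤ 𝐍(fittingOf N) := hA.trans (H2.normalizer_le_normalizer_fittingOf N)
  rw [← h1.sup, cent_sup]
  refine le_inf (h.perf_two (H2.isPGroup_pCoreOf 2 _)
    (h2.trans (H2.normalizer_le_normalizer_pCoreOf 2 _)) hp) ?_
  have h3 : Odd 𝐨(H2.pPrimeCoreOf 2 (fittingOf N)) :=
    odd_iff_not_dvd.2 (not_dvd_card_pPrimeCoreOf Nat.prime_two _)
  rw [← hp]
  exact der_le_cent_of_cyclic (isCyclic_of_isNilpotent_of_isZGroup
    (isNilpotent_of_le h1.le_right (H2.isNilpotent_fittingOf N)) (h.zgroup h3))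
    (h2.trans (H2.normalizer_le_normalizer_pPrimeCoreOf 2 _))

end Cfsg.Agent.H6.Cyc
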