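/-
Simple groups with cyclic odd Sylow subgroups: the Sylow `2`-subgroup and first local lemmas.
-/
import Cfsg.Agent.H6.Cyc0
import Cfsg.Agent.P7.K0

set_option autoImplicit false
set_option linter.unusedSectionVars false
set_option linter.style.haveILetI false

namespace Cfsg.Agent.H6.Cyc

open Subgroup Cfsg Cfsg.Agent Cfsg.Agent.FT
open Cfsg.Agent.P4 (odd_iff_not_dvd Max2)
open Cfsg.Agent.P5 (V4 Tri)
open Cfsg.Agent.P7 (V2)
open Cfsg.Agent.H2 (pPrimeCoreOf)
open scoped commutatorElement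

universe u

variable {G : Type u} [Group G] [Finite G]

open scoped IsMulCommutative in
theorem eq_one_of_transfer {p : ℕ} [Fact p.Prime] (P : Sylow p G) [hP : IsMulCommutative P]
    {x : G} (hx : x ∈ (P : Subgroup G)) (hc : x ∈ _root_.commutator G)
    (hN : ∀ n ∈ 𝐍((P : Subgroup G)), Commute x n) : x = 1 := by
  have key : ∀ (k : ℕ) (g₀ : G), g₀⁻¹ * x ^ k * g₀ ∈ (P : Subgroup G) →
      g₀⁻¹ * x ^ k * g₀ = x ^ k := fun k g₀ h => by
    obtain ⟨n, hn, h⟩ := P.conj_eq_normalizer_conj_of_mem (x ^ k) g₀ (P.pow_mem hx k) h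
    exact h.trans (Commute.inv_mul_cancel ((hN n hn).pow_left k).symm)
  have h1 := MonoidHom.transfer_eq_pow (MonoidHom.id P) x key
  have h2 : MonoidHom.transfer (MonoidHom.id P) x = 1 :=
    Abelianization.commutator_subset_ker _ hc
  have h3 : x ^ (P : Subgroup G).index = 1 := congrArg Subtype.val (h1.symm.trans h2)
  obtain ⟨k, hk⟩ := P.isPGroup' ⟨x, hx⟩
  have h4 : x ^ p ^ k = 1 := congrArg Subtype.val hk
  rw [← orderOf_eq_one_iff]
  exact Nat.eq_one_of_dvd_coprimes (Nat.Coprime.pow_left k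
    ((Nat.Prime.coprime_iff_not_dvd Fact.out).mpr P.not_dvd_index))
    (orderOf_dvd_of_pow_eq_one h4) (orderOf_dvd_of_pow_eq_one h3)

theorem mem_norm_zpowers {x g : G} (h : g * x * g⁻¹ ∈ zpowers x) : g ∈ 𝐍(zpowers x) :=
  mem_norm_of_conj_le (by rw [← zpowers_conj]; exact zpowers_le_of_mem h)

omit [Finite G] in
theorem conj_mem {K : Subgroup G} {x g : G} (hg : g ∈ 𝐍(K)) (h : x ∈ K) : g * x * g⁻¹ ∈ K :=
  (mem_normalizer_iff.1 hg x).1 h

/-- Transfer into a cyclic Sylow subgroup. -/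
theorem ZC.tr (h : ZC G) {p : ℕ} (hp : p.Prime) (h2 : p ≠ 2) {H : Subgroup G} {x : G}
    (hx : x ∈ ⁅H, H⁆) (hxp : IsPGroup p (zpowers x)) (hN : H ⊓ 𝐍(zpowers x) ≤ 𝐂[x]) : x = 1 := by
  haveI := Fact.mk hp
  obtain ⟨y, hy, rfl⟩ := exists_of_mem_der hx
  have h1 : IsPGroup p (zpowers y) := (isPGroup_map_iff H.subtype_injective).1 (by
    rwa [MonoidHom.map_zpowers])
  obtain ⟨P, hP⟩ := h1.exists_le_sylow
  have hc := (h.sub H).odd hp h2 P.isPGroup'
  haveI := isMulComm_of_isCyclic hc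
  rw [eq_one_of_transfer P (hP (mem_zpowers y)) hy fun n hn => ?_, coe_one]
  obtain ⟨k, hk⟩ := conj_mem (norm_le_norm_of_le_cyclic hc hP hn) (mem_zpowers y)
  exact Subtype.ext (mem_cent1.1 (hN ⟨n.2, mem_norm_zpowers ⟨k, congrArg Subtype.val hk⟩⟩))

theorem cent_cyc2 {T A : Subgroup G} (hc : IsCyclic T) (h2 : IsPGroup 2 T) (hA : Odd 𝐨(A))
    (hn : A ≤ 𝐍(T)) : A ≤ 𝐂(T) := by
  have h1 := H6.relIndex_centralizer_dvd_card_mulAut hn
  obtain ⟨k, hk⟩ := exists_card_eq_pow Nat.prime_two h2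
  have h3 : Nat.card (MulAut T) ∣ 2 ^ k := by
    rw [IsCyclic.card_mulAut, hk]
    cases k with
    | zero => simp
    | succ k => rw [Nat.totient_prime_pow Nat.prime_two k.succ_pos]; simp [pow_succ]
  exact relIndex_eq_one.1 (Nat.eq_one_of_dvd_coprimes
    ((Nat.coprime_two_right.2 hA).pow_right k) (relIndex_dvd_card' _ _) (h1.trans h3))

theorem index_ne_two [IsSimpleGroup G] (na : ¬ IsMulCommutative G) (N : Subgroup G) :
    N.index ≠ 2 := fun e => by
  rcases (normal_of_index_eq_two e).eq_bot_or_eq_top with rfl | rfl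
  · rw [index_bot] at e
    haveI : IsCyclic G := isCyclic_of_prime_card e
    exact na inferInstance
  · simp at e

theorem der_top [IsSimpleGroup G] (na : ¬ IsMulCommutative G) :
    ⁅(⊤ : Subgroup G), (⊤ : Subgroup G)⁆ = ⊤ :=
  (inferInstance : (_root_.commutator G).Normal).eq_bot_or_eq_top.resolve_left fun e =>
    na ⟨⟨fun a b => mem_cent.1 (comm_eq_bot_iff.1 e (mem_top b)) a (mem_top a)⟩⟩

theorem not_solv [IsSimpleGroup G] (na : ¬ IsMulCommutative G) : ¬ Group.IsSolvable G :=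
  fun h => na ⟨⟨(IsSimpleGroup.comm_iff_isSolvable).2 h⟩⟩

theorem cent1_ne_top' [IsSimpleGroup G] (na : ¬ IsMulCommutative G) {x : G} (h1 : x ≠ 1) :
    𝐂[x] ≠ ⊤ := fun e => by
  rcases (inferInstance : (center G).Normal).eq_bot_or_eq_top with h | h
  · exact h1 (mem_bot.1 (h ▸ mem_center_iff.2 fun g => (mem_cent1.1 (e ▸ mem_top g)).symm))
  · exact na ⟨⟨fun a b => mem_center_iff.1 (h ▸ mem_top b) a⟩⟩

theorem norm_ne_top' [IsSimpleGroup G] (na : ¬ IsMulCommutative G) {K : Subgroup G} (h1 : K ≠ ⊥)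
    (hs : Group.IsSolvable K) : 𝐍(K) ≠ ⊤ := fun e => by
  rcases (normalizer_eq_top_iff.1 e).eq_bot_or_eq_top with h | h
  · exact h1 h
  · subst h
    exact not_solv na (Group.isSolvable_of_surjective (f := (⊤ : Subgroup G).subtype)
      fun x => ⟨⟨x, mem_top x⟩, rfl⟩)

/-- The setting of a simple group with `8 ∣ |G|`. -/
structure St (S : Subgroup G) (a t s : G) : Prop extends Max2 S a t s where
  zc : ZC G
  simple : IsSimpleGroup G
  na : ¬ IsMulCommutative G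
  aa : a * a ≠ 1

theorem exists_st (h : ZC G) [hs : IsSimpleGroup G] (na : ¬ IsMulCommutative G)
    (h8 : 8 ∣ Nat.card G) : ∃ (S : Subgroup G) (a t s : G), St S a t s := by
  obtain ⟨S⟩ : Nonempty (Sylow 2 G) := inferInstance
  have hS := isSyl_top_coe Nat.prime_two S
  obtain ⟨a, ha, h1⟩ := h.two S.isPGroup'
  have hT : zpowers a ≤ S := zpowers_le_of_mem ha
  have sq : ∀ x ∈ (S : Subgroup G), x * x ∈ zpowers a := fun x hx => by
    by_cases h3 : x ∈ zpowers a
    · exact mul_mem h3 h3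
    · exact h1 x hx x hx h3 h3
  have aa : a * a ≠ 1 := fun e => by
    have h2 : 𝐨((S : Subgroup G)) ∣ 2 * 2 := by
      rw [← H1.card_mul_relIndex hT, Nat.card_zpowers]
      exact mul_dvd_mul (orderOf_dvd_of_pow_eq_one (by rw [pow_two, e])) (relIndex_dvd_two h1)
    have h3 := hS.ndvd
    rw [← card_top, ← H1.card_mul_relIndex hS.le] at h8
    have h4 := (((Nat.prime_two.coprime_iff_not_dvd.2 h3).pow_left 3).dvd_of_dvd_mul_right
      h8).trans h2
    norm_num at h4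
  obtain ⟨t, tT, t1, tt⟩ := P4.exists_invol (hS.pgrp.to_le hT)
    (zpowers_ne_bot.2 fun e => aa (by rw [e, mul_one]))
  have uq : ∀ y ∈ zpowers a, y ≠ 1 → y * y = 1 → y = t := fun y hy y1 yy =>
    P4.uniq_invol inferInstance hy y1 yy tT t1 tt
  have hn : ∀ g ∈ (S : Subgroup G), g * t * g⁻¹ = t := fun g hg => by
    refine uq _ ?_ (P4.conj_ne_one t1 g) (P4.conj_sq tt g)
    by_cases h3 : g ∈ zpowers a
    · exact mul_mem (mul_mem h3 tT) (inv_mem h3)
    · exact h1 _ (mul_mem hg (hT tT)) _ (inv_mem hg) (by rwa [mul_mem_cancel_right tT])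
        (by rwa [inv_mem_iff])
  obtain ⟨g, hg, hne⟩ : ∃ g, g * t * g⁻¹ ∈ (S : Subgroup G) ∧ g * t * g⁻¹ ≠ t := by
    by_contra h0
    push Not at h0
    have h2 := P1.zstar_sylow S (P4.orderOf_two t1 tt) (hT tT) h0
    rcases (inferInstance : (pPrimeCore 2 G).Normal).eq_bot_or_eq_top with e | e
    · refine cent1_ne_top' na t1 (eq_top_iff.2 fun x _ => mem_cent1.2 ?_)
      have := h2 x
      rwa [e, mem_bot, commutatorElement_eq_one_iff_mul_comm] at this
    · have := L.coprime_card_pPrimeCore (G := G) 2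
      rw [e, card_top] at this
      exact absurd (this.coprime_dvd_left ((by norm_num : 2 ∣ 8).trans h8)) (by norm_num)
  have sT : g * t * g⁻¹ ∉ zpowers a := fun e =>
    hne (uq _ e (P4.conj_ne_one t1 g) (P4.conj_sq tt g))
  refine ⟨S, a, t, g * t * g⁻¹, ⟨hS, ha, tT, t1, tt, hg, sT, P4.conj_sq tt g, fun x hx => ?_,
    fun y hy hc => ?_⟩, h, hs, na, aa⟩
  · by_cases h3 : x ∈ zpowers a
    · exact Or.inl h3
    · exact Or.inr (h1 _ hg _ hx sT h3)
  by_contra yy
  have h2 : IsSyl 2 ((S : Subgroup G) ^ᵍ g) 𝐂[g * t * g⁻¹] := by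
    refine (hS.conj_of_mem_norm (by rw [norm_top]; trivial)).of_le ?_ le_top
    rw [cent1_conj]
    exact conj_mono (fun x hx => mem_cent1_iff_conj.2 (hn x hx)) g
  obtain ⟨c, hc1, h3⟩ := h2.exists_conj_le Nat.prime_two
    (hS.pgrp.to_le ((zpowers_le_of_mem hy).trans hT)) (zpowers_le_of_mem (mem_cent1.2 hc))
  have h4 : g⁻¹ * (c * y * c⁻¹) * g ∈ (S : Subgroup G) :=
    mem_conj.1 (h3 (conj_mem_conj (mem_zpowers y) c))
  obtain ⟨z, hz, z1, zz⟩ := P4.exists_invol (hS.pgrp.to_le ((zpowers_le_of_mem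
    (mul_mem hy hy)).trans hT)) (zpowers_ne_bot.2 yy)
  obtain rfl := uq z (zpowers_le_of_mem (mul_mem hy hy) hz) z1 zz
  have h5 : (g⁻¹ * c) * z * (g⁻¹ * c)⁻¹ ∈ zpowers a := by
    refine zpowers_le_of_mem (sq _ h4) ?_
    rw [show g⁻¹ * (c * y * c⁻¹) * g * (g⁻¹ * (c * y * c⁻¹) * g) =
      (g⁻¹ * c) * (y * y) * (g⁻¹ * c)⁻¹ by group, zpowers_conj]
    exact conj_mem_conj hz _
  have h6 := uq _ h5 (P4.conj_ne_one z1 _) (P4.conj_sq zz _)
  have h7 := mem_cent1_iff_conj.1 hc1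
  apply hne
  calc g * z * g⁻¹ = c⁻¹ * (c * (g * z * g⁻¹) * c⁻¹) * c := by group
    _ = c⁻¹ * (g * (g⁻¹ * c * z * (g⁻¹ * c)⁻¹) * g⁻¹) * c := by rw [h7, h6]
    _ = z := by group

namespace St

variable {S : Subgroup G} {a t s : G} (h : St S a t s)
include h

theorem m : Max2 S a t s := h.toMax2

theorem conj {j : G} (j1 : j ≠ 1) (jj : j * j = 1) : ∃ g, g * t * g⁻¹ = j := by
  haveI := h.simple
  rcases h.m.isConj_or j1 jj with e | ⟨N, e, -⟩
  · exact isConj_iff.1 e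
  · exact absurd e (index_ne_two h.na N)

theorem tS : t ∈ S := h.m.X_le h.zx

theorem ct {g : G} (hg : g ∈ S) : Commute t g := mem_cent1.1 (h.m.le_cent hg)

theorem v4 : V4 t s := ⟨h.z1, fun e => h.sx (e ▸ one_mem _), fun e => h.sx (e ▸ h.zx), h.zz, h.ss,
  h.ct h.sS⟩

omit h in
theorem cT {x y : G} (hx : x ∈ zpowers a) (hy : y ∈ zpowers a) : Commute x y := by
  obtain ⟨k, rfl⟩ := hx
  obtain ⟨j, rfl⟩ := hy
  exact zpow_mul_comm _ k j

theorem inv_u {u : G} (hu : u ∈ zpowers a) (uu : u * u = t) : s * u * s = u⁻¹ := by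
  have h1 : s * u * s ∈ zpowers a := by
    have := h.m.conj_mem h.sS hu; rwa [h.m.s_inv] at this
  have h2 : s * u * s * (s * u * s) = t := by
    rw [show s * u * s * (s * u * s) = s * u * (s * s) * u * s by group, h.ss, mul_one,
      mul_assoc s, uu, ← h.v4.comm.eq, mul_assoc, h.ss, mul_one]
  have h3 := cT h1 hu
  rcases h.m.uniq (mul_mem h1 hu) (by rw [h3.symm.mul_mul_mul_comm, h2, uu, h.zz]) with e | e
  · exact eq_inv_of_mul_eq_one_left e
  · rw [← uu, mul_left_inj] at e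
    have h4 : Commute s u := by
      rw [Commute, SemiconjBy]
      conv_rhs => rw [← e, mul_assoc, h.ss, mul_one]
    exact absurd ((h.cs u hu h4).symm.trans uu).symm h.z1

theorem exists_u : ∃ u ∈ zpowers a, u * u = t := by
  obtain ⟨k, hk⟩ := h.m.z_mem_zpowers h.xS h.aa
  exact ⟨a ^ k, zpow_mem (mem_zpowers a) k, by rw [← hk, ← Commute.mul_zpow rfl]⟩

theorem sq_out {g : G} (hg : g ∈ S) (hT : g ∉ zpowers a) : g * g = 1 ∨ g * g = t := by
  have h1 := (h.cover g hg).resolve_left hT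
  have h2 := (h.m.mul_mem_iff hg hg).2 Iff.rfl
  refine h.m.uniq h2 (h.cs _ h2 ?_)
  have := (cT h1 h2).mul_left ((Commute.refl g).mul_right (Commute.refl g)).inv_left
  rwa [mul_inv_cancel_right] at this

theorem dih_out (hd : s * a * s = a⁻¹) {g : G} (hg : g ∈ S) (hT : g ∉ zpowers a) : g * g = 1 := by
  have h1 := h.m.inv_of hd _ ((h.cover g hg).resolve_left hT)
  rw [← mul_assoc, h.ss, one_mul, mul_inv_rev, h.m.s_inv, mul_left_inj] at h1
  exact mul_eq_one_iff_eq_inv.2 h1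

theorem norm_T : 𝐍(S) ≤ 𝐍(zpowers a) := fun g hg => by
  refine mem_norm_zpowers ?_
  by_contra h0
  have h1 := conj_mem hg h.xS
  have h2 : ∀ z, g * a * g⁻¹ * (g * a * g⁻¹) = z → a * a = g⁻¹ * z * g := fun z e => by
    rw [← e]; group
  have h3 : g * a * g⁻¹ * (g * a * g⁻¹) ≠ 1 := fun e => h.aa (by simpa using h2 1 e)
  have h4 := h2 t ((h.sq_out h1 h0).resolve_left h3)
  have h5 := (h.m.uniq (mul_mem (mem_zpowers a) (mem_zpowers a)) (by
    rw [h4]; simpa using P4.conj_sq h.zz g⁻¹)).resolve_left h.aa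
  exact h3 (h.dih_out (h.inv_u (mem_zpowers a) h5) h1 h0)

theorem norm_S {A : Subgroup G} (hA : Odd 𝐨(A)) (hn : A ≤ 𝐍(S)) : A ≤ 𝐂(S) := by
  refine H1.le_centralizer_of_commutator_le hn (P4.coprime_of_odd h.syl.pgrp hA)
    (H := zpowers a) (commutator_le.2 fun x hx g hg => ?_)
    (cent_cyc2 inferInstance (h.syl.pgrp.to_le h.m.X_le) hA (hn.trans h.norm_T))
  rw [commutatorElement_def, mul_assoc, mul_assoc, ← mul_assoc g,
    h.m.mul_mem_iff hx (conj_mem (hn hg) (inv_mem hx)),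
    ← mem_normalizer_iff.1 (h.norm_T (hn hg)), inv_mem_iff]

theorem cent_S {p : ℕ} (hp : p.Prime) (h2 : p ≠ 2) {P : Subgroup G} (hP : 𝐨(P) = p) :
    ¬ S ≤ 𝐂(P) := by
  induction p using Nat.strong_induction_on generalizing P with
  | _ p ih =>
  intro hS
  haveI := h.simple
  have h1 : IsSyl 2 S 𝐂(P) := h.syl.of_le hS le_top
  have h3 := h1.frattini Nat.prime_two ⟨cent_le_norm P, H1.normalizer_le_normalizer_centralizer P⟩
  have h4 : 𝐍(P) ≤ 𝐂(P) := by
    rw [← relIndex_eq_one]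
    by_contra h0
    obtain ⟨l, hl, hd⟩ := Nat.exists_prime_and_dvd h0
    have h5 : l < p := by
      have := Nat.le_of_dvd (by have := hp.two_le; omega)
        (hd.trans (hP ▸ relIndex_cent_dvd_of_prime (hP ▸ hp) le_rfl))
      have := hp.two_le
      omega
    by_cases h6 : l = 2
    · subst h6
      exact (h.syl.of_le (hS.trans (cent_le_norm P)) le_top).ndvd
        (hd.trans (relIndex_dvd_of_le_left _ hS))
    rw [← h3, relIndex_sup_of_norm (inf_le_left.trans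
      (H1.normalizer_le_normalizer_centralizer P))] at hd
    obtain ⟨X, hX, cX⟩ := exists_le_card_eq_prime hl (hd.trans (relIndex_dvd_card' _ _))
    exact ih l h5 hl h6 cX (cent_comm.1 (h.norm_S (cX ▸ hl.odd_of_ne_two h6)
      (hX.trans inf_le_right)))
  obtain ⟨x, rfl⟩ := isCyclic_iff_zpowers.1 (isCyclic_of_card_prime (hP ▸ hp))
  refine ne_bot_of_card_prime (hP ▸ hp) (zpowers_eq_bot.2 (h.zc.tr hp h2 (H := ⊤)
    (by rw [der_top h.na]; trivial) (isPGroup_of_card_prime hP) ?_))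
  rw [← cent_zpowers]
  exact inf_le_right.trans h4

theorem odd_cent_S {W : Subgroup G} (hW : Odd 𝐨(W)) : W ⊓ 𝐂(S) = ⊥ := by
  by_contra h0
  obtain ⟨X, hX, cX⟩ := exists_le_card_prime h0
  refine h.cent_S cX (fun e => ?_) rfl (cent_comm.1 (hX.trans inf_le_right))
  exact odd_iff_not_dvd.1 hW (e ▸ FT.card_dvd_of_le (hX.trans inf_le_left))

theorem cent_out {x g : G} (hx : x ∈ S) (hT : x ∉ zpowers a) (hg : g ∈ S) (hc : Commute x g) :
    g = 1 ∨ g = t ∨ g = x ∨ g = x⁻¹ ∨ g = t * x := by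
  have key : ∀ y ∈ zpowers a, Commute x y → y = 1 ∨ y = t := fun y hy hc => by
    refine h.m.uniq hy (h.cs y hy ?_)
    have := (cT ((h.cover x hx).resolve_left hT) hy).mul_left hc.inv_left
    rwa [mul_inv_cancel_right] at this
  by_cases h1 : g ∈ zpowers a
  · rcases key g h1 hc with e | e
    exacts [Or.inl e, Or.inr (Or.inl e)]
  · have h2 : g * x⁻¹ ∈ zpowers a := by
      rw [h.m.mul_mem_iff hg (inv_mem hx), inv_mem_iff]; exact iff_of_false h1 hT
    rcases key _ h2 (hc.mul_right (Commute.refl x).inv_right) with e | e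
    · exact Or.inr (Or.inr (Or.inl (mul_inv_eq_one.1 e)))
    · exact Or.inr (Or.inr (Or.inr (Or.inr (mul_inv_eq_iff_eq_mul.1 e))))

theorem four_in {x y g : G} (v : V4 x y) (hx : x ∈ S) (hy : y ∈ S) (hg : g ∈ S)
    (c1 : Commute x g) (c2 : Commute y g) : g ∈ V2 x y := by
  wlog hT : x ∉ zpowers a generalizing x y
  · have h1 : y ∉ zpowers a := fun e => v.ts (((h.m.uniq (not_not.1 hT) v.tt).resolve_left
      v.t1).trans ((h.m.uniq e v.ss).resolve_left v.s1).symm)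
    have := this v.swap hy hx c2 c1 h1
    rwa [V2, Set.pair_comm] at this
  have h1 : t ∈ V2 x y := by
    rcases h.cent_out hx hT hy v.comm with e | e | e | e | e
    · exact absurd e v.s1
    · exact e ▸ V4.s_mem
    · exact absurd e.symm v.ts
    · exact absurd (e.trans (P5.inv_eq_of_sq v.tt)).symm v.ts
    · have := mul_mem (V4.s_mem (t := x) (s := y)) (inv_mem V4.t_mem)
      rwa [e, mul_inv_cancel_right, ← e] at this
  rcases h.cent_out hx hT hg c1 with e | e | e | e | e <;> rw [e]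
  exacts [one_mem _, h1, V4.t_mem, inv_mem V4.t_mem, mul_mem h1 V4.t_mem]

/-- Four-groups are self-centralizing in `2`-subgroups. -/
theorem four {x y : G} (v : V4 x y) {R : Subgroup G} (hR : IsPGroup 2 R) (hc : R ≤ 𝐂(V2 x y)) :
    R ≤ V2 x y := fun g hg => by
  obtain ⟨k, -, h1⟩ := h.syl.exists_conj_le Nat.prime_two
    (isPGroup_sup hR v.isPGroup (hc.trans (cent_le_norm _))) le_top
  have h2 := P7.V4.le_cent_iff.1 (hc hg)
  have h3 := h.four_in (P7.V4.cj v k) (h1 (conj_mem_conj (mem_sup_right V4.t_mem) k))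
    (h1 (conj_mem_conj (mem_sup_right V4.s_mem) k)) (h1 (conj_mem_conj (mem_sup_left hg) k))
    (P5.commute_cj k (mem_cent1.1 h2.1)) (P5.commute_cj k (mem_cent1.1 h2.2))
  rw [v.mem_iff]
  rw [(P7.V4.cj v k).mem_iff, conj_mul] at h3
  simpa using h3

theorem syl_four {x y : G} (v : V4 x y) : IsSyl 2 (V2 x y) 𝐂(V2 x y) :=
  isSyl_of_maximal Nat.prime_two (isMulComm_iff_le_cent.1 (P7.V4.isMulComm v)) v.isPGroup
    fun _ h1 h2 h3 => le_antisymm (h.four v h3 h2) h1

end St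

end Cfsg.Agent.H6.Cyc
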