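/-
Fusion in four-groups, solvable local subgroups.
-/
import Cfsg.Agent.H6.Cyc1

set_option autoImplicit false
set_option linter.unusedSectionVars false
set_option linter.style.haveILetI false

namespace Cfsg.Agent.H6.Cyc

open Subgroup Cfsg Cfsg.Agent Cfsg.Agent.FT
open Cfsg.Agent.P4 (odd_iff_not_dvd Max2)
open Cfsg.Agent.P5 (V4 Tri)
open Cfsg.Agent.P7 (V2)
open Cfsg.Agent.H2 (pPrimeCoreOf)
open scoped commutatorElement

universe u

variable {G : Type u} [Group G]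

/-- `g` fixes `x` and swaps `y`, `x y`. -/
def Sw (g x y : G) : Prop := g * x * g⁻¹ = x ∧ g * y * g⁻¹ = x * y

theorem Sw.third {g x y : G} (h : Sw g x y) (v : V4 x y) : g * (x * y) * g⁻¹ = y := by
  rw [← conj_mul, h.1, h.2, ← mul_assoc, v.tt, one_mul]

theorem Sw.inv {g x y : G} (h : Sw g x y) (v : V4 x y) : Sw g⁻¹ x y :=
  ⟨by nth_rewrite 1 [← h.1]; group, by nth_rewrite 1 [← h.third v]; group⟩

theorem Sw.cent_mul {g x y c : G} (h : Sw g x y) (hc : c ∈ 𝐂(V2 x y)) : Sw (c * g) x y := by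
  obtain ⟨h1, h2⟩ := P7.V4.le_cent_iff.1 hc
  rw [mem_cent1_iff_conj] at h1 h2
  refine ⟨?_, ?_⟩
  · rw [show c * g * x * (c * g)⁻¹ = c * (g * x * g⁻¹) * c⁻¹ by group, h.1, h1]
  · rw [show c * g * y * (c * g)⁻¹ = c * (g * y * g⁻¹) * c⁻¹ by group, h.2, ← conj_mul, h1, h2]

theorem Sw.cj {g x y : G} (h : Sw g x y) (k : G) :
    Sw (k * g * k⁻¹) (k * x * k⁻¹) (k * y * k⁻¹) :=
  ⟨by nth_rewrite 2 [← h.1]; group, by rw [@conj_mul _ _ x, ← h.2]; group⟩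

theorem Sw.tri {σ ρ x y : G} (h : Sw σ x y) (h' : Sw ρ y x) (v : V4 x y) : Tri ⁅ρ, σ⁆ x y := by
  have e : ∀ z, ⁅ρ, σ⁆ * z * ⁅ρ, σ⁆⁻¹ = ρ * (σ * (ρ⁻¹ * (σ⁻¹ * z * σ⁻¹⁻¹) * ρ⁻¹⁻¹) * σ⁻¹) * ρ⁻¹ :=
    fun z => by rw [commutatorElement_def]; group
  refine ⟨?_, ?_⟩
  · rw [e, (h.inv v).1, (h'.inv v.swap).2, ← v.comm.eq, h.third v, h'.1]
  · rw [e, (h.inv v).2, v.comm.eq, (h'.inv v.swap).third v.swap, h.1, h'.2]

theorem V2_comm (x y : G) : V2 x y = V2 y x := by rw [V2, Set.pair_comm]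

theorem mul2 {M N : Subgroup G} (h : M.relIndex N = 2) {a b : G} (ha : a ∈ N) (hb : b ∈ N) :
    a * b ∈ M ↔ (a ∈ M ↔ b ∈ M) := mul_mem_iff_of_index_two h (a := ⟨a, ha⟩) (b := ⟨b, hb⟩)

theorem norm2 {M N : Subgroup G} (h : M.relIndex N = 2) (hM : M ≤ N) : N ≤ 𝐍(M) :=
  (normal_subgroupOf_iff_le_normalizer hM).1 (normal_of_index_eq_two h)

theorem rel2 {M N K : Subgroup G} (h : M.relIndex N = 2) (hK : K ≤ N) (hn : ¬ K ≤ M) :
    M.relIndex K = 2 := by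
  obtain ⟨g, hg, h1⟩ := not_forall₂.1 hn
  exact relIndex_eq_two_iff_exists_notMem_and'.2 ⟨g, hg, h1, fun b hb => by
    rw [mul2 h (hK hg) (hK hb)]; tauto⟩

theorem mem_der_of_tri {N : Subgroup G} {w x y : G} (h : Tri w x y) (v : V4 x y) (hw : w ∈ N)
    (hx : x ∈ N) : V2 x y ≤ ⁅N, N⁆ := by
  have h1 : x * y ∈ ⁅N, N⁆ := by
    have := commutator_mem_commutator hw hx
    rwa [commutatorElement_def, h.1, P5.inv_eq_of_sq v.tt, ← v.comm.eq] at this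
  have h2 : x ∈ ⁅N, N⁆ := h.third v ▸ (mem_normalizer_iff.1 ((der_normal N).2 hw) _).1 h1
  exact V4.le_iff.2 ⟨h2, h.1 ▸ (mem_normalizer_iff.1 ((der_normal N).2 hw) _).1 h2⟩

variable [Finite G]

theorem Sw.mem_norm {g x y : G} (h : Sw g x y) : g ∈ 𝐍(V2 x y) :=
  mem_norm_of_conj_le (conj_le_iff.2 (V4.le_iff.2 ⟨by
    rw [mem_conj, inv_inv, h.1]; exact V4.t_mem, by
    rw [mem_conj, inv_inv, h.2]; exact mul_mem V4.t_mem V4.s_mem⟩))

theorem mem_zpowers_pow {x : G} {n : ℕ} (h : n.Coprime (orderOf x)) : x ∈ zpowers (x ^ n) :=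
  mem_zpowers_pow_iff.2 h

theorem three_dvd_of_tri {w x y : G} (h : Tri w x y) (v : V4 x y) : 3 ∣ orderOf w := by
  by_contra h0
  have h1 : w ^ 3 ∈ 𝐂[x] := mem_cent1_iff_conj.2 (by
    rw [show w ^ 3 * x * (w ^ 3)⁻¹ = w * (w * (w * x * w⁻¹) * w⁻¹) * w⁻¹ by
      simp only [pow_succ, pow_zero, one_mul, mul_inv_rev, mul_assoc], h.1, h.2, h.third v])
  exact h.not_commute v (mem_cent1.1 (zpowers_le_of_mem h1
    (mem_zpowers_pow (Nat.prime_three.coprime_iff_not_dvd.2 h0)))).symm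

theorem coprime_ord {p n : ℕ} (hp : p.Prime) {B : Subgroup G} (hB : IsPGroup p B) {x : G}
    (hx : x ∈ B) (hn : n.Coprime p) : n.Coprime (orderOf x) := by
  obtain ⟨k, hk⟩ := exists_card_eq_pow hp hB
  exact (hn.pow_right k).coprime_dvd_right (hk ▸ orderOf_dvd_card_of_mem hx)

theorem ZC.fr2 (h : ZC G) {M N Y R : Subgroup G} (h2 : M.relIndex N = 2) (hM : M ≤ N) {p : ℕ}
    (hp : p.Prime) (p2 : p ≠ 2) (hY : Y ≤ M) (cY : 𝐨(Y) = p) (hR : IsSyl 2 R (N ⊓ 𝐍(Y))) :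
    ¬ R ≤ M := fun e => by
  obtain ⟨g, hg, h1⟩ : ∃ g ∈ N, g ∉ M := by
    by_contra h0
    push Not at h0
    rw [relIndex_eq_one.2 h0] at h2
    exact absurd h2 (by norm_num)
  obtain ⟨c, hc, h3⟩ := h.conj_prime hp p2 (conj_le_of_mem_norm hY (norm2 h2 hM hg)) hY
    ((card_conj _ _).trans cY) cY
  rw [conj_conj, conj_eq_self_iff] at h3
  refine hR.ndvd (rel2 h2 inf_le_left (K := N ⊓ 𝐍(Y)) (fun e' => h1 ?_) ▸
    relIndex_dvd_of_le_left _ e)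
  exact (mul_mem_cancel_left hc).1 (e' ⟨mul_mem (hM hc) hg, h3⟩)

theorem odd_core (N : Subgroup G) : Odd 𝐨(pPrimeCoreOf 2 N) :=
  odd_iff_not_dvd.2 (not_dvd_card_pPrimeCoreOf Nat.prime_two _)

/-- In a solvable group, `2`-subgroups of the derived group lie in `O₂`. -/
theorem ZC.two_le_core (h : ZC G) {N B : Subgroup G} (hs : Group.IsSolvable N) (hB : B ≤ ⁅N, N⁆)
    (h2 : IsPGroup 2 B) : B ≤ pCoreOf 2 N := by
  have hF := H2.isNilpotent_fittingOf N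
  have h1 := dProd_pCoreOf_of_isNilpotent Nat.prime_two hF
  rw [pCoreOf_fittingOf Nat.prime_two] at h1
  have hO : N ≤ 𝐍(pPrimeCoreOf 2 (fittingOf N)) :=
    (fittingOf_normal N).2.trans (H2.normalizer_le_normalizer_pPrimeCoreOf 2 _)
  have hR := pCoreOf_normal 2 N
  have hR2 := H2.isPGroup_pCoreOf 2 N
  have hsq := hR.2.trans (norm_le_norm_sq _)
  generalize pCoreOf 2 N = R at h1 hR hR2 hsq ⊢
  obtain ⟨h3, -, h4⟩ := h.rl hR2 hR.2
  set O := pPrimeCoreOf 2 (fittingOf N) with hOd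
  set C := N ⊓ (𝐂(O) ⊓ (centMod R (sq R) ⊓ 𝐂(sq R))) with hC
  have hCN : C ⊲ N := ⟨inf_le_left, H1.le_normalizer_inf (le_norm_self N) (H1.le_normalizer_inf
    (H1.le_normalizer_centralizer hO) (H1.le_normalizer_inf (norm_le_norm_centMod hR.2 hsq)
      (H1.le_normalizer_centralizer hsq)))⟩
  have hBC : B ≤ C := by
    refine le_inf (hB.trans (der_le N)) (le_inf (hB.trans (der_le_cent_of_cyclic
      (isCyclic_of_isNilpotent_of_isZGroup (isNilpotent_of_le h1.le_right hF)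
        (h.zgroup (odd_core _))) hO)) (le_inf (fun x hx => ?_) (hB.trans h4)))
    refine zpowers_le_of_mem (mem_centMod.2 ⟨hsq (pow_mem (der_le N (hB hx)) 3), fun r hr => ?_⟩)
      (mem_zpowers_pow (coprime_ord Nat.prime_two h2 hx (by norm_num : Nat.Coprime 3 2)))
    rw [← commutatorElement_inv]
    exact inv_mem (h3 x (hB hx) r hr)
  obtain ⟨Q, hQ, hBQ⟩ := exists_isSyl_ge Nat.prime_two h2 hBC
  have h5 : C ≤ 𝐍(Q) := le_of_forall_exists_isSyl_le fun p hp _ => by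
    by_cases p2 : p = 2
    · subst p2; exact ⟨Q, hQ, le_norm_self Q⟩
    obtain ⟨P, hP⟩ := exists_isSyl hp C
    refine ⟨P, hP, (cent_comm.1 ((hQ.le.trans (inf_le_right.trans inf_le_left)).trans
      (cent_anti ?_))).trans (cent_le_norm Q)⟩
    have h6 : P ≤ 𝐂(R) := H1.le_centralizer_of_commutator_le ((hP.le.trans inf_le_left).trans hR.2)
      (coprime_card_of_isPGroup hp Nat.prime_two p2 hP.pgrp hR2)
      (le_centMod_iff.1 (hP.le.trans (inf_le_right.trans (inf_le_right.trans inf_le_left)))).2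
      (hP.le.trans (inf_le_right.trans (inf_le_right.trans inf_le_right)))
    have h7 : P ≤ fittingOf N := (le_inf (hP.le.trans inf_le_left) (by
      rw [← h1.sup, cent_sup]
      exact le_inf h6 (hP.le.trans (inf_le_right.trans inf_le_left)))).trans (cent_fittingOf_le hs)
    exact (hasNPC_of_isNilpotent Nat.prime_two hF).le_pPrimeCoreOf Nat.prime_two h7 fun e =>
      p2 (eq_of_prime_dvd_card_of_isPGroup hp Nat.prime_two hP.pgrp e).symm
  have h6 : Q ⊲ N := ⟨hQ.le.trans inf_le_left, by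
    rw [← hQ.pCoreOf_eq Nat.prime_two h5]
    exact hCN.2.trans (H2.normalizer_le_normalizer_pCoreOf 2 _)⟩
  have h7 : Q ≤ fittingOf N := le_fittingOf h6 (isNilpotent_of_isPGroup Nat.prime_two hQ.pgrp)
  have h8 : IsSyl 2 R (fittingOf N) := ⟨h1.le_left, hR2, by
    rw [h1.sdProd.relIndex_left]; exact odd_iff_not_dvd.1 (odd_core _)⟩
  exact hBQ.trans (h8.le_of_normal Nat.prime_two h1.normal_left.2 hQ.pgrp h7)

namespace St

variable {S : Subgroup G} {a t s : G} (h : St S a t s)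
include h

theorem sw_u {u y : G} (hu : u ∈ zpowers a) (uu : u * u = t) (hy : y ∈ S) (hT : y ∉ zpowers a) :
    Sw u t y := by
  refine ⟨by rw [← uu]; group, ?_⟩
  have h1 := cT hu ((h.cover y hy).resolve_left hT)
  have h2 := h.inv_u hu uu
  have h3 : t⁻¹ = t := P5.inv_eq_of_sq h.zz
  calc u * y * u⁻¹ = s * (s * u * s) * (s * y * u⁻¹) := by
        simp only [← mul_assoc, h.ss, one_mul]; rw [mul_assoc u s s, h.ss, mul_one]
    _ = s * (u * u)⁻¹ * (s * y) := by rw [h2, ← h1.inv_left.eq]; group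
    _ = t * y := by rw [uu, h3, ← h.v4.comm.eq, mul_assoc, ← mul_assoc s, h.ss, one_mul]

theorem syl_H : IsSyl 2 S 𝐂[t] := h.syl.of_le h.m.le_cent le_top

theorem exists_sw {x y : G} (v : V4 x y) : ∃ g, Sw g x y := by
  obtain ⟨k, rfl⟩ := h.conj v.t1 v.tt
  obtain ⟨y, rfl⟩ : ∃ y', y = k * y' * k⁻¹ := ⟨k⁻¹ * y * k, by group⟩
  have v' : V4 t y := by simpa [mul_assoc] using P7.V4.cj v k⁻¹
  obtain ⟨c, hc, h1⟩ := h.syl_H.exists_conj_le Nat.prime_two (P4.isPGroup_zpowers_of_sq v'.ss)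
    (zpowers_le_of_mem (mem_cent1.2 v'.comm))
  have h2 := h1 (conj_mem_conj (mem_zpowers y) c)
  obtain ⟨u, hu, uu⟩ := h.exists_u
  have h3 := mem_cent1_iff_conj.1 hc
  have h4 := (h.sw_u hu uu h2 fun e => by
    rcases h.m.uniq e (P4.conj_sq v'.ss c) with e | e
    · exact P4.conj_ne_one v'.s1 c e
    · rw [← h3] at e
      exact v'.ts (by simpa using e.symm)).cj (k * c⁻¹)
  nth_rewrite 1 [← h3] at h4
  exact ⟨_, by simpa [mul_assoc] using h4⟩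

theorem exists_tri' {x y : G} (v : V4 x y) {Y : Subgroup G} (hY : IsCyclic Y)
    (hF : ∀ g ∈ 𝐍(V2 x y), ∃ c ∈ 𝐂(V2 x y), c * g ∈ 𝐍(Y)) : ∃ w ∈ 𝐂(Y), Tri w x y := by
  obtain ⟨σ, h1⟩ := h.exists_sw v
  obtain ⟨ρ, h2⟩ := h.exists_sw v.swap
  obtain ⟨c, hc, h3⟩ := hF σ h1.mem_norm
  obtain ⟨d, hd, h4⟩ := hF ρ (V2_comm y x ▸ h2.mem_norm)
  exact ⟨_, der_le_cent_of_cyclic hY le_rfl (commutator_mem_commutator h4 h3),
    (h1.cent_mul hc).tri (h2.cent_mul (V2_comm x y ▸ hd)) v⟩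

/-- Lemma F. -/
theorem exists_tri {x y : G} (v : V4 x y) {p : ℕ} (hp : p.Prime) (p2 : p ≠ 2) {P : Subgroup G}
    (cP : 𝐨(P) = p) (hP : P ≤ 𝐂(V2 x y)) : ∃ w ∈ 𝐂(P), Tri w x y :=
  h.exists_tri' v (isCyclic_of_card_prime (cP ▸ hp)) fun g hg => by
    obtain ⟨c, hc, h1⟩ := h.zc.conj_prime hp p2 (conj_le_of_mem_norm hP
      (H1.normalizer_le_normalizer_centralizer _ hg)) hP ((card_conj _ _).trans cP) cP
    exact ⟨c, hc, by rwa [conj_conj, conj_eq_self_iff] at h1⟩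

/-- Lemma Sol. -/
theorem sol {x y w : G} (v : V4 x y) (tri : Tri w x y) {N : Subgroup G} (hs : Group.IsSolvable N)
    (hx : x ∈ N) (hw : w ∈ N) : N ≤ 𝐍(V2 x y) := by
  have h1 := mem_der_of_tri tri v hw hx
  have h2 := h.zc.two_le_core hs h1 v.isPGroup
  have hR := pCoreOf_normal 2 N
  have hR2 := H2.isPGroup_pCoreOf 2 N
  generalize pCoreOf 2 N = R at h2 hR hR2
  have h3 := h.four v (hR2.to_le (sq_le R)) (cent_comm.1 (h1.trans (h.zc.rl hR2 hR.2).2.2))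
  have h4 : ∀ r ∈ R, r * r = 1 := fun r hr => by
    by_contra h0
    have h5 := hR.2.trans (norm_le_norm_sq R)
    obtain ⟨g, hg, e⟩ := tri.exists_conj v (h3 (sq_mem hr)) h0
    have h6 : x ∈ sq R := (mem_normalizer_iff.1 (h5 (zpowers_le_of_mem hw hg)) x).2
      (e ▸ sq_mem hr)
    exact v.ts (P4.uniq_invol (h.zc.sq_spec hR2).1 h6 v.t1 v.tt
      (tri.1 ▸ conj_mem (h5 hw) h6) v.s1 v.ss)
  rw [le_antisymm h2 (h.four v hR2 fun r hr => mem_cent.2 fun z hz =>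
    L.commute_of_sq_eq_one h4 (h2 hz) hr)]
  exact hR.2

end St

end Cfsg.Agent.H6.Cyc
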