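/-
Uniqueness of the double cover of `PSL₂(q)` with a unique involution.
-/
import Cfsg.Agent.H6.Cyc2

set_option autoImplicit false
set_option linter.unusedSectionVars false
set_option linter.style.haveILetI false

namespace Cfsg.Agent.H6.Cyc

open Subgroup Cfsg Cfsg.Agent Cfsg.Agent.FT Cfsg.Agent.Cj
open scoped commutatorElement

universe u

theorem exists_index_two {G : Type u} [Group G] [Finite G] {C : Subgroup G} {e : G} (he : e ∈ C)
    (h : e ∉ sq C) : ∃ M : Subgroup G, M ≤ C ∧ M.relIndex C = 2 ∧ e ∉ M := by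
  obtain ⟨M, ⟨h1, h2, h3⟩, hm⟩ := Set.Finite.exists_maximal (Set.toFinite
    {M : Subgroup G | sq C ≤ M ∧ M ≤ C ∧ e ∉ M}) ⟨sq C, le_rfl, sq_le C, h⟩
  refine ⟨M, h2, relIndex_eq_two_iff_exists_notMem_and'.2 ⟨e, he, h3, fun g hg => ?_⟩, h3⟩
  by_contra! h0
  have hn : C ≤ 𝐍(M) := le_norm_of_der_le (commutator_le.2 fun x hx y hy => h1 (by
    have := mul_mem (mul_mem (sq_mem hx) (sq_mem (mul_mem (inv_mem hx) hy)))
      (sq_mem (inv_mem hy))
    rwa [show x * x * (x⁻¹ * y * (x⁻¹ * y)) * (y⁻¹ * y⁻¹) = ⁅x, y⁆ by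
      rw [commutatorElement_def]; group] at this)) h2
  have h4 : e ∈ M ⊔ zpowers g := by
    by_contra h5
    exact h0.2 (hm ⟨h1.trans le_sup_left, sup_le h2 (zpowers_le_of_mem hg), h5⟩ le_sup_left
      (mem_sup_right (mem_zpowers g)))
  obtain ⟨m, hm', y, hy, rfl⟩ := (mem_sup_of_norm ((zpowers_le_of_mem hg).trans hn)).1 h4
  have h6 : zpowers (g * g) ≤ M := zpowers_le_of_mem (h1 (sq_mem hg))
  rcases mem_sq_or g hy with h5 | h5
  · exact h3 (mul_mem hm' (h6 h5))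
  · refine h0.1 ?_
    have h7 : Commute g y := St.cT (mem_zpowers g) hy
    rw [mul_assoc, ← h7.eq]
    exact mul_mem hm' (h6 h5)

theorem dc_equiv {G H X : Type*} [Group G] [Group H] [Group X] [Finite G] [Finite H] [Finite X]
    {π : G →* X} {ρ : H →* X} {z : G} {w : H} (h : DC π z) (h' : DC ρ w)
    {K : Subgroup X} {t s : X} (b : P3.BSW K t s) : Nonempty (G ≃* H) := by
  let P : Subgroup (G × H) := (π.comp (MonoidHom.fst G H)).eqLocus (ρ.comp (MonoidHom.snd G H))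
  have hP : ∀ {a b}, (a, b) ∈ P ↔ π a = ρ b := Iff.rfl
  let d : P := ⟨(z, w), hP.2 (h.map.trans h'.map.symm)⟩
  let e : P := ⟨(z, 1), hP.2 (h.map.trans (map_one ρ).symm)⟩
  let e' : P := ⟨(1, w), hP.2 ((map_one π).trans h'.map.symm)⟩
  have hd : ∀ g : P, g * d * g⁻¹ = d := fun g => Subtype.ext (Prod.ext (h.comm _) (h'.comm _))
  have he : ∀ g : P, g * e * g⁻¹ = e := fun g =>
    Subtype.ext (Prod.ext (h.comm _) (by simp [e]))
  have hdd : d * d = 1 := Subtype.ext (Prod.ext h.sq h'.sq)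
  have hee : e * e = 1 := Subtype.ext (Prod.ext h.sq (one_mul 1))
  have hde : e' = e * d := Subtype.ext (Prod.ext h.sq.symm (one_mul w).symm)
  have hD : ∀ x ∈ zpowers d, x = 1 ∨ x = d := fun x hx => by
    exact eq_or_of_mem_zpowers hdd hx
  haveI : (zpowers d).Normal := ⟨fun x hx g => by
    rcases hD x hx with rfl | rfl
    · simp
    · rw [hd]; exact hx⟩
  let q := QuotientGroup.mk' (zpowers d)
  let φ : P →* X := π.comp ((MonoidHom.fst G H).comp P.subtype)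
  let ψ : P ⧸ zpowers d →* X := QuotientGroup.lift _ φ fun x hx => by
    rcases hD x hx with rfl | rfl
    exacts [map_one φ, h.map]
  have hψ : Function.Surjective ψ := fun x => by
    obtain ⟨a, rfl⟩ := h.surj x
    obtain ⟨b, hb⟩ := h'.surj (π a)
    exact ⟨q ⟨(a, b), hP.2 hb.symm⟩, rfl⟩
  have hT : ∀ y, ψ y * ψ y = 1 → y * y = 1 := fun y h1 => by
    obtain ⟨⟨⟨a, b⟩, hab⟩, rfl⟩ := QuotientGroup.mk'_surjective _ y
    replace h1 : π a * π a = 1 := h1
    rw [← map_mul, QuotientGroup.mk'_apply, QuotientGroup.eq_one_iff]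
    by_cases h2 : π a = 1
    · rw [show (⟨(a, b), hab⟩ : P) * ⟨(a, b), hab⟩ = 1 from Subtype.ext
        (Prod.ext (h.sq_eq_one h2) (h'.sq_eq_one (hP.1 hab ▸ h2)))]
      exact one_mem _
    · rw [show (⟨(a, b), hab⟩ : P) * ⟨(a, b), hab⟩ = d from Subtype.ext
        (Prod.ext (h.sq_eq h2 h1) (h'.sq_eq (hP.1 hab ▸ h2) (hP.1 hab ▸ h1)))]
      exact mem_zpowers d
  have hq : ∀ g, g * q e * g⁻¹ = q e := fun g => by
    obtain ⟨g, rfl⟩ := QuotientGroup.mk'_surjective _ g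
    rw [← map_inv, ← map_mul, ← map_mul, he]
  have hq1 : q e ≠ 1 := fun h1 => by
    rcases hD e ((QuotientGroup.eq_one_iff _).1 h1) with h2 | h2
    · exact h.ne (congrArg (fun x : P => x.1.1) h2)
    · exact h'.ne (congrArg (fun x : P => x.1.2) h2).symm
  have hψe : ψ (q e) = 1 := h.map
  obtain ⟨σ, hσ⟩ := hψ s
  have σσ : σ * σ = 1 := hT σ (by rw [hσ, b.ss])
  have hi : ∀ κ, ψ κ ∈ K → σ * κ * σ = κ⁻¹ := fun κ hκ => by
    rw [eq_inv_iff_mul_eq_one, mul_assoc]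
    exact hT _ (by rw [map_mul, hσ, ← mul_assoc, b.inv _ hκ, inv_mul_cancel])
  have hc : ∀ κ, ψ κ ∈ K → ∀ μ, ψ μ ∈ K → Commute κ μ := fun κ hκ μ hμ => by
    have h1 := hi (κ * μ) (by rw [map_mul]; exact mul_mem hκ hμ)
    rw [show σ * (κ * μ) * σ = σ * κ * σ * (σ * σ)⁻¹ * (σ * σ) * (σ * σ)⁻¹ * (σ * μ * σ) by group,
      σσ, hi κ hκ, hi μ hμ, inv_one, mul_one, mul_one, mul_one, ← mul_inv_rev, inv_inj] at h1
    exact h1.symm
  let A : Subgroup (P ⧸ zpowers d) :=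
    { carrier := {x | ∃ κ, ψ κ ∈ K ∧ κ * κ = x}
      one_mem' := ⟨1, by simp, mul_one 1⟩
      mul_mem' := by
        rintro _ _ ⟨κ, hκ, rfl⟩ ⟨μ, hμ, rfl⟩
        exact ⟨κ * μ, by rw [map_mul]; exact mul_mem hκ hμ, (hc _ hμ _ hκ).mul_mul_mul_comm κ μ⟩
      inv_mem' := by
        rintro _ ⟨κ, hκ, rfl⟩
        exact ⟨κ⁻¹, by rw [map_inv]; exact inv_mem hκ, (mul_inv_rev κ κ).symm⟩ }
  obtain ⟨W, hW, hWi, heW⟩ := exists_index_two (C := (𝐂[t]).comap ψ) (e := q e)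
    (by rw [mem_comap, hψe]; exact one_mem _) (fun h1 => by
      obtain ⟨κ, -, h2⟩ : q e ∈ A := (sq_le_iff.2 fun r hr => by
        rcases b.mem_N.1 hr with h2 | h2
        · exact ⟨r, h2, rfl⟩
        · rw [hT r (b.coset_sq h2)]; exact one_mem A) h1
      exact hq1 (h2.symm.trans (hT κ (by rw [← map_mul, h2, hψe]))))
  obtain ⟨N, -, hN, heN⟩ := H8.exists_normal_index_two_of_not_conj W b.odd_index
    (by rw [← relIndex_mul_index hW, hWi, index_comap_of_surjective _ hψ]) (t := q e)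
    (by rw [pow_two, ← map_mul, hee, map_one]) (fun g hg => heW (hq g ▸ hg))
  have hqd : q d = 1 := (QuotientGroup.eq_one_iff _).2 (mem_zpowers d)
  have heN' : q e' ∉ N := by rwa [hde, map_mul, hqd, mul_one]
  have hm : ∀ x : P, q x ∈ N → x.1 ∈ (N.comap q).map P.subtype := fun x hx => ⟨x, hx, rfl⟩
  refine nonempty_equiv_of_graph ((N.comap q).map P.subtype) ?_ ?_ (fun a => ?_) (fun b => ?_)
  · rintro b ⟨⟨_, hb⟩, hx, rfl⟩
    refine (h'.ker b ((hP.1 hb).symm.trans (map_one π))).resolve_right ?_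
    rintro rfl
    exact heN' hx
  · rintro a ⟨⟨_, ha⟩, hx, rfl⟩
    refine (h.ker a ((hP.1 ha).trans (map_one ρ))).resolve_right ?_
    rintro rfl
    exact heN hx
  · obtain ⟨b, hb⟩ := h'.surj (π a)
    by_cases h1 : q ⟨(a, b), hP.2 hb.symm⟩ ∈ N
    · exact ⟨b, hm _ h1⟩
    · refine ⟨b * w, ?_⟩
      have := hm (⟨(a, b), hP.2 hb.symm⟩ * e') (by
        rw [map_mul, mul_mem_iff_of_index_two hN]; exact iff_of_false h1 heN')
      simpa [e'] using this
  · obtain ⟨a, ha⟩ := h.surj (ρ b)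
    by_cases h1 : q ⟨(a, b), hP.2 ha⟩ ∈ N
    · exact ⟨a, hm _ h1⟩
    · refine ⟨a * z, ?_⟩
      have := hm (⟨(a, b), hP.2 ha⟩ * e) (by
        rw [map_mul, mul_mem_iff_of_index_two hN]; exact iff_of_false h1 heN)
      simpa [e] using this

theorem exists_DC_SL2 {F : Type*} [Field F] (h2 : (2 : F) ≠ 0) :
    ∃ w, DC (QuotientGroup.mk' (center (Matrix.SpecialLinearGroup (Fin 2) F))) w := by
  classical
  have hc := P3.card_center_SL2 h2
  obtain ⟨w, w1, hw⟩ := (Nat.card_eq_two_iff' 1).1 hc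
  have h1 : ∀ g ∈ center (Matrix.SpecialLinearGroup (Fin 2) F), g = 1 ∨ g = w := fun g hg =>
    or_iff_not_imp_left.2 fun g1 => congrArg Subtype.val
      (hw ⟨g, hg⟩ fun e => g1 (congrArg Subtype.val e))
  refine ⟨w, QuotientGroup.mk'_surjective _, fun e => w1 (Subtype.ext e), ?_,
    (QuotientGroup.eq_one_iff _).2 w.2, fun g hg => h1 g ((QuotientGroup.eq_one_iff _).1 hg),
    fun g hg => h1 g (P7.mem_center_of_sq h2 hg)⟩
  have h3 := pow_card_eq_one' (x := w)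
  rw [hc, pow_two] at h3
  exact congrArg Subtype.val h3

end Cfsg.Agent.H6.Cyc
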