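/-
The data of `SL₂(r)` and `PSL₂(r)` used below.
-/
import Cfsg.Agent.H6.Cyc3

set_option autoImplicit false
set_option linter.unusedSectionVars false
set_option linter.style.haveILetI false

namespace Cfsg.Agent.H6.Cyc

open Subgroup Cfsg Cfsg.Agent Cfsg.Agent.FT Cfsg.Agent.H4.SL2
open Cfsg.Agent.P7 (uni dia PU sle)
open scoped commutatorElement

universe u

variable {G : Type u} [Group G]

theorem le_cent_of_perfect {L A : Subgroup G} (hL : ⁅L, L⁆ = L) (h : ⁅L, A⁆ ≤ 𝐂(L)) :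
    A ≤ 𝐂(L) := by
  have h1 := commutator_eq_bot_iff_le_centralizer.2 h
  exact H1.commutator_eq_bot_iff_le_centralizer'.1 (hL ▸ commutator_commutator_eq_bot_of_rotate h1
    (by rwa [commutator_comm A]))

/-- Abstract data of `L ≅ PSL₂(r)` (`d = 1`) or `SL₂(r)` (`d = 2`). -/
structure LS (L : Subgroup G) (d r k l : ℕ) : Prop where
  rp : r.Prime
  r5 : 5 ≤ r
  eps : (r = 2 * k + 1 ∧ l = k + 1) ∨ (r + 1 = 2 * k ∧ l + 1 = k)
  ev : 2 ∣ k
  d12 : d = 1 ∨ d = 2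
  card : 𝐨(L) = 2 * d * r * k * l
  uniq : d = 2 → ∀ j ∈ L, j * j = 1 → j ∈ 𝐂(L)
  cent : ∀ b ∈ L, b * b ≠ 1 → ¬ r ∣ orderOf b → IsCyclic (L ⊓ 𝐂[b] : Subgroup G) ∧
    (𝐨((L ⊓ 𝐂[b] : Subgroup G)) = d * l ∨ 𝐨((L ⊓ 𝐂[b] : Subgroup G)) = d * k) ∧
    (∃ i ∈ L, i * i ∈ 𝐂(L) ∧ ∀ c ∈ L ⊓ 𝐂[b], i * c * i⁻¹ = c⁻¹) ∧
    ∀ g ∈ L, g * b * g⁻¹ ∈ 𝐂[b] → g * b * g⁻¹ = b ∨ g * b * g⁻¹ = b⁻¹
  unip : ∀ P : Subgroup G, P ≤ L → 𝐨(P) = r → 𝐨((L ⊓ 𝐂(P) : Subgroup G)) = d * r ∧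
    2 * 𝐂(P).relIndex (L ⊓ 𝐍(P)) + 1 = r ∧ 𝐍(L) ⊓ 𝐂(P) ≤ P ⊔ 𝐂(L)

structure Cv (r : ℕ) [Fact r.Prime] (π : SL (ZMod r) →* G) (L : Subgroup G) (d : ℕ) : Prop where
  range : π.range = L
  ker : (d = 1 ∧ π.ker = center _) ∨ (d = 2 ∧ π.ker = ⊥)
  r5 : 5 ≤ r

namespace Cv

variable {r : ℕ} [hr : Fact r.Prime] {π : SL (ZMod r) →* G} {L : Subgroup G} {d : ℕ}
  (h : Cv r π L d)
include h

theorem odd : Nat.card (ZMod r) % 2 = 1 := by
  rw [Nat.card_zmod]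
  exact Nat.odd_iff.1 (hr.out.odd_of_ne_two (by have := h.r5; omega))

theorem two_ne : (2 : ZMod r) ≠ 0 := two_ne_zero_of_odd h.odd

theorem ker_le {x : SL (ZMod r)} (hx : π x = 1) : x ∈ center _ := by
  rcases h.ker with ⟨-, e⟩ | ⟨-, e⟩
  · exact e ▸ hx
  · rw [mem_bot.1 (e ▸ hx : x ∈ ⊥)]; exact one_mem _

theorem mem (x : SL (ZMod r)) : π x ∈ L := h.range ▸ ⟨x, rfl⟩

theorem exists_eq {a : G} (ha : a ∈ L) : ∃ x, π x = a := by rwa [← h.range] at ha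

theorem eq_imp {x y : SL (ZMod r)} (e : π x = π y) : x⁻¹ * y ∈ center _ :=
  h.ker_le (by rw [map_mul, map_inv, e, inv_mul_cancel])

theorem cent_mem {x : SL (ZMod r)} (hx : x ∈ center _) : π x ∈ 𝐂(L) := mem_cent.2 fun a ha => by
  obtain ⟨y, rfl⟩ := h.exists_eq ha
  rw [← map_mul, ← map_mul, mem_center_iff.1 hx]

theorem card_map {K : Subgroup (SL (ZMod r))} (hK : center _ ≤ K) :
    2 * 𝐨(K.map π) = d * 𝐨(K) := by
  rcases h.ker with ⟨rfl, e⟩ | ⟨rfl, e⟩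
  · rw [one_mul]; exact P7.Cov.card_map ⟨h.range, e, Nat.odd_iff.2 h.odd⟩ hK
  · rw [card_map_inj ((MonoidHom.ker_eq_bot_iff π).1 e)]

theorem cent_eq {x : SL (ZMod r)} (hx : π x * π x ≠ 1) : L ⊓ 𝐂[π x] = (𝐂[x]).map π := by
  refine le_antisymm (fun a ha => ?_) ?_
  · obtain ⟨g, rfl⟩ := h.exists_eq ha.1
    have h1 : π (x * g) = π (g * x) := by rw [map_mul, map_mul, mem_cent1.1 ha.2]
    rcases P4.commute_mk (x := x) (g := g) (QuotientGroup.eq.2 (h.eq_imp h1)) with h2 | ⟨z, hz, z1, e⟩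
    · exact mem_map_of_mem _ h2
    · refine absurd ?_ hx
      have h2 : π z = 1 := by
        have := congrArg π e
        rw [map_mul, ← h1, map_mul, map_inv, mul_inv_cancel_right, map_mul] at this
        simpa using this.symm
      rw [← map_mul]
      by_cases h3 : x * x = 1
      · rw [h3, map_one]
      · rw [P4.center_eq (P4.sq_mem_center (P4.tr_eq_zero hz z1 e)) h3 hz z1, h2]
  · rintro _ ⟨y, hy, rfl⟩
    exact ⟨h.mem y, mem_cent1_iff_commute.2 ((mem_cent1_iff_commute.1 hy).map π)⟩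

omit h in
theorem center_le (x : SL (ZMod r)) : center _ ≤ 𝐂[x] :=
  fun _ hz => mem_cent1.2 (mem_center_iff.1 hz x)

theorem not_center {x : SL (ZMod r)} (hx : π x * π x ≠ 1) : x ∉ center _ := fun e =>
  hx (by rw [← map_mul, ← pow_two, sq_eq_one_of_mem_center e, map_one])

variable [Finite G]

theorem tr_ne {x : SL (ZMod r)} (hx : π x * π x ≠ 1) (ho : ¬ r ∣ orderOf (π x)) :
    tr x ^ 2 ≠ 4 := fun e => h.not_center hx (mem_center_of_tr e (n := orderOf (π x) * 2) (by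
      rw [Nat.cast_mul]
      exact mul_ne_zero (mt (ZMod.natCast_eq_zero_iff _ _).1 ho) h.two_ne) h.two_ne (by
      rw [pow_mul]
      exact sq_eq_one_of_mem_center (h.ker_le (by rw [map_pow, pow_orderOf_eq_one]))))

theorem ent {x y : SL (ZMod r)} (e : π x = π y) (hx : x 1 0 = 0) : y 1 0 = 0 := by
  obtain ⟨a, b, c⟩ := mem_center_iff'.1 (h.eq_imp e)
  rw [← mul_inv_cancel_left x y, P7.mul_e, hx, b]; ring

theorem uni_ne {b : ZMod r} (hb : b ≠ 0) : π (uni b) ≠ 1 :=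
  fun e => hb (P7.uni_mem_center.1 (h.ker_le e))

theorem card_PU : 𝐨(PU π) = r := by
  refine (Nat.card_congr (Equiv.ofBijective (fun b : ZMod r =>
    (⟨π (uni b), P7.mem_PU.2 ⟨b, rfl⟩⟩ : PU π)) ⟨fun a b e => ?_, fun a => ?_⟩)).symm.trans
    (Nat.card_zmod r)
  · by_contra h0
    refine h.uni_ne (sub_ne_zero.2 h0) ?_
    have h2 : π (uni (a - b)) * π (uni b) = π (uni b) := by
      rw [← map_mul, ← P7.uni_add, sub_add_cancel]; exact congrArg Subtype.val e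
    simpa using h2
  · obtain ⟨b, e⟩ := P7.mem_PU.1 a.2
    exact ⟨b, Subtype.ext e⟩

theorem PU_le : PU π ≤ L := fun a ha => by
  obtain ⟨b, rfl⟩ := P7.mem_PU.1 ha; exact h.mem _

theorem mem_norm_PU {y : SL (ZMod r)} : π y ∈ 𝐍(PU π) ↔ y 1 0 = 0 := by
  constructor
  · intro hy
    obtain ⟨b, hb⟩ := P7.mem_PU.1 ((mem_normalizer_iff.1 hy _).1 (P7.mem_PU.2 ⟨1, rfl⟩))
    rw [← map_inv, ← map_mul, ← map_mul] at hb
    have h1 := h.ent hb rfl
    rw [P7.conj_uni_10] at h1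
    simpa using h1
  · intro hy
    refine mem_norm_of_conj_le ?_
    rintro _ ⟨a, ha, rfl⟩
    obtain ⟨b, rfl⟩ := P7.mem_PU.1 ha
    exact P7.mem_PU.2 ⟨y 0 0 ^ 2 * b, by rw [← P7.conj_uni hy]; simp⟩

theorem card_centP : 𝐨((L ⊓ 𝐂(PU π) : Subgroup G)) = d * r := by
  have h1 : π (uni 1) * π (uni 1) ≠ 1 := by
    rw [← map_mul, ← P7.uni_add, one_add_one_eq_two]; exact h.uni_ne h.two_ne
  have h2 := h.card_map (center_le (uni 1))
  rw [← h.cent_eq h1, P4.card_cent_unip (h.not_center h1) (by simp only [tr, sle]; norm_num),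
    P3.card_center_SL2 h.two_ne, Nat.card_zmod, cent1_eq_of_card_prime (h.card_PU.symm ▸ hr.out)
      (P7.mem_PU.2 ⟨1, rfl⟩) (h.uni_ne one_ne_zero)] at h2
  linarith

theorem card_normP : 2 * 𝐨((L ⊓ 𝐍(PU π) : Subgroup G)) = d * (r * (r - 1)) := by
  have h1 : L ⊓ 𝐍(PU π) = (𝐍(PU π).comap π).map π := by
    rw [map_comap_eq, h.range]
  rw [h1, h.card_map fun z hz => h.mem_norm_PU.2 (mem_center_iff'.1 hz).2.1]
  congr 1
  refine (Nat.card_congr (Equiv.ofBijective (fun p : ZMod r × (ZMod r)ˣ =>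
    (⟨uni p.1 * dia p.2, h.mem_norm_PU.2 (by simp only [sle]; ring)⟩ : 𝐍(PU π).comap π))
    ⟨fun a b e => ?_, fun y => ?_⟩)).symm.trans ?_
  · have e1 := congrArg (fun y : 𝐍(PU π).comap π => y.1 0 0) e
    have e2 := congrArg (fun y : 𝐍(PU π).comap π => y.1 0 1) e
    simp only [sle, one_mul, mul_zero, add_zero, zero_add] at e1 e2
    rw [e1, mul_left_inj' (inv_ne_zero b.2.ne_zero)] at e2
    exact Prod.ext e2 (Units.ext e1)
  · obtain ⟨b, a, e⟩ := P7.eq_uni_mul_dia (h.mem_norm_PU.1 y.2)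
    exact ⟨(b, a), Subtype.ext e.symm⟩
  · rw [Nat.card_prod, Nat.card_units, Nat.card_zmod]

theorem aut (hz : ZC G) (hq : IsQuasisimple L) : 𝐍(L) ⊓ 𝐂(PU π) ≤ PU π ⊔ 𝐂(L) := by
  let w : SL (ZMod r) := Agent.L.mkSL2 0 1 (-1) 0 (by ring)
  have hw : π w ∉ 𝐍(PU π) := fun e => by
    have := h.mem_norm_PU.1 e
    simp only [w, sle] at this
    simp at this
  have key : ∀ g ∈ L, g ∉ 𝐍(PU π) → ∃ u ∈ PU π, PU π ^ᵍ g = (PU π ^ᵍ π w) ^ᵍ u := fun g hg hn => by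
    obtain ⟨y, rfl⟩ := h.exists_eq hg
    obtain ⟨b, a, c, rfl⟩ := P7.bruhat_SL (w := w) rfl rfl (mt h.mem_norm_PU.2 hn)
    refine ⟨_, P7.mem_PU.2 ⟨b, rfl⟩, ?_⟩
    have h1 : dia a * w = w * (dia a)⁻¹ := by
      have := P7.anti_conj_dia (w := w) rfl rfl a⁻¹
      rw [show dia a⁻¹ = (dia a)⁻¹ from map_inv (P7.diaHom _) a, inv_inv] at this
      nth_rewrite 1 [← this]; rw [inv_mul_cancel_right]
    rw [mul_assoc (uni b), h1, mul_assoc, mul_assoc, map_mul π, map_mul π w, ← conj_conj,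
      ← conj_conj, conj_eq_of_mem_norm (g := π ((dia a)⁻¹ * uni c)) (by
        rw [map_mul, map_inv]
        exact mul_mem (inv_mem (h.mem_norm_PU.2 rfl)) (h.mem_norm_PU.2 rfl))]
  intro g ⟨hg, hc⟩
  have hP := cent_le_norm _ hc
  obtain ⟨y, hy, h1⟩ := hz.conj_prime hr.out (by have := h.r5; omega) h.PU_le
    (conj_le_of_mem_norm (conj_le_of_mem h.PU_le (h.mem w)) hg) h.card_PU
    (by rw [card_conj, card_conj, h.card_PU])
  obtain ⟨u, hu, h2⟩ := key y hy fun e => hw (by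
    rw [conj_eq_of_mem_norm e, eq_comm, conj_eq_iff, conj_eq_of_mem_norm (inv_mem hP)] at h1
    exact conj_eq_self_iff.1 h1)
  have h3 : u⁻¹ * g ∈ 𝐍(PU π ^ᵍ π w) := by
    rw [← conj_eq_self_iff, ← conj_conj, ← h1, h2, conj_conj_inv]
  have h4 : u⁻¹ * g ∈ 𝐂(PU π) := mul_mem (inv_mem (isMulComm_iff_le_cent.1 (isMulComm_of_isCyclic
    (isCyclic_of_card_prime (h.card_PU.symm ▸ hr.out))) hu)) hc
  have h5 : u⁻¹ * g ∈ 𝐍(L) := mul_mem (inv_mem (le_norm_self L (h.PU_le hu))) hg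
  rw [show g = u * (u⁻¹ * g) by group]
  refine mul_mem_sup hu ?_
  generalize u⁻¹ * g = x at h3 h4 h5
  let K : Subgroup G := ⨅ y ∈ L, 𝐍(PU π ^ᵍ y)
  have hK : ∀ {n}, n ∈ K ↔ ∀ y ∈ L, n ∈ 𝐍(PU π ^ᵍ y) := by simp [K, mem_iInf]
  have hKL : ∀ c ∈ L, ∀ n ∈ K, c * n * c⁻¹ ∈ K := fun c hc n hn => hK.2 fun y hy => by
    have := hK.1 hn (c⁻¹ * y) (mul_mem (inv_mem hc) hy)
    rwa [← conj_conj, norm_conj, mem_conj, inv_inv] at this
  have hx : x ∈ K := hK.2 fun y hy => by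
    by_cases e : y ∈ 𝐍(PU π)
    · rw [conj_eq_of_mem_norm e]; exact cent_le_norm _ h4
    · obtain ⟨v, hv, e'⟩ := key y hy e
      rw [e', norm_conj, mem_conj, mul_assoc, ← mem_cent.1 h4 v hv, inv_mul_cancel_left]
      exact h3
  obtain ⟨p1, -, p2⟩ := H2.isQuasisimple_subgroup_iff.1 hq
  have h6 := (p2 (L ⊓ K) inf_le_left (H1.le_normalizer_inf (le_norm_self L) fun c hc =>
    mem_norm_of_conj_le (by rintro _ ⟨n, hn, rfl⟩; exact hKL c hc n hn))).resolve_left fun e => hw (by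
      have := hK.1 (e.ge (h.mem w)).2 1 (one_mem L)
      rwa [conj_one] at this)
  refine le_cent_of_perfect p1 (H1.commutator_zpowers_le (H1.normalizer_le_normalizer_centralizer _ h5)
    fun c hc => h6 ⟨?_, ?_⟩) (mem_zpowers x)
  · rw [commutatorElement_def, mul_assoc, mul_assoc, ← mul_assoc x]
    exact mul_mem hc (conj_mem h5 (inv_mem hc))
  · exact K.mul_mem (hKL c hc x hx) (K.inv_mem hx)

theorem ls (hz : ZC G) (hq : IsQuasisimple L) : ∃ k l, LS L d r k l := by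
  have r5 := h.r5
  have ro := h.odd
  rw [Nat.card_zmod] at ro
  obtain ⟨k, l, eps, ev⟩ : ∃ k l, ((r = 2 * k + 1 ∧ l = k + 1) ∨ (r + 1 = 2 * k ∧ l + 1 = k)) ∧
      2 ∣ k := by
    by_cases e : r % 4 = 1
    · exact ⟨r / 2, r / 2 + 1, by omega, by omega⟩
    · exact ⟨r / 2 + 1, r / 2, by omega, by omega⟩
  have d12 : d = 1 ∨ d = 2 := h.ker.imp And.left And.left
  refine ⟨k, l, hr.out, r5, eps, ev, d12, ?_, fun e j hj jj => ?_, fun b hb bb ho => ?_,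
    fun P hP cP => ?_⟩
  · have h1 := h.card_map le_top
    rw [← MonoidHom.range_eq_map, h.range, card_top, Agent.L.card_SL2, Nat.card_zmod] at h1
    refine Nat.eq_of_mul_eq_mul_left two_pos (h1.trans ?_)
    rcases eps with ⟨e, rfl⟩ | ⟨e, rfl⟩
    · rw [show r - 1 = 2 * k by omega, show r + 1 = 2 * (k + 1) by omega]; ring
    · rw [show r - 1 = 2 * l by omega, e]; ring
  · obtain ⟨x, rfl⟩ := h.exists_eq hj
    obtain ⟨-, e'⟩ := h.ker.resolve_left fun a => by omega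
    exact h.cent_mem (P7.mem_center_of_sq h.two_ne (mem_bot.1 (e' ▸ (map_mul π x x).trans jj)))
  · obtain ⟨x, rfl⟩ := h.exists_eq hb
    have h1 := h.not_center bb
    have h2 := h.tr_ne bb ho
    obtain ⟨h3, h4⟩ := P4.cent_semisimple h1 h2
    have h5 := h.card_map (center_le x)
    obtain ⟨w, hw⟩ := exists_inverting h.odd h2
    rw [Nat.card_zmod] at h4
    refine ⟨?_, ?_, ⟨π w, h.mem w, ?_, ?_⟩, fun g hg hc => ?_⟩
    · rw [h.cent_eq bb]; exact isCyclic_of_surjective _ (π.subgroupMap_surjective _)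
    · rw [h.cent_eq bb]
      rcases d12 with rfl | rfl <;> omega
    · rw [← map_mul]; exact h.cent_mem (P7.sq_mem_center_of_inverts h.two_ne h1 hw).2
    · rw [h.cent_eq bb]
      rintro _ ⟨c, hc, rfl⟩
      rw [← map_inv, ← map_mul, ← map_mul, conj_eq_inv h1 hw hc, map_inv]
    · obtain ⟨g, rfl⟩ := h.exists_eq hg
      rw [← map_inv, ← map_mul, ← map_mul] at hc ⊢
      obtain ⟨y, hy, e⟩ := (h.cent_eq bb).le ⟨h.mem _, hc⟩
      have h6 := mul_mem hy (center_le x (h.eq_imp e))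
      rw [mul_inv_cancel_left] at h6
      exact (P7.conj_eq_or_inv h1 h2 h.two_ne h6).imp (congrArg π) fun e => by rw [e, map_inv]
  · obtain ⟨g, hg, rfl⟩ := hz.conj_prime hr.out (by omega) h.PU_le hP h.card_PU cP
    have h1 := h.card_centP
    have h2 := h.card_normP
    have h3 := h.aut hz hq
    nth_rewrite 1 [← H1.card_inf_mul_relIndex 𝐂(PU π), inf_left_comm,
      inf_eq_left.2 (cent_le_norm _), h1] at h2
    rw [← conj_eq_of_mem hg, cent_conj, norm_conj, norm_conj, cent_conj, ← conj_inf, ← conj_inf,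
      ← conj_inf, ← conj_sup, card_conj, relIndex_conj, conj_le_conj_iff]
    refine ⟨h1, ?_, h3⟩
    have h4 : 0 < d * r := by rcases d12 with rfl | rfl <;> omega
    have h5 : 2 * 𝐂(PU π).relIndex (L ⊓ 𝐍(PU π)) = r - 1 :=
      Nat.eq_of_mul_eq_mul_left h4 (by linarith)
    omega

end Cv

end Cfsg.Agent.H6.Cyc
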