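/-
The structure of nonsolvable subgroups, given the simple sections.
-/
import Cfsg.Agent.H6.Cyc4

set_option autoImplicit false
set_option linter.unusedSectionVars false
set_option linter.style.haveILetI false

namespace Cfsg.Agent.H6.Cyc

open Subgroup Cfsg Cfsg.Agent Cfsg.Agent.FT Cfsg.Agent.H4.SL2
open Cfsg.Agent.P4 (odd_iff_not_dvd PSL)
open Cfsg.Agent.P5 (V4)
open Cfsg.Agent.P7 (V2)
open Cfsg.Agent.H2 (pPrimeCoreOf CompIn SnIn)
open scoped commutatorElement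

universe u

/-- Simple groups of order less than `n` are known. -/
def IH (n : ℕ) : Prop := ∀ (K : Type u) [Group K] [Finite K], Nat.card K < n → ZC K →
  IsSimpleGroup K → ¬ IsMulCommutative K → ∃ (A : Subgroup K) (t s : K), P3.BSW A t s

variable {G : Type u} [Group G] [Finite G]

theorem psl_of_bsw (h : ZC G) (hs : ¬ Group.IsSolvable G) {A : Subgroup G} {t s : G}
    (b : P3.BSW A t s) : ∃ (r : ℕ) (_ : Fact r.Prime), 5 ≤ r ∧ Nonempty (G ≃* PSL (ZMod r)) := by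
  obtain ⟨F, _, _, hF, ⟨e⟩⟩ := b.exists_psl2
  have ho : Odd (Fintype.card F) := Nat.odd_iff.2 (by omega)
  obtain ⟨π, hπ⟩ := P7.exists_cov (L := ⊤) (topEquiv.trans e) (by rwa [Nat.card_eq_fintype_card])
  obtain ⟨p, hp⟩ := CharP.exists F
  obtain ⟨n, pp, hn⟩ := FiniteField.card F p
  have p2 : p ≠ 2 := by
    rintro rfl
    rw [hn] at ho
    exact absurd (Nat.odd_pow_iff n.ne_zero |>.1 ho) (by norm_num)
  have h1 := hπ.eaP (p := p)
  obtain ⟨x, hx⟩ := isCyclic_iff_zpowers.1 (h.odd pp p2 (elemAb_isPGroup h1))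
  have h2 : Fintype.card F = p := by
    refine ((Nat.dvd_prime pp).1 ?_).resolve_left Fintype.one_lt_card.ne'
    rw [← Nat.card_eq_fintype_card, ← hπ.card_PU, ← hx, Nat.card_zpowers]
    exact orderOf_dvd_of_pow_eq_one (h1.2 x (hx ▸ mem_zpowers x))
  haveI := Fact.mk pp
  obtain ⟨f⟩ := P3.nonempty_PSL2_equiv_of_ringEquiv (ZMod.ringEquivOfPrime F pp h2).symm
  refine ⟨p, inferInstance, pp.five_le_of_ne_two_of_ne_three p2 fun p3 => ?_, ⟨e.trans f⟩⟩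
  have h3 := P4.two_mul_card_of_equiv e ho
  rw [h2, p3] at h3
  exact P4.card_ne_twelve hs (by omega)

theorem ZC.two_center (h : ZC G) {L : Subgroup G} (hL : ⁅L, L⁆ = L) :
    IsPGroup 2 (L ⊓ 𝐂(L) : Subgroup G) := P4.isPGroup_of_forall_odd fun x hx ho => by
  by_contra h1
  obtain ⟨p, hp, hd⟩ := Nat.exists_prime_and_dvd (mt orderOf_eq_one_iff.1 h1)
  obtain ⟨y, hy, h2⟩ := exists_mem_orderOf_eq_prime hp (H := zpowers x) (by rwa [Nat.card_zpowers])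
  have h3 := zpowers_le_of_mem hx hy
  have h4 := h.tr hp (fun e => odd_iff_not_dvd.1 ho (e ▸ hd)) (H := L) (hL.symm ▸ h3.1)
    (isPGroup_of_card_prime (by rw [Nat.card_zpowers, h2]))
    (inf_le_left.trans (mem_cent_iff_cent1.1 h3.2))
  rw [h4, orderOf_one] at h2
  exact hp.one_lt.ne h2

theorem ZC.not_le_cent (h : ZC G) {L Y Y' : Subgroup G} (hL : ⁅L, L⁆ = L) {p : ℕ} (hp : p.Prime)
    (p2 : p ≠ 2) (hY : Y ≤ L) (cY : 𝐨(Y) = p) (cY' : 𝐨(Y') = p) : ¬ Y' ≤ 𝐂(L) := fun e => by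
  obtain rfl := h.eq_of_norm hp p2 (e.trans ((cent_anti hY).trans (cent_le_norm _))) cY' cY
  exact p2 (eq_of_prime_dvd_card_of_isPGroup Nat.prime_two hp ((h.two_center hL).to_le
    (le_inf hY e)) (cY ▸ dvd_rfl))

theorem ZC.exists_comp (h : ZC G) {N : Subgroup G} (hN : ¬ Group.IsSolvable N) :
    ∃ L, CompIn N L ∧ N ≤ 𝐍(L) := by
  obtain ⟨D, h1, h2⟩ : ∃ D : Subgroup N, D ≠ ⊥ ∧ ⁅D, D⁆ = D := by
    by_contra! h0
    exact hN (Group.isSolvable_iff_commutator_lt.2 fun D hD => lt_of_le_of_ne (der_le D) (h0 D hD))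
  have h3 : ⁅D.map N.subtype, D.map N.subtype⁆ = D.map N.subtype := by rw [← map_commutator, h2]
  have h4 := h.perf_fit ((map_subtype_le D).trans (le_norm_self N)) h3
  obtain ⟨L, hL, -⟩ := H2.exists_compIn_le_of_le_centralizer (H := N)
    (C := N ⊓ 𝐂(fittingOf N)) (SnIn.of_normal inf_le_left (H1.le_normalizer_inf (le_norm_self N)
      (H1.le_normalizer_centralizer (fittingOf_normal N).2))) inf_le_right fun e => by
    have h5 := (isSolvable_map_iff N.subtype_injective).1 (isSolvable_of_isNilpotent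
      (isNilpotent_of_le ((le_inf (map_subtype_le D) h4).trans e) (H2.isNilpotent_fittingOf N)))
    have h6 := Group.isSolvable_iff_commutator_lt.1 h5 ⊤ (by
      haveI := (nontrivial_iff_ne_bot D).2 h1
      exact top_ne_bot)
    apply h6.ne
    rw [← map_subtype_inj, map_commutator, ← MonoidHom.range_eq_map, range_subtype, h2]
  refine ⟨L, hL, fun g hg => ?_⟩
  by_contra h0
  have h5 := (hL.conj_of_mem_normalizer (le_norm_self N hg)).le_centralizer_of_ne hL fun e =>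
    h0 (conj_eq_self_iff.1 e)
  obtain ⟨p, hp, p2, hd⟩ : ∃ p : ℕ, p.Prime ∧ p ≠ 2 ∧ p ∣ 𝐨(L) := by
    by_contra! h6
    refine H2.QS.not_isSolvable hL.2 (P4.solvable_of_two ((isPi_singleton_iff Nat.prime_two).1 ?_))
    exact isPi_iff_piOf_subset.2 fun p hp => by
      by_contra h7
      exact h6 p hp.1 h7 hp.2
  obtain ⟨Y, hY, cY⟩ := exists_le_card_eq_prime hp hd
  exact h.not_le_cent (H2.QS.commutator_eq hL.2) hp p2 hY cY ((card_conj Y g).trans cY)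
    ((conj_mono hY g).trans h5)

theorem ZC.two_cent (h : ZC G) {L D W : Subgroup G} {x y : G} (hD : IsPGroup 2 D)
    (hD1 : L ⊓ 𝐂(L) ≤ D) (hD2 : D ≤ 𝐂(L)) (hWL : W ≤ L) (hW : IsPGroup 2 W)
    (hW2 : ∀ v ∈ W, v * v ∈ 𝐂(L)) (hx : x ∈ W) (hy : y ∈ W) (x1 : x ∉ 𝐂(L)) (y1 : y ∉ 𝐂(L))
    (xy : x * y ∉ 𝐂(L))
    (hc : ∀ v ∈ L, v ∉ 𝐂(L) → v * v ∈ 𝐂(L) → ∃ z ∈ L ⊓ 𝐂(L), v * v = x * x * (z * z)) :
    D ≤ zpowers (x * x) ∧ x * x * (x * x) = 1 := by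
  have hn : W ≤ 𝐍(D) := (hWL.trans (cent_comm.1 hD2)).trans (cent_le_norm D)
  obtain ⟨a, ha, h1⟩ := h.two (isPGroup_sup hW hD hn)
  rw [sup_comm] at ha h1
  obtain ⟨f, hf, v, hv, rfl⟩ := (mem_sup_of_norm hn).1 ha
  have cm : ∀ f ∈ D, ∀ v ∈ W, Commute f v := fun f hf v hv =>
    (mem_cent.1 (hD2 hf) v (hWL hv)).symm
  have sqD : ∀ v ∈ W, v * v ∈ D := fun v hv => hD1 ⟨hWL (mul_mem hv hv), hW2 v hv⟩
  have e0 : f * v * (f * v) = f * f * (v * v) := (cm f hf v hv).symm.mul_mul_mul_comm f v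
  have aa : f * v * (f * v) ∈ D := e0 ▸ mul_mem (mul_mem hf hf) (sqD v hv)
  have h2 : ∀ g ∈ zpowers (f * v), g ∈ D ∨ f * v * g ∈ D := fun g hg =>
    (mem_sq_or _ hg).imp (fun e => zpowers_le_of_mem aa e) fun e => zpowers_le_of_mem aa e
  have h3 : D ≤ zpowers (f * v) := fun g hg => by
    by_contra h0
    have key : ∀ w ∈ W, w ∉ 𝐂(L) → f * v * w ∈ D := fun w hw w1 => by
      by_cases e : w ∈ zpowers (f * v)
      · exact (h2 w e).resolve_left fun e' => w1 (hD2 e')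
      · rcases h2 _ (h1 w (mem_sup_right hw) g (mem_sup_left hg) e h0) with e' | e'
        · exact absurd (hD2 ((mul_mem_cancel_right hg).1 e')) w1
        · rwa [← mul_assoc, mul_mem_cancel_right hg] at e'
    have := mul_mem (sqD x hx) (mul_mem (inv_mem (key x hx x1)) (key y hy y1))
    rw [show x * x * ((f * v * x)⁻¹ * (f * v * y)) = x * y by group] at this
    exact xy (hD2 this)
  have h4 : f * v ∉ D := fun e => xy (hD2 (zpowers_le_of_mem e (h1 x (mem_sup_right hx) y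
    (mem_sup_right hy) (fun e' => x1 (hD2 (zpowers_le_of_mem e e')))
      fun e' => y1 (hD2 (zpowers_le_of_mem e e')))))
  have h5 : D ≤ zpowers (f * v * (f * v)) := fun g hg => (mem_sq_or _ (h3 hg)).resolve_right
    fun e => h4 ((mul_mem_cancel_right hg).1 (zpowers_le_of_mem aa e))
  obtain ⟨z1, hz1, e1⟩ := hc _ (hWL (mul_mem hx hy)) xy (hW2 _ (mul_mem hx hy))
  obtain ⟨z2, hz2, e2⟩ := hc _ (hWL hy) y1 (hW2 _ hy)
  obtain ⟨z3, hz3, e3⟩ := hc _ (hWL hv) (fun e => h4 (mul_mem hf (hD1 ⟨hWL hv, e⟩))) (hW2 _ hv)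
  have e4 : x * y * (x * y) = x * x * (x⁻¹ * y * x * y⁻¹) * (y * y) := by group
  have he : x⁻¹ * y * x * y⁻¹ ∈ D := by
    have := sqD _ (mul_mem hx hy)
    rwa [e4, mul_mem_cancel_right (sqD y hy), mul_mem_cancel_left (sqD x hx)] at this
  have ee : x⁻¹ * y * x * y⁻¹ * (x⁻¹ * y * x * y⁻¹) = 1 := by
    have a1 := (cm _ he x hx).eq
    have a2 := (cm _ (sqD x hx) y hy).eq
    calc _ = x⁻¹ * (x * (x⁻¹ * y * x * y⁻¹)) * (x⁻¹ * y * x * y⁻¹) := by group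
      _ = x⁻¹ * x⁻¹ * y * (x * y⁻¹ * x * x⁻¹ * y * x) * y⁻¹ := by rw [← a1]; group
      _ = (x * x)⁻¹ * (y * (x * x)) * y⁻¹ := by group
      _ = 1 := by rw [← a2]; group
  rw [e1, e2] at e4
  rw [e3] at e0
  have hb : IsPGroup 2 (zpowers (f * v * (f * v))) := hD.to_le (zpowers_le_of_mem aa)
  have hc := sqD x hx
  generalize f * v * (f * v) = b at h5 e0 hb
  generalize x * x = c at e0 e4 hc ⊢
  generalize x⁻¹ * y * x * y⁻¹ = e at e4 he ee
  obtain ⟨n1, rfl⟩ := h5 (hD1 hz1)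
  obtain ⟨n2, rfl⟩ := h5 (hD1 hz2)
  obtain ⟨n3, rfl⟩ := h5 (hD1 hz3)
  obtain ⟨φ, rfl⟩ := h5 hf
  obtain ⟨γ, rfl⟩ := h5 hc
  obtain ⟨ε, rfl⟩ := h5 he
  simp only [← zpow_add] at e4 ee e0 ⊢
  nth_rewrite 1 [← zpow_one b] at e0
  rw [zpow_eq_zpow_iff_modEq, Int.modEq_iff_dvd] at e4 e0
  rw [← orderOf_dvd_iff_zpow_eq_one] at ee ⊢
  obtain ⟨m, hm⟩ := exists_card_eq_pow Nat.prime_two hb
  rw [Nat.card_zpowers] at hm
  have h6 : (orderOf b : ℤ) ∣ 2 := by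
    rcases m with _ | _ | m
    · simp [hm]
    · simp [hm]
    · have h7 : (4 : ℤ) ∣ orderOf b := by rw [hm]; exact ⟨2 ^ m, by push_cast; ring⟩
      have := h7.trans e4
      have := h7.trans ee
      have := h7.trans e0
      omega
  refine ⟨h5.trans (zpowers_le_of_mem ⟨1, ?_⟩), h6.trans ⟨γ, by ring⟩⟩
  simp only [zpow_one]
  nth_rewrite 2 [← zpow_one b]
  rw [zpow_eq_zpow_iff_modEq, Int.modEq_iff_dvd]
  have := (dvd_sub (h6.mul_right (φ + n3)) e0)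
  rwa [show 2 * (φ + n3) - (φ + φ + (γ + (n3 + n3)) - 1) = 1 - γ by ring] at this

theorem ZC.cv (h : ZC G) {n : ℕ} (ih : IH.{u} n) {L : Subgroup G} (hq : IsQuasisimple L)
    (hn : 𝐨(L) < n) : ∃ (r : ℕ) (_ : Fact r.Prime) (π : SL (ZMod r) →* G) (d : ℕ), Cv r π L d ∧
      ∀ D : Subgroup G, IsPGroup 2 D → D ≤ 𝐂(L) → D ≤ L ∧ IsCyclic D ∧ (d = 1 → D = ⊥) := by
  let q := QuotientGroup.mk' (center L)
  have hq1 : ∀ v : L, q v = 1 ↔ (v : G) ∈ 𝐂(L) := fun v => by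
    rw [QuotientGroup.mk'_apply, QuotientGroup.eq_one_iff, mem_center_iff, mem_cent]
    exact ⟨fun e g hg => congrArg Subtype.val (e ⟨g, hg⟩), fun e g => Subtype.ext (e g g.2)⟩
  have hz := (h.sub L).surj q (QuotientGroup.mk'_surjective _)
  have hs : ¬ Group.IsSolvable (L ⧸ center L) := fun e => by
    haveI := H1.isSolvable_of_isMulCommutative (X := center L) inferInstance
    exact H2.QS.not_isSolvable hq
      (Group.isSolvable_of_ker_le_range (center L).subtype q (by simp [q]))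
  obtain ⟨A, t, s, b⟩ := ih (L ⧸ center L) ((Nat.le_of_dvd Nat.card_pos
    (card_quotient_dvd_card _)).trans_lt hn) hz hq.2
    fun e => hs (H1.isSolvable_of_isMulCommutative e)
  obtain ⟨r, hr, r5, ⟨e⟩⟩ := psl_of_bsw hz hs b
  have v4 : V4 t s := ⟨b.t1, b.s1, fun e => b.sK (e ▸ b.tK), b.tt, b.ss, mem_cent1.1 b.s_mem⟩
  obtain ⟨x, rfl⟩ := QuotientGroup.mk'_surjective _ t
  obtain ⟨y, rfl⟩ := QuotientGroup.mk'_surjective _ s
  have hZ := h.two_center (H2.QS.commutator_eq hq)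
  have hc : ∀ v ∈ L, v ∉ 𝐂(L) → v * v ∈ 𝐂(L) →
      ∃ z ∈ L ⊓ 𝐂(L), v * v = (x : G) * x * (z * z) := fun v hv v1 vv => by
    obtain ⟨g, hg⟩ := isConj_iff.1 (b.isConj (q ⟨v, hv⟩) (mt (hq1 _).1 v1)
      (by rw [← map_mul]; exact (hq1 _).2 vv))
    obtain ⟨g, rfl⟩ := QuotientGroup.mk'_surjective _ g
    have h1 := (hq1 ((g * x * g⁻¹)⁻¹ * ⟨v, hv⟩)).1 (by
      rw [map_mul, map_inv, map_mul, map_mul, map_inv, hg, inv_mul_cancel])
    have h2 := mem_cent.1 ((hq1 (x * x)).1 ((map_mul q x x).trans b.tt)) g g.2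
    refine ⟨_, ⟨((g * x * g⁻¹)⁻¹ * ⟨v, hv⟩ : L).2, h1⟩, ?_⟩
    have h3 := mem_cent.1 h1 _ (g * x * g⁻¹).2
    push_cast at h2 h3 ⊢
    generalize (g : G) = g, (x : G) = x at h2 h3 ⊢
    calc v * v = g * x * g⁻¹ * ((g * x * g⁻¹)⁻¹ * v * (g * x * g⁻¹)) *
          ((g * x * g⁻¹)⁻¹ * v) := by group
      _ = g * (x * x) * g⁻¹ * ((g * x * g⁻¹)⁻¹ * v * ((g * x * g⁻¹)⁻¹ * v)) := by
          rw [← h3]; group
      _ = _ := by rw [h2, mul_inv_cancel_right]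
  have key : ∀ D : Subgroup G, IsPGroup 2 D → D ≤ 𝐂(L) →
      D ≤ zpowers ((x : G) * x) ∧ (x : G) * x * (x * x) = 1 := fun D hD hDL => by
    have := h.two_cent (D := D ⊔ (L ⊓ 𝐂(L))) (W := ((V2 (q x) (q y)).comap q).map L.subtype)
      (isPGroup_sup hD hZ (hDL.trans ((cent_anti inf_le_left).trans (cent_le_norm _))))
      le_sup_right (sup_le hDL inf_le_right) (map_subtype_le _)
      ((v4.isPGroup.comap_of_ker_isPGroup q (by
        rw [QuotientGroup.ker_mk', ← isPGroup_map_iff L.subtype_injective, map_subtype_center]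
        exact hZ)).map _)
      (by rintro _ ⟨v, hv, rfl⟩; exact (hq1 (v * v)).1 ((map_mul q v v).trans (v4.sq hv)))
      ⟨x, V4.t_mem, rfl⟩ ⟨y, V4.s_mem, rfl⟩ (mt (hq1 x).2 v4.t1) (mt (hq1 y).2 v4.s1)
      (fun e => v4.ts1 ((map_mul q x y).symm.trans ((hq1 (x * y)).2 e))) hc
    exact ⟨le_sup_left.trans this.1, this.2⟩
  obtain ⟨k1, k2⟩ := key _ hZ inf_le_right
  have fin : ∀ D : Subgroup G, IsPGroup 2 D → D ≤ 𝐂(L) → D ≤ L ∧ IsCyclic D := fun D hD hDL =>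
    ⟨(key D hD hDL).1.trans (zpowers_le_of_mem (x * x).2),
      isCyclic_of_le (key D hD hDL).1 inferInstance⟩
  have ho : Odd (Nat.card (ZMod r)) := by
    rw [Nat.card_zmod]; exact hr.out.odd_of_ne_two (by omega)
  by_cases hx : (x : G) * x = 1
  · obtain ⟨π, hπ⟩ := P7.exists_cov ((MulEquiv.ofBijective q ⟨(injective_iff_map_eq_one q).2
      fun v hv => Subtype.ext (by simpa [hx] using k1 ⟨v.2, (hq1 v).1 hv⟩),
      QuotientGroup.mk'_surjective _⟩).trans e) ho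
    exact ⟨r, hr, π, 1, ⟨hπ.range, Or.inl ⟨rfl, hπ.ker⟩, r5⟩, fun D hD hDL =>
      ⟨(fin D hD hDL).1, (fin D hD hDL).2, fun _ => by simpa [hx] using (key D hD hDL).1⟩⟩
  · have k3 : ∀ g : L, q g = 1 → g = 1 ∨ g = x * x := fun g hg =>
      (Cj.eq_or_of_mem_zpowers k2 (k1 ⟨g.2, (hq1 g).1 hg⟩)).imp Subtype.ext Subtype.ext
    have d1 : Cj.DC q (x * x) := ⟨QuotientGroup.mk'_surjective _,
      fun e => hx (congrArg Subtype.val e), Subtype.ext k2, (map_mul q x x).trans b.tt, k3,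
      fun g gg => k3 g ((hq1 g).2 (by
        by_contra h0
        have g2 : (g : G) * g = 1 := congrArg Subtype.val gg
        obtain ⟨z, hz, e⟩ := hc g g.2 h0 (g2 ▸ one_mem _)
        rcases Cj.eq_or_of_mem_zpowers k2 (k1 hz) with rfl | rfl
        · exact hx (by simpa [g2] using e.symm)
        · rw [k2, g2, mul_one] at e
          exact hx e.symm))⟩
    obtain ⟨w, d2⟩ := exists_DC_SL2 (two_ne_zero_of_odd (Nat.odd_iff.1 ho))
    obtain ⟨f⟩ := dc_equiv d1 (d2.comp e.symm) b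
    refine ⟨r, hr, L.subtype.comp f.symm.toMonoidHom, 2, ⟨?_, Or.inr ⟨rfl, ?_⟩, r5⟩,
      fun D hD hDL => ⟨(fin D hD hDL).1, (fin D hD hDL).2, fun e => absurd e (by norm_num)⟩⟩
    · rw [MonoidHom.range_comp, MonoidHom.range_eq_top.2 f.symm.surjective,
        ← MonoidHom.range_eq_map, range_subtype]
    · exact (MonoidHom.ker_eq_bot_iff _).2 (L.subtype_injective.comp f.symm.injective)

/-- The structure of a nonsolvable subgroup. -/
structure NS (N L : Subgroup G) (d r k l : ℕ) : Prop extends LS L d r k l where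
  nL : L ⊲ N
  perf : ⁅L, L⁆ = L
  XC : pPrimeCoreOf 2 N ≤ 𝐂(L)
  CX : N ⊓ 𝐂(L) ≤ pPrimeCoreOf 2 N ⊔ L
  idx : (pPrimeCoreOf 2 N ⊔ L).relIndex N ∣ 2
  cop : 𝐨(pPrimeCoreOf 2 N).Coprime 𝐨(L)
  two : ∀ D : Subgroup G, IsPGroup 2 D → D ≤ 𝐂(L) → D ≤ L ∧ (d = 1 → D = ⊥)
  cv : ∃ (_ : Fact r.Prime) (π : SL (ZMod r) →* G), Cv r π L d

omit [Finite G] in
theorem relIndex_dvd_of_norm {C A B : Subgroup G} (hA : A ≤ B) (hB : B ≤ 𝐍(C)) :
    C.relIndex A ∣ C.relIndex B := by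
  rw [← relIndex_sup_of_norm hB, ← relIndex_sup_of_norm (hA.trans hB),
    ← relIndex_mul_relIndex C (C ⊔ A) (C ⊔ B) le_sup_left (sup_le_sup_left hA C)]
  exact dvd_mul_right _ _

theorem ZC.ns (h : ZC G) {n : ℕ} (ih : IH.{u} n) {N : Subgroup G} (hN : ¬ Group.IsSolvable N)
    (hn : 𝐨(N) < n) : ∃ L d r k l, NS N L d r k l := by
  obtain ⟨L, hL, nL⟩ := h.exists_comp hN
  obtain ⟨r, hr, π, d, cv, h2⟩ := h.cv ih hL.2 ((card_le_of_le hL.le).trans_lt hn)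
  obtain ⟨k, l, ls⟩ := cv.ls h hL.2
  have pf := H2.QS.commutator_eq hL.2
  have XC : pPrimeCoreOf 2 N ≤ 𝐂(L) := cent_comm.1 (hL.le_centralizer_of_isSolvable
    (H2.snIn_pPrimeCoreOf 2 N) (P4.solvable_of_odd (odd_core N)))
  have CX : N ⊓ 𝐂(L) ≤ pPrimeCoreOf 2 N ⊔ L := by
    obtain ⟨D, hD⟩ := exists_isSyl Nat.prime_two (N ⊓ 𝐂(L))
    obtain ⟨h3, h4, -⟩ := h2 D hD.pgrp (hD.le.trans inf_le_right)
    rw [← ((cyclic_minFac_npc Nat.prime_two hD h4 fun q hq _ => hq.two_le).sdProd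
      Nat.prime_two hD).sup]
    refine sup_le_sup (le_pPrimeCoreOf ⟨(pPrimeCoreOf_normal 2 _).1.trans inf_le_left,
      (H1.le_normalizer_inf (le_norm_self N) (H1.le_normalizer_centralizer nL)).trans
        (H2.normalizer_le_normalizer_pPrimeCoreOf 2 _)⟩ (Nat.coprime_two_right.2 (odd_core _))) h3
  have r2 : r ≠ 2 := by have := ls.r5; omega
  refine ⟨L, d, r, k, l, ls, ⟨hL.le, nL⟩, pf, XC, CX, ?_, ?_,
    fun D hD hDL => ⟨(h2 D hD hDL).1, (h2 D hD hDL).2.2⟩, hr, π, cv⟩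
  · obtain ⟨P, hP, cP⟩ := exists_le_card_eq_prime ls.rp (H := L) (ls.card ▸ ⟨2 * d * k * l, by ring⟩)
    obtain ⟨-, h3, h4⟩ := ls.unip P hP cP
    have nX := pPrimeCoreOf_normal 2 N
    set M := pPrimeCoreOf 2 N ⊔ L
    have hM : M ⊲ N := ⟨sup_le nX.1 hL.le, H1.le_normalizer_sup nX.2 nL⟩
    have h5 : M ⊔ N ⊓ 𝐍(P) = N := le_antisymm (sup_le hM.1 inf_le_left) fun g hg => by
      obtain ⟨c, hc, e⟩ := h.conj_prime ls.rp r2 (conj_le_of_mem_norm hP (nL hg)) hP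
        ((card_conj _ _).trans cP) cP
      rw [conj_conj, conj_eq_self_iff] at e
      rw [show g = c⁻¹ * (c * g) by group]
      exact mul_mem_sup (inv_mem (mem_sup_right hc)) ⟨mul_mem (hL.le hc) hg, e⟩
    have h6 : 𝐂(P) ⊓ (N ⊓ 𝐍(P)) ≤ M ⊓ (N ⊓ 𝐍(P)) := fun g hg => ⟨by
      obtain ⟨u, hu, c, hc, rfl⟩ := (mem_sup_of_norm ((cent_anti hP).trans (cent_le_norm P))).1
        (h4 ⟨nL hg.2.1, hg.1⟩)
      exact mul_mem (mem_sup_right (hP hu))
        (CX ⟨(mul_mem_cancel_left (hL.le (hP hu))).1 hg.2.1, hc⟩), hg.2⟩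
    have h7 := relIndex_mul_relIndex _ _ _ h6 inf_le_right
    have h8 := relIndex_cent_dvd_of_prime (cP ▸ ls.rp) (A := N ⊓ 𝐍(P)) inf_le_right
    have h9 : 𝐂(P).relIndex (L ⊓ 𝐍(P)) ∣ 𝐂(P).relIndex (M ⊓ (N ⊓ 𝐍(P))) :=
      relIndex_dvd_of_norm (le_inf (inf_le_left.trans le_sup_right) (inf_le_inf_right _ hL.le))
        ((inf_le_right.trans inf_le_right).trans (H1.normalizer_le_normalizer_centralizer P))
    rw [inf_relIndex_right, inf_relIndex_right, ← inf_relIndex_right, inf_assoc,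
      inf_eq_right.2 (inf_le_right : M ⊓ (N ⊓ 𝐍(P)) ≤ _), inf_relIndex_right] at h7
    rw [← h5, relIndex_sup_of_norm (inf_le_left.trans hM.2)]
    rw [← h7, cP, show r - 1 = 𝐂(P).relIndex (L ⊓ 𝐍(P)) * 2 by omega] at h8
    exact Nat.dvd_of_mul_dvd_mul_left (by have := ls.r5; omega)
      ((mul_dvd_mul_right h9 _).trans h8)
  · refine Nat.coprime_of_dvd fun p hp h3 h4 => ?_
    obtain ⟨Y, hY, cY⟩ := exists_le_card_eq_prime hp h4
    obtain ⟨Y', hY', cY'⟩ := exists_le_card_eq_prime hp h3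
    exact h.not_le_cent pf hp (fun e => odd_iff_not_dvd.1 (odd_core N) (e ▸ h3)) hY cY cY'
      (hY'.trans XC)

end Cfsg.Agent.H6.Cyc
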