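/-
Outer `2`-elements of nonsolvable local subgroups.
-/
import Cfsg.Agent.H6.Cyc5

set_option autoImplicit false
set_option linter.unusedSectionVars false
set_option linter.style.haveILetI false

namespace Cfsg.Agent.H6.Cyc

open Subgroup Cfsg Cfsg.Agent Cfsg.Agent.FT
open Cfsg.Agent.P4 (odd_iff_not_dvd)
open Cfsg.Agent.P5 (V4)
open Cfsg.Agent.P7 (V2)
open Cfsg.Agent.H2 (pPrimeCoreOf)
open scoped commutatorElement

universe u

theorem mod_four_of_primes (n : ℕ) : n ≠ 0 → (∀ p : ℕ, p.Prime → p ∣ n → p % 4 = 1) →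
    n % 4 = 1 := by
  induction n using Nat.recOnMul with
  | zero => simp
  | one => simp
  | prime p hp => exact fun _ h => h p hp dvd_rfl
  | mul a b ha hb =>
    intro h0 h
    rw [Nat.mul_mod, ha (left_ne_zero_of_mul h0) fun p hp e => h p hp (e.mul_right b),
      hb (right_ne_zero_of_mul h0) fun p hp e => h p hp (e.mul_left a)]

variable {G : Type u} [Group G] [Finite G]

theorem eq_one_of_zpow_odd {P : Subgroup G} (hP : IsPGroup 2 P) {x : G} (hx : x ∈ P) {n : ℤ}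
    (hn : Odd n) (h : x ^ n = 1) : x = 1 :=
  P4.eq_one_of_odd_of_mem hP ((Int.natAbs_odd.2 hn).of_dvd_nat
    (Int.natCast_dvd.1 (orderOf_dvd_iff_zpow_eq_one.2 h))) hx

theorem two_of_sq {P : Subgroup G} (hP : IsPGroup 2 P) {x : G} (hx : x * x ∈ P) :
    IsPGroup 2 (zpowers x) := by
  obtain ⟨k, hk⟩ := hP ⟨_, hx⟩
  exact H2.isPGroup_zpowers_of_pow_eq_one (k := k + 1)
    (by rw [pow_succ', pow_mul, pow_two]; exact congrArg Subtype.val hk)

theorem cent_or_inv {b j : G} (hb : (orderOf b).Prime) (hj : j ∈ 𝐍(zpowers b))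
    (h2 : j * j ∈ 𝐂[b]) : j ∈ 𝐂[b] ∨ j * b * j⁻¹ = b⁻¹ := by
  have h1 := conj_mem hj (mem_zpowers b)
  by_cases h3 : b * (j * b * j⁻¹) = 1
  · exact Or.inr (eq_inv_of_mul_eq_one_right h3)
  · left
    rw [← cent_zpowers, ← cent1_eq_of_card_prime (by rwa [Nat.card_zpowers])
      (mul_mem (mem_zpowers b) h1) h3, mem_cent1_iff_conj, (St.cT (mem_zpowers b) h1).eq]
    nth_rewrite 1 [(St.cT h1 (mem_zpowers b)).eq]
    nth_rewrite 4 [← mem_cent1_iff_conj.1 h2]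
    group

theorem inf_eq_bot_of_cop {A B C : Subgroup G} (h : A ⊓ B ≤ C) (hc : 𝐨(A).Coprime 𝐨(C)) :
    A ⊓ B = ⊥ := eq_bot_iff.2 ((le_inf inf_le_left h).trans (H1.inf_eq_bot_of_coprime' hc).le)

namespace LS

variable {L : Subgroup G} {d r k l : ℕ} (h : LS L d r k l)
include h

theorem odd_l : Odd l := Nat.odd_iff.2 (by have := h.eps; have := h.ev; omega)

theorem three_le : 3 ≤ l := by have := h.eps; have := h.ev; have := h.r5; omega

theorem r2 : r ≠ 2 := by have := h.r5; omega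

theorem cop_kl : k.Coprime l := by
  rcases h.eps with ⟨-, rfl⟩ | ⟨-, rfl⟩ <;> simp

theorem cop_dl : d.Coprime l := by
  rcases h.d12 with rfl | rfl
  exacts [Nat.coprime_one_left l, Nat.coprime_two_left.2 h.odd_l]

theorem cop_rl : r.Coprime l := h.rp.coprime_iff_not_dvd.2 fun e => by
  have := Nat.le_of_dvd (by have := h.three_le; omega) e
  have := h.eps; have := h.r5; omega

theorem cop_rk : r.Coprime k := h.rp.coprime_iff_not_dvd.2 fun e => by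
  have := Nat.le_of_dvd (by have := h.eps; have := h.r5; omega) e
  have := h.eps; have := h.r5; omega

theorem cop_rd : r.Coprime d := by
  rcases h.d12 with rfl | rfl
  exacts [Nat.coprime_one_right r, Nat.coprime_two_right.2 (h.rp.odd_of_ne_two h.r2)]

theorem three : 3 ∣ k ∨ 3 ∣ l := by
  have h1 : ¬ 3 ∣ r := fun e => by
    have := (Nat.prime_dvd_prime_iff_eq Nat.prime_three h.rp).1 e
    have := h.r5; omega
  have h2 : l % 3 = 0 ∨ l % 3 = 1 ∨ l % 3 = 2 := by omega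
  have := h.eps; omega

theorem l_dvd : l ∣ 𝐨(L) := h.card ▸ Dvd.intro_left _ rfl

theorem k_dvd : k ∣ 𝐨(L) := h.card ▸ ⟨2 * d * r * l, by ring⟩

theorem r_dvd : r ∣ 𝐨(L) := h.card ▸ ⟨2 * d * k * l, by ring⟩

theorem sq_ne {b : G} (b1 : b ≠ 1) (ho : orderOf b ∣ l) : b * b ≠ 1 := fun e =>
  b1 (orderOf_eq_one_iff.1 (Nat.eq_one_of_dvd_coprimes (Nat.coprime_two_right.2 h.odd_l) ho
    (orderOf_dvd_of_pow_eq_one (by rwa [pow_two]))))

theorem not_r {n : ℕ} (ho : n ∣ d * k * l) : ¬ r ∣ n := fun e => h.rp.one_lt.ne'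
  (Nat.eq_one_of_dvd_coprimes ((h.cop_rd.mul_right h.cop_rk).mul_right h.cop_rl) dvd_rfl
    (e.trans ho))

theorem cent_l {b : G} (hb : b ∈ L) (b1 : b ≠ 1) (ho : orderOf b ∣ l) :
    𝐨((L ⊓ 𝐂[b] : Subgroup G)) = d * l :=
  (h.cent b hb (h.sq_ne b1 ho) (h.not_r (ho.mul_left _))).2.1.resolve_right fun e =>
    b1 (orderOf_eq_one_iff.1 (Nat.eq_one_of_dvd_coprimes (h.cop_dl.mul_left h.cop_kl)
      (e ▸ orderOf_dvd_card_of_mem (mem_inf.2 ⟨hb, self_mem_cent1 b⟩)) ho))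

theorem cent_k {b : G} (hb : b ∈ L) (bb : b * b ≠ 1) (ho : orderOf b ∣ d * k) :
    𝐨((L ⊓ 𝐂[b] : Subgroup G)) = d * k :=
  (h.cent b hb bb (h.not_r (ho.mul_right _))).2.1.resolve_left fun e => bb (by
    have h1 := Nat.dvd_gcd ho (e ▸ orderOf_dvd_card_of_mem (mem_inf.2 ⟨hb, self_mem_cent1 b⟩))
    rw [Nat.gcd_mul_left, h.cop_kl, mul_one] at h1
    rw [← pow_two, ← orderOf_dvd_iff_pow_eq_one]
    exact h1.trans (by rcases h.d12 with rfl | rfl <;> norm_num))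

end LS

namespace NS

variable {N L : Subgroup G} {d r k l : ℕ} (h : NS N L d r k l)
include h

theorem ls : LS L d r k l := h.toLS

theorem nM : (pPrimeCoreOf 2 N ⊔ L) ⊲ N := ⟨sup_le (pPrimeCoreOf_normal 2 N).1 h.nL.1,
  H1.le_normalizer_sup (pPrimeCoreOf_normal 2 N).2 h.nL.2⟩

theorem two_le {R : Subgroup G} (hR : IsPGroup 2 R) (hM : R ≤ pPrimeCoreOf 2 N ⊔ L) : R ≤ L := by
  have h1 := relIndex_dvd_of_norm hM (h.nM.1.trans h.nL.2)
  rw [sup_comm, relIndex_sup_of_norm ((pPrimeCoreOf_normal 2 N).1.trans h.nL.2)] at h1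
  exact relIndex_eq_one.1 (Nat.eq_one_of_dvd_coprimes (P4.coprime_of_odd hR (odd_core N))
    (h1.trans (relIndex_dvd_card' _ _)) (relIndex_dvd_card' _ _))

theorem prime_le (hz : ZC G) {Y : Subgroup G} {p : ℕ} (hp : p.Prime) (p2 : p ≠ 2) (hY : Y ≤ N)
    (cY : 𝐨(Y) = p) (hd : p ∣ 𝐨(L)) : Y ≤ L := by
  obtain ⟨Y', h1, h2⟩ := exists_le_card_eq_prime hp hd
  obtain ⟨g, hg, rfl⟩ := hz.conj_prime hp p2 (h1.trans h.nL.1) hY h2 cY
  exact conj_le_of_mem_norm h1 (h.nL.2 hg)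

theorem nC : N ≤ 𝐍(𝐂(L)) := H1.le_normalizer_centralizer h.nL.2

end NS

namespace St

variable {S : Subgroup G} {a t s : G} (h : St S a t s) {N L : Subgroup G} {d r k l : ℕ}
  (ns : NS N L d r k l) (hS : S ≤ N) (h2 : (pPrimeCoreOf 2 N ⊔ L).relIndex N = 2)
  (hout : ∀ g ∈ S, g ∉ zpowers a → g * g ∈ 𝐂(L))
include h ns hS h2 hout

theorem lemO_step {y : ℕ} (hy : y.Prime) (yl : y ∣ l) :
    (∃ j ∈ N, j ∉ pPrimeCoreOf 2 N ⊔ L ∧ IsPGroup 2 (zpowers j) ∧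
      ∃ b ∈ L, orderOf b = y ∧ Commute b j) ∨ (4 ∣ y - 1 ∧ ¬ 4 ∣ k) := by
  obtain ⟨b, hb, ob⟩ := exists_mem_orderOf_eq_prime hy (yl.trans ns.ls.l_dvd)
  have b1 : b ≠ 1 := fun e => hy.one_lt.ne (by rw [← ob, e, orderOf_one])
  have y2 : y ≠ 2 := fun e => odd_iff_not_dvd.1 ns.ls.odd_l (e ▸ yl)
  have cY : 𝐨(zpowers b) = y := by rw [Nat.card_zpowers, ob]
  obtain ⟨-, -, ⟨i, hi, ii, h3⟩, h4⟩ := ns.cent b hb (ns.ls.sq_ne b1 (ob ▸ yl))
    (ns.ls.not_r ((ob ▸ yl).mul_left _))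
  replace h3 := h3 b ⟨hb, self_mem_cent1 b⟩
  obtain ⟨R, hR, iR⟩ := exists_isSyl_ge Nat.prime_two (two_of_sq (h.zc.two_center ns.perf)
    (x := i) ⟨mul_mem hi hi, ii⟩) (M := N ⊓ 𝐍(zpowers b)) (zpowers_le_of_mem ⟨ns.nL.1 hi,
      mem_norm_zpowers (h3 ▸ inv_mem (mem_zpowers b))⟩)
  obtain ⟨j, hj, jM⟩ := not_forall₂.1 (h.zc.fr2 h2 ns.nM.1 hy y2
    (zpowers_le_of_mem (mem_sup_right hb)) cY hR)
  have jN := hR.le hj
  by_cases c1 : j ∈ 𝐂[b]
  · exact Or.inl ⟨j, jN.1, jM, hR.pgrp.to_le (zpowers_le_of_mem hj), b, hb, ob, mem_cent1.1 c1⟩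
  by_cases c2 : j * b * j⁻¹ = b⁻¹
  · have h5 := mul_mem (iR (mem_zpowers i)) hj
    refine Or.inl ⟨i * j, (hR.le h5).1, by rwa [mul_mem_cancel_left (mem_sup_right hi)],
      hR.pgrp.to_le (zpowers_le_of_mem h5), b, hb, ob, mem_cent1.1 (mem_cent1_iff_conj.2 ?_)⟩
    calc i * j * b * (i * j)⁻¹ = i * (j * b * j⁻¹) * i⁻¹ := by group
      _ = (i * b * i⁻¹)⁻¹ := by rw [c2]; group
      _ = b := by rw [h3, inv_inv]
  have c3 : j * j ∉ 𝐂[b] := fun e => (cent_or_inv (ob ▸ hy) jN.2 e).elim c1 c2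
  have j2 := hR.pgrp.to_le (zpowers_le_of_mem hj)
  refine Or.inr ⟨?_, fun k4 => ?_⟩
  · have h5 := relIndex_cent_dvd_of_prime (cY ▸ hy) (zpowers_le_of_mem jN.2)
    rw [cY, cent_zpowers] at h5
    refine Dvd.dvd.trans ?_ h5
    obtain ⟨m, hm⟩ := exists_card_eq_pow Nat.prime_two j2
    obtain ⟨n, -, hn⟩ := (Nat.dvd_prime_pow Nat.prime_two).1 (hm ▸ relIndex_dvd_card' 𝐂[b] _)
    have h6 : j ^ (𝐂[b]).relIndex (zpowers j) ∈ 𝐂[b] :=
      pow_index_mem (H := (𝐂[b]).subgroupOf (zpowers j)) ⟨j, mem_zpowers j⟩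
    rw [hn] at h6 ⊢
    rcases n with _ | _ | n
    · exact absurd (by simpa using h6) c1
    · exact absurd (by simpa [pow_two] using h6) c3
    · exact ⟨2 ^ n, by ring⟩
  have jL : j * j ∈ L := ns.two_le (j2.to_le (zpowers_le_of_mem (mul_mem (mem_zpowers j)
    (mem_zpowers j)))) (zpowers_le_of_mem ((mul2 h2 jN.1 jN.1).2 Iff.rfl)) (mem_zpowers _)
  have h5 := (h4 _ jL (cent_zpowers b ▸ isMulComm_iff_le_cent.1 inferInstance
    (conj_mem (mul_mem jN.2 jN.2) (mem_zpowers b)))).resolve_left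
      fun e => c3 (mem_cent1_iff_conj.2 e)
  have h6 : j * j * (j * j) ∈ L ⊓ 𝐂[b] := ⟨mul_mem jL jL, mem_cent1_iff_conj.2 (by
    generalize j * j = z at h5
    calc _ = z * (z * b * z⁻¹) * z⁻¹ := by group
      _ = (z * b * z⁻¹)⁻¹ := by nth_rewrite 1 [h5]; group
      _ = b := by rw [h5, inv_inv])⟩
  have h7 : j ^ (4 * d) = 1 := by
    have h8 := orderOf_dvd_card_of_mem h6
    rw [ns.ls.cent_l hb b1 (ob ▸ yl)] at h8
    rw [pow_mul, show j ^ 4 = j * j * (j * j) by simp only [pow_succ, pow_zero, one_mul, mul_assoc],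
      ← orderOf_dvd_iff_pow_eq_one]
    refine (coprime_ord Nat.prime_two j2 ?_ (Nat.coprime_two_right.2 ns.ls.odd_l)).symm
      |>.dvd_of_dvd_mul_right h8
    exact mul_mem (mul_mem (mem_zpowers j) (mem_zpowers j)) (mul_mem (mem_zpowers j) (mem_zpowers j))
  have hs := h.syl.of_le hS le_top
  obtain ⟨c, hc, h8⟩ := hs.exists_conj_le Nat.prime_two j2 (zpowers_le_of_mem jN.1)
  replace h8 := h8 (conj_mem_conj (mem_zpowers j) c)
  have h9 : c * j * c⁻¹ ∈ zpowers a := by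
    by_contra h0
    have := hout _ h8 h0
    rw [conj_mul, ← mem_normalizer_iff.1 (ns.nC hc)] at this
    exact c3 (cent_le_cent1 hb this)
  obtain ⟨m, hm⟩ := (mem_sq_or a h9).resolve_left fun e => jM ((mem_normalizer_iff.1
    (ns.nM.2 hc) j).2 (zpowers_le_of_mem ((mul2 h2 (hS h.xS) (hS h.xS)).2 Iff.rfl) e))
  replace hm : (a * a) ^ m = _ := hm
  have h10 : a ^ (4 * d) = 1 := by
    refine eq_one_of_zpow_odd h.syl.pgrp (pow_mem h.xS _) (n := 2 * m - 1) ⟨m - 1, by ring⟩ ?_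
    have e : a ^ (2 * m - 1) = c * j * c⁻¹ := by
      rw [← inv_mul_cancel_left a (c * j * c⁻¹), ← hm, ← pow_two, ← zpow_natCast, ← zpow_mul]
      group
    rw [← zpow_natCast, ← zpow_mul, mul_comm, zpow_mul, e, zpow_natCast, conj_pow, h7]
    group
  have h11 : 𝐨(S) ∣ 2 * (4 * d) := h.m.card ▸ mul_dvd_mul_left 2 (orderOf_dvd_of_pow_eq_one h10)
  have h12 : 16 * d ∣ 𝐨(S) * S.relIndex N := by
    rw [H1.card_mul_relIndex hS, ← H1.card_mul_relIndex ns.nM.1, h2]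
    obtain ⟨k', rfl⟩ := k4
    exact Dvd.dvd.trans ⟨r * k' * l, by rw [ns.card]; ring⟩
      (mul_dvd_mul_right (FT.card_dvd_of_le le_sup_right) 2)
  have h13 := Nat.prime_two.coprime_iff_not_dvd.2 hs.ndvd
  rcases ns.d12 with rfl | rfl
  · exact absurd (((h13.pow_left 4).dvd_of_dvd_mul_right h12).trans h11) (by norm_num)
  · exact absurd (((h13.pow_left 5).dvd_of_dvd_mul_right h12).trans h11) (by norm_num)

/-- Lemma O. -/
theorem lemO : ∃ j ∈ N, j ∉ pPrimeCoreOf 2 N ⊔ L ∧ IsPGroup 2 (zpowers j) ∧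
    ∃ b ∈ L, (orderOf b).Prime ∧ orderOf b ∣ l ∧ (3 ∣ l → orderOf b = 3) ∧ Commute b j := by
  have l3 := ns.ls.three_le
  by_cases h3 : 3 ∣ l
  · obtain ⟨j, a1, a2, a3, b, a4, a5, a6⟩ := (h.lemO_step ns hS h2 hout Nat.prime_three
      h3).resolve_right fun e => absurd e.1 (by norm_num)
    exact ⟨j, a1, a2, a3, b, a4, a5 ▸ Nat.prime_three, a5 ▸ h3, fun _ => a5, a6⟩
  obtain ⟨y, hy, yl⟩ := Nat.exists_prime_and_dvd (n := l) (by omega)
  rcases ns.eps with ⟨e1, e2⟩ | ⟨e1, e2⟩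
  · by_contra h0
    have key : ∀ y : ℕ, y.Prime → y ∣ l → 4 ∣ y - 1 ∧ ¬ 4 ∣ k := fun y hy yl =>
      (h.lemO_step ns hS h2 hout hy yl).resolve_left fun ⟨j, a1, a2, a3, b, a4, a5, a6⟩ =>
        h0 ⟨j, a1, a2, a3, b, a4, a5 ▸ hy, a5 ▸ yl, fun e => absurd e h3, a6⟩
    have := mod_four_of_primes l (by omega) fun p hp pl => by
      have := (key p hp pl).1
      have := hp.two_le
      omega
    have := (key y hy yl).2
    have := ns.ev
    omega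
  obtain ⟨P, hP, cP⟩ := exists_le_card_eq_prime ns.rp ns.ls.r_dvd
  obtain ⟨h4, h5, -⟩ := ns.unip P hP cP
  obtain ⟨b, hb, ob⟩ := exists_mem_orderOf_eq_prime hy (H := L ⊓ 𝐍(P))
    (yl.trans ((show l = 𝐂(P).relIndex (L ⊓ 𝐍(P)) by omega) ▸ relIndex_dvd_card' 𝐂(P) _))
  have cY : 𝐨(zpowers b) = y := by rw [Nat.card_zpowers, ob]
  obtain ⟨R0, hR0⟩ := exists_isSyl Nat.prime_two (N ⊓ 𝐍(P))
  have h6 := rel2 h2 inf_le_left fun e => h.zc.fr2 h2 ns.nM.1 ns.rp ns.ls.r2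
    (hP.trans le_sup_right) cP hR0 (hR0.le.trans e)
  rw [← inf_relIndex_right] at h6
  obtain ⟨R, hR⟩ := exists_isSyl Nat.prime_two (N ⊓ 𝐍(P) ⊓ 𝐍(zpowers b))
  obtain ⟨j, hj, jM⟩ := not_forall₂.1 (h.zc.fr2 h6 inf_le_right hy
    (fun e => odd_iff_not_dvd.1 ns.ls.odd_l (e ▸ yl))
    (zpowers_le_of_mem ⟨mem_sup_right hb.1, ns.nL.1 hb.1, hb.2⟩) cY hR)
  have jN := hR.le hj
  refine ⟨j, jN.1.1, fun e => jM ⟨e, jN.1⟩, hR.pgrp.to_le (zpowers_le_of_mem hj), b, hb.1,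
    ob ▸ hy, ob ▸ yl, fun e => absurd e h3, (commutatorElement_eq_one_iff_commute.1 ?_).symm⟩
  rw [← mem_bot, ← inf_eq_bot_of_cop (A := zpowers b) (B := 𝐂(P))
    (inf_le_inf_right _ (zpowers_le_of_mem hb.1)) (by
      rw [cY, h4]; exact ((ns.ls.cop_dl.mul_left ns.ls.cop_rl).coprime_dvd_right yl).symm)]
  exact mem_inf.2 ⟨mul_mem (conj_mem jN.2 (mem_zpowers b)) (inv_mem (mem_zpowers b)),
    der_le_cent_of_cyclic (isCyclic_of_card_prime (cP ▸ ns.rp)) le_rfl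
      (commutator_mem_commutator jN.1.2 hb.2)⟩

end St

end Cfsg.Agent.H6.Cyc
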