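/-
General local lemmas and the counting of involutions.
-/
import Cfsg.Agent.H6.Cyc6
import Cfsg.Agent.H5.Count
import Cfsg.Agent.H8.Frobenius

set_option autoImplicit false
set_option linter.unusedSectionVars false
set_option linter.style.haveILetI false

namespace Cfsg.Agent.H6.Cyc

open Subgroup Cfsg Cfsg.Agent Cfsg.Agent.FT
open Cfsg.Agent.P4 (odd_iff_not_dvd Max2)
open Cfsg.Agent.P5 (V4 Tri)
open Cfsg.Agent.P7 (V2)
open Cfsg.Agent.H2 (pPrimeCoreOf)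
open scoped commutatorElement

universe u

variable {G : Type u} [Group G] [Finite G]

theorem solv_of_npc {N : Subgroup G} (h : HasNPC 2 N) : Group.IsSolvable N := by
  obtain ⟨P, K, hK, hc⟩ := (hasNPC_iff Nat.prime_two).1 h
  refine L.isSolvable_of_normal_of_quotient K (feit_thompson _ (hc.index_eq_card ▸
    Nat.odd_iff.2 (Nat.two_dvd_ne_zero.1 P.not_dvd_index))) ?_
  exact H1.isSolvable_of_isPGroup (P.isPGroup'.of_equiv hc.symm.QuotientMulEquiv.symm)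

theorem npc_cyc {T N : Subgroup G} (h : IsSyl 2 T N) (hc : IsCyclic T) : HasNPC 2 N :=
  cyclic_minFac_npc Nat.prime_two h hc fun _ hq _ => hq.two_le

theorem le_core {K N : Subgroup G} (h : HasNPC 2 N) (hK : K ≤ N) (ho : Odd 𝐨(K)) :
    K ≤ pPrimeCoreOf 2 N := h.le_pPrimeCoreOf Nat.prime_two hK (odd_iff_not_dvd.1 ho)

theorem norm_core (N : Subgroup G) : 𝐍(N) ≤ 𝐍(pPrimeCoreOf 2 N) :=
  H2.normalizer_le_normalizer_pPrimeCoreOf 2 N

theorem core_le (N : Subgroup G) : pPrimeCoreOf 2 N ≤ N := (pPrimeCoreOf_normal 2 N).1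

theorem ne_two_of_le {P W : Subgroup G} (h : P ≤ W) (hW : Odd 𝐨(W)) : 𝐨(P) ≠ 2 := fun e =>
  odd_iff_not_dvd.1 hW (e ▸ FT.card_dvd_of_le h)

theorem cent_of_primes {W A : Subgroup G} (hW : IsMulCommutative W) (hA : A ≤ 𝐍(W))
    (hc : 𝐨(A).Coprime 𝐨(W)) (h : ∀ P ≤ W, 𝐨(P).Prime → A ≤ 𝐂(P)) : A ≤ 𝐂(W) := by
  rw [← H1.commutator_eq_bot_iff_le_centralizer']
  by_contra h0
  obtain ⟨P, hP, cP⟩ := exists_le_card_prime h0
  exact ne_bot_of_card_prime cP (eq_bot_iff.2 ((le_inf (cent_comm.1 (h P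
    (hP.trans (comm_le_left_iff.2 hA)) cP)) hP).trans
      (H1.centralizer_inf_commutator_eq_bot hW hA hc).le))

/-- Frobenius' normal complement theorem for a subgroup. -/
theorem npc_frob {S N : Subgroup G} (hS : IsSyl 2 S N)
    (h : ∀ X ≤ S, ∀ g ∈ N ⊓ 𝐍(X), Odd (orderOf g) → g ∈ 𝐂(X)) : HasNPC 2 N := by
  obtain ⟨P, hP⟩ := hS.exists_sylow Nat.prime_two
  refine (hasNPC_iff Nat.prime_two).2 (H8.hasNPC_of_coprime_centralizes P fun X hX _ g hg ho => ?_)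
  have hi := N.subtype_injective
  rw [← SetLike.mem_coe, SetLike.mem_coe, ← zpowers_le, ← map_le_cent_iff hi,
    MonoidHom.map_zpowers, zpowers_le]
  refine h _ (map_le_iff_le_comap.2 (hX.trans hP.le)) _ (mem_inf.2 ⟨g.2, ?_⟩)
    (by rw [subtype_apply, orderOf_coe]; exact Nat.coprime_two_right.1 ho)
  rw [← zpowers_le, ← MonoidHom.map_zpowers, map_le_norm_iff hi, zpowers_le]
  exact hg

theorem der_le_of_two {M N : Subgroup G} (h : M.relIndex N ∣ 2) : ⁅N, N⁆ ≤ M := by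
  rcases (Nat.dvd_prime Nat.prime_two).1 h with e | e
  · exact (der_le N).trans (relIndex_eq_one.1 e)
  · refine commutator_le.2 fun a ha b hb => ?_
    rw [commutatorElement_def, mul2 e (mul_mem (mul_mem ha hb) (inv_mem ha)) (inv_mem hb),
      mul2 e (mul_mem ha hb) (inv_mem ha), mul2 e ha hb, inv_mem_iff, inv_mem_iff]
    tauto

theorem card_class (H : Subgroup G) (x : G) :
    (classSupp {x} H).ncard = (𝐂[x] : Subgroup G).relIndex H := by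
  have h1 := CH1.card_cent_mul_card_class H x
  rw [card_fs, ← H1.card_inf_mul_relIndex 𝐂[x] H, inf_comm] at h1
  exact Nat.eq_of_mul_eq_mul_left Nat.card_pos h1

/-- Counting involutions outside a subgroup. -/
theorem outer_count {M : Subgroup G} {x : G} (h : ∀ j ∉ M, j * j = 1 → j ∈ 𝐂[x] → ∀ g ∈ M,
    j ∈ 𝐂[g * x * g⁻¹] → g ∈ 𝐂[x]) : {j | j * j = 1 ∧ j ∈ 𝐂[x] ∧ j ∉ M}.ncard *
      (𝐂[x] : Subgroup G).relIndex M ≤ {j | j * j = 1 ∧ j ∉ M}.ncard := by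
  have h0 : ∀ g ∈ M, ∀ j, g * j * g⁻¹ ∈ M ↔ j ∈ M := fun g hg j =>
    (mem_normalizer_iff.1 (le_norm_self M hg) j).symm
  have h1 := H5.ncard_classSupp_mul (A := {j | j * j = 1 ∧ j ∈ 𝐂[x] ∧ j ∉ M}) (X := M)
    (L := 𝐂[x] ⊓ M) inf_le_right (fun g hg j hj => ⟨P4.conj_sq hj.1 g,
      conj_mem (le_norm_self _ hg.1) hj.2.1, mt (h0 g hg.2 j).1 hj.2.2⟩) fun g hg j hj hj' =>
    mem_inf.2 ⟨inv_mem_iff.1 (h j hj.2.2 hj.1 hj.2.1 g⁻¹ (inv_mem hg) (by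
      rw [cent1_conj, mem_conj, inv_inv]; exact hj'.2.1)), hg⟩
  rw [← H1.card_inf_mul_relIndex 𝐂[x] M, mul_comm 𝐨((𝐂[x] ⊓ M : Subgroup G)), ← mul_assoc] at h1
  rw [← Nat.eq_of_mul_eq_mul_right Nat.card_pos h1]
  refine Set.ncard_le_ncard ?_
  rintro _ ⟨j, hj, g, hg, rfl⟩
  exact ⟨P4.conj_sq hj.1 g, mt (h0 g hg j).1 hj.2.2⟩

namespace NS

variable {N L : Subgroup G} {d r k l : ℕ} (h : NS N L d r k l)
include h

theorem not_solv {K : Subgroup G} (hK : L ≤ K) : ¬ Group.IsSolvable K := fun hs => by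
  have h1 := Group.isSolvable_iff_commutator_lt.1 (H1.isSolvable_of_le hK hs) ⊤ (by
    haveI := (nontrivial_iff_ne_bot L).2 (ne_bot_of_prime_dvd h.rp h.ls.r_dvd)
    exact top_ne_bot)
  apply h1.ne
  rw [← map_subtype_inj, map_commutator, ← MonoidHom.range_eq_map, range_subtype, h.perf]

theorem two_der {B : Subgroup G} (hB : B ≤ ⁅N, N⁆) (h2 : IsPGroup 2 B) : B ≤ L :=
  h.two_le h2 (hB.trans (der_le_of_two h.idx))

theorem three : 3 ∣ 𝐨(L) := h.ls.three.elim (·.trans h.ls.k_dvd) (·.trans h.ls.l_dvd)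

theorem cyc {b : G} (hb : b ∈ L) (ho : orderOf b = 3 ∨ orderOf b = 4) :
    IsCyclic (L ⊓ 𝐂[b] : Subgroup G) := by
  refine (h.cent b hb (fun e => ?_) fun e => ?_).1
  · have := Nat.le_of_dvd two_pos (orderOf_dvd_of_pow_eq_one ((pow_two b).trans e))
    omega
  · have := Nat.le_of_dvd (by omega) e
    have := h.r5
    omega

end NS

namespace St

variable {S : Subgroup G} {a t s : G} (h : St S a t s)
include h

theorem replace {j : G} (hj : j ∈ S) (hT : j ∉ zpowers a) (jj : j * j = 1) : St S a t j :=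
  ⟨⟨h.syl, h.xS, h.zx, h.z1, h.zz, hj, hT, jj, fun g hg => by
    rw [h.m.mul_mem_iff hj hg]; tauto, fun y hy hc => h.cs y hy (by
      simpa using (cT ((h.cover j hj).resolve_left hT) hy).mul_left hc.inv_left)⟩,
    h.zc, h.simple, h.na, h.aa⟩

theorem solv_or {n : ℕ} (ih : IH.{u} n) (hn : Nat.card G ≤ n) {P : Subgroup G} (cP : 𝐨(P).Prime) :
    Group.IsSolvable 𝐍(P) ∨ ∃ L d r k l, NS 𝐍(P) L d r k l := by
  haveI := h.simple
  refine or_iff_not_imp_left.2 fun hs => h.zc.ns ih hs (lt_of_lt_of_le ?_ hn)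
  rw [← card_top (G := G)]
  exact H1.card_lt_of_lt (norm_ne_top' h.na (ne_bot_of_card_prime cP)
    (isSolvable_of_isNilpotent (isNilpotent_of_isPGroup cP (isPGroup_of_card_prime rfl)))).lt_top

theorem sq_der : zpowers (a * a) ≤ ⁅S, S⁆ := by
  have h1 := inv_mem (commutator_mem_commutator h.sS h.xS)
  rw [commutatorElement_def, h.m.s_inv] at h1
  refine zpowers_le_of_mem ?_
  by_cases hd : s * a * s = a⁻¹
  · simpa [hd] using h1
  rw [h.m.cases.resolve_left hd, mul_assoc, (h.ct h.xS).inv_right.eq, ← mul_assoc,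
    mul_inv_rev, mul_inv_rev, inv_inv] at h1
  have h2 : Commute t (a * a) := h.ct (mul_mem h.xS h.xS)
  have h3 := mul_mem h1 h1
  rw [h2.inv_left.symm.mul_mul_mul_comm, ← mul_inv_rev, h.zz, inv_one, one_mul] at h3
  refine (mul_mem_cancel_left (inv_mem (zpowers_le_of_mem h3 (h.m.z_mem_zpowers
    (mul_mem h.xS h.xS) fun e => hd (h.inv_u (mem_zpowers a) ?_))))).1 h1
  exact (h.m.uniq (mul_mem (mem_zpowers a) (mem_zpowers a)) e).resolve_left h.aa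

theorem t_sq : t ∈ zpowers (a * a) := h.m.z_mem_zpowers h.xS h.aa

theorem two_sq : IsPGroup 2 (zpowers (a * a)) :=
  h.syl.pgrp.to_le (zpowers_le_of_mem (mul_mem h.xS h.xS))

theorem zl_S {W : Subgroup G} (hW : Odd 𝐨(W)) (hS : S ≤ 𝐍(W)) : zpowers (a * a) ≤ 𝐂(W) :=
  h.zc.zl2 hW hS h.sq_der h.two_sq

theorem syl_T {K : Subgroup G} (hT : a ∈ K) (hK : ∀ g, ¬ S ^ᵍ g ≤ K) : IsSyl 2 (zpowers a) K :=
  isSyl_of_maximal Nat.prime_two (zpowers_le_of_mem hT) (h.syl.pgrp.to_le h.m.X_le)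
    fun Q h1 h2 h3 => by
    by_contra h0
    obtain ⟨g, -, h4⟩ := h.syl.exists_le_conj Nat.prime_two h3 le_top
    refine hK g ((H1.eq_of_le_of_card_le h4 ?_).ge.trans h2)
    obtain ⟨c, hc⟩ := FT.card_dvd_of_le h1
    have h5 := H1.card_lt_of_lt (lt_of_le_of_ne h1 (Ne.symm h0))
    rw [card_conj, h.m.card, ← Nat.card_zpowers]
    rcases c with _ | _ | c
    · exact absurd hc (card_ne_zero Q)
    · omega
    · nlinarith

theorem not_le_cent {P : Subgroup G} (cP : 𝐨(P).Prime) (p2 : 𝐨(P) ≠ 2) (g : G) :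
    ¬ S ^ᵍ g ≤ 𝐂(P) := fun e => by
  rw [← conj_inv_conj P g, conj_le_cent_iff] at e
  exact h.cent_S cP p2 (card_conj _ _) e

/-- Lemma CT. -/
theorem cent_le {P : Subgroup G} (cP : 𝐨(P).Prime) (p2 : 𝐨(P) ≠ 2) (hS : S ≤ 𝐍(P))
    (hT : a ∈ 𝐂(P)) : 𝐂(P) ≤ 𝐂[t] := by
  have h1 := h.syl_T hT (h.not_le_cent cP p2)
  rw [← ((npc_cyc h1 inferInstance).sdProd Nat.prime_two h1).sup]
  exact sup_le (mem_cent_iff_cent1.1 (h.zl_S (odd_core _) ((H1.le_normalizer_centralizer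
    hS).trans (norm_core _)) h.t_sq)) (h.m.X_le.trans h.m.le_cent)

theorem norm_le {P : Subgroup G} (cP : 𝐨(P).Prime) (p2 : 𝐨(P) ≠ 2) (hS : S ≤ 𝐍(P))
    (hT : a ∈ 𝐂(P)) : 𝐍(P) ≤ 𝐂[t] := fun g hg => by
  obtain ⟨c, hc, h1⟩ := (h.syl_T hT (h.not_le_cent cP p2)).exists_conj_le Nat.prime_two
    (P4.isPGroup_zpowers_of_sq (P4.conj_sq h.zz g)) (zpowers_le_of_mem (conj_mem
      (H1.normalizer_le_normalizer_centralizer P hg) (zpowers_le_of_mem hT h.zx)))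
  have h2 := (h.m.uniq (h1 (conj_mem_conj (mem_zpowers _) c)) (P4.conj_sq (P4.conj_sq h.zz g)
    c)).resolve_left (P4.conj_ne_one (P4.conj_ne_one h.z1 g) c)
  refine (mul_mem_cancel_left (h.cent_le cP p2 hS hT hc)).1 (mem_cent1_iff_conj.2 ?_)
  exact Eq.trans (by group) h2

theorem mem_of_sq {x y : G} (v : V4 x y) {j : G} (jj : j * j = 1) (hj : j ∈ 𝐂(V2 x y)) :
    j ∈ V2 x y :=
  h.four v (P4.isPGroup_zpowers_of_sq jj) (zpowers_le_of_mem hj) (mem_zpowers j)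

theorem class_t {j : G} : j ∈ classSupp {t} ⊤ ↔ j ≠ 1 ∧ j * j = 1 := by
  rw [CH1.mem_class]
  refine ⟨?_, fun hj => (h.conj hj.1 hj.2).imp fun g e => ⟨mem_top g, e⟩⟩
  rintro ⟨g, -, rfl⟩
  exact ⟨P4.conj_ne_one h.z1 g, P4.conj_sq h.zz g⟩

theorem dvd_H {P : Subgroup G} (h2 : 2 ∣ 𝐨(𝐂(P))) : 𝐨(P) ∣ 𝐨(𝐂[t]) := by
  obtain ⟨j, hj, j1, jj⟩ := P4.exists_invol_of_even h2
  obtain ⟨g, rfl⟩ := h.conj j1 jj
  rw [← card_conj 𝐂[t] g, ← cent1_conj]
  exact FT.card_dvd_of_le (mem_cent_iff_cent1.1 hj)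

end St

end Cfsg.Agent.H6.Cyc
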