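/-
The dihedral case.
-/
import Cfsg.Agent.H6.Cyc7

set_option autoImplicit false
set_option linter.unusedSectionVars false
set_option linter.style.haveILetI false

namespace Cfsg.Agent.H6.Cyc

open Subgroup Cfsg Cfsg.Agent Cfsg.Agent.FT
open Cfsg.Agent.P4 (odd_iff_not_dvd Max2)
open Cfsg.Agent.P5 (V4 Tri)
open Cfsg.Agent.P7 (V2)
open Cfsg.Agent.H2 (pPrimeCoreOf)
open scoped commutatorElement

universe u

variable {G : Type u} [Group G] [Finite G]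

theorem exists_gen {P : Subgroup G} (cP : 𝐨(P).Prime) : ∃ b, zpowers b = P ∧ orderOf b = 𝐨(P) := by
  obtain ⟨b, rfl⟩ := isCyclic_iff_zpowers.1 (isCyclic_of_card_prime cP)
  exact ⟨b, rfl, (Nat.card_zpowers b).symm⟩

theorem exists_invol_of_card {P : Subgroup G} (h : 𝐨(P) = 2) :
    ∃ z, z ≠ 1 ∧ z * z = 1 ∧ zpowers z = P := by
  obtain ⟨z, e, ho⟩ := exists_gen (h ▸ Nat.prime_two : 𝐨(P).Prime)
  exact ⟨z, (P4.invol_of_orderOf (ho.trans h)).1, (P4.invol_of_orderOf (ho.trans h)).2, e⟩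

theorem norm_invol {z : G} (z1 : z ≠ 1) (zz : z * z = 1) : 𝐍(zpowers z) ≤ 𝐂[z] := fun g hg =>
  mem_cent1_iff_conj.2 (P4.uniq_invol inferInstance (conj_mem hg (mem_zpowers z))
    (P4.conj_ne_one z1 g) (P4.conj_sq zz g) (mem_zpowers z) z1 zz)

namespace St

variable {S : Subgroup G} {a t s : G} (h : St S a t s) (hd : s * a * s = a⁻¹)
include h hd

theorem npc_H : HasNPC 2 𝐂[t] := npc_frob h.syl_H fun X hX g hg ho => by
  have key : ∀ k ∈ 𝐂[t] ⊓ 𝐍(X), ∀ x ∈ X, x ∈ zpowers a → k * x * k⁻¹ ∈ zpowers a :=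
    fun k hk x hx hT => by
    by_contra h0
    have h1 := h.dih_out hd (hX (conj_mem hk.2 hx)) h0
    rw [conj_mul, conj_eq_one_iff] at h1
    rcases h.m.uniq hT h1 with rfl | rfl
    · exact h0 (by simp)
    · exact h0 ((mem_cent1_iff_conj.1 hk.1).symm ▸ hT)
  have hA := zpowers_le_of_mem hg
  refine zpowers_le.1 (H1.le_centralizer_of_commutator_le (hA.trans inf_le_right)
    (P4.coprime_of_odd (h.syl.pgrp.to_le hX) (by rwa [Nat.card_zpowers])) (H := X ⊓ zpowers a)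
    (le_inf (comm_le_left_iff.2 (hA.trans inf_le_right)) (commutator_le.2 fun x hx k hk => ?_))
    (cent_cyc2 (isCyclic_of_le inf_le_right inferInstance) (h.syl.pgrp.to_le (inf_le_left.trans hX))
      (by rwa [Nat.card_zpowers]) fun k hk => mem_norm_of_conj_le ?_))
  · have h1 := conj_mem (hA hk).2 (inv_mem hx)
    rw [commutatorElement_def, mul_assoc, mul_assoc, ← mul_assoc k, h.m.mul_mem_iff (hX hx) (hX h1)]
    refine ⟨fun e => key k (hA hk) _ (inv_mem hx) (inv_mem e), fun e => ?_⟩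
    simpa [mul_assoc] using key _ (inv_mem (hA hk)) _ h1 e
  · rintro _ ⟨x, hx, rfl⟩
    exact ⟨conj_mem (hA hk).2 hx.1, key k (hA hk) x hx.1 hx.2⟩

omit hd in
theorem norm_U : S ≤ 𝐍(pPrimeCoreOf 2 𝐂[t]) := h.m.le_cent.trans (pPrimeCoreOf_normal 2 _).2

omit hd in
theorem cyc_U : IsCyclic (pPrimeCoreOf 2 𝐂[t]) :=
  h.zc.cyc_of_fpf (odd_core _) h.norm_U h.syl.pgrp (h.odd_cent_S (odd_core _))

omit hd in
theorem H_norm {P : Subgroup G} (hP : P ≤ pPrimeCoreOf 2 𝐂[t]) : 𝐂[t] ≤ 𝐍(P) :=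
  (pPrimeCoreOf_normal 2 _).2.trans (norm_le_norm_of_le_cyclic h.cyc_U hP)

omit hd in
theorem le_cent_S {g : G} (ha : g ∈ 𝐂[a]) (hs : g ∈ 𝐂[s]) : g ∈ 𝐂(S) :=
  mem_cent_iff_cent1.2 fun x hx => by
    have h1 := zpowers_le_of_mem (mem_cent1_comm.1 ha)
    rcases h.cover x hx with e | e
    · exact h1 e
    · exact (mul_mem_cancel_left (mem_cent1_comm.1 hs)).1 (h1 e)

theorem bsw (hP : ∀ P ≤ pPrimeCoreOf 2 𝐂[t], 𝐨(P).Prime → a ∈ 𝐂(P)) :
    P3.BSW (pPrimeCoreOf 2 𝐂[t] ⊔ zpowers a) t s := by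
  have hO := odd_core (G := G) 𝐂[t]
  have h2 := h.syl.pgrp.to_le h.m.X_le
  have hTU := cent_of_primes (isMulComm_of_isCyclic h.cyc_U) (h.m.X_le.trans h.norm_U)
    (P4.coprime_of_odd h2 hO).symm fun P h1 h2 => zpowers_le_of_mem (hP P h1 h2)
  have hn := hTU.trans (cent_le_norm _)
  have hc := isMulComm_sup (isMulComm_of_isCyclic h.cyc_U) inferInstance hTU
  have hU := L.inverts_of_fpf h.ss (h.norm_U h.sS) fun u hu e => mem_bot.1 (h.odd_cent_S hO ▸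
    mem_inf.2 ⟨hu, h.le_cent_S (cent_zpowers a ▸ cent_comm.1 hTU hu) (mem_cent1.2 e)⟩)
  have uq : ∀ x ∈ pPrimeCoreOf 2 𝐂[t] ⊔ zpowers a, x * x = 1 → x = 1 ∨ x = t := fun x hx xx => by
    obtain ⟨u, hu, y, hy, rfl⟩ := (mem_sup_of_norm hn).1 hx
    have h1 : Commute u y := mem_cent.1 (hTU hy) u hu
    rw [h1.symm.mul_mul_mul_comm] at xx
    have h3 : u * u ∈ pPrimeCoreOf 2 𝐂[t] ⊓ zpowers a :=
      mem_inf.2 ⟨mul_mem hu hu, eq_inv_of_mul_eq_one_left xx ▸ inv_mem (mul_mem hy hy)⟩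
    rw [H1.inf_eq_bot_of_coprime' (P4.coprime_of_odd h2 hO), mem_bot] at h3
    rw [h3, one_mul] at xx
    rw [P5.eq_one_of_odd hO hu h3, one_mul]
    exact h.m.uniq hy xx
  have iv : ∀ x ∈ pPrimeCoreOf 2 𝐂[t] ⊔ zpowers a, s * x * s = x⁻¹ := fun x hx => by
    obtain ⟨u, hu, y, hy, rfl⟩ := (mem_sup_of_norm hn).1 hx
    have h1 : Commute u y := mem_cent.1 (hTU hy) u hu
    rw [h1.mul_inv, ← hU u hu, ← h.m.inv_of hd y hy, mul_assoc (s * u) s, ← mul_assoc s (s * y),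
      ← mul_assoc s s, h.ss]
    group
  have ct : ∀ g, Commute t g → g ∈ pPrimeCoreOf 2 𝐂[t] ⊔ zpowers a ∨
      s * g ∈ pPrimeCoreOf 2 𝐂[t] ⊔ zpowers a := fun g hg => by
    obtain ⟨y, hy, u, hu, rfl⟩ := ((h.npc_H hd).sdProd Nat.prime_two h.syl_H).mem_iff'.1
      (mem_cent1.2 hg)
    exact (h.cover y hy).imp (fun e => mul_mem (mem_sup_right e) (mem_sup_left hu))
      fun e => mul_assoc s y u ▸ mul_mem (mem_sup_right e) (mem_sup_left hu)
  have cm := isMulComm_iff_le_cent.1 hc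
  refine ⟨hc, mem_sup_right h.zx, h.z1, h.zz, uq, fun e => h.aa (h.cs a (mem_zpowers a)
    (mem_cent.1 (cm (mem_sup_right (mem_zpowers a))) s e)), h.ss, iv, ct, fun x hx xx g hg => ?_,
    fun u u1 uu => isConj_iff.2 (h.conj u1 uu)⟩
  obtain ⟨P, h1, cP⟩ := exists_le_card_prime (zpowers_ne_bot.2 fun e : x = 1 => xx (by simp [e]))
  have h3 : g ∈ 𝐂(P) := cent_anti h1 (cent_zpowers x ▸ mem_cent1.2 hg)
  have h4 := h1.trans (zpowers_le_of_mem hx)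
  refine (ct g (mem_cent1.1 ?_)).resolve_right fun e => xx ?_
  · by_cases p2 : 𝐨(P) = 2
    · obtain ⟨z, z1, zz, rfl⟩ := exists_invol_of_card p2
      rwa [cent_zpowers, (uq z (h4 (mem_zpowers z)) zz).resolve_left z1] at h3
    have h5 := le_core (h.npc_H hd) (h4.trans (sup_le (core_le _) (h.m.X_le.trans h.m.le_cent)))
      (cP.odd_of_ne_two p2)
    exact h.cent_le cP p2 (h.m.le_cent.trans (h.H_norm h5)) (hP P h5 cP) h3
  · have h5 : Commute x (s * g) := mem_cent.1 (cm e) x hx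
    have h6 : Commute x s := by simpa using h5.mul_right hg.inv_right
    have h7 := iv x hx
    rw [← h6.eq, mul_assoc, h.ss, mul_one] at h7
    exact mul_eq_one_iff_eq_inv.2 h7

variable {n : ℕ} (ih : IH.{u} n) (hn : Nat.card G ≤ n)
include ih hn

theorem dih_norm {P : Subgroup G} (hP : P ≤ pPrimeCoreOf 2 𝐂[t]) (cP : 𝐨(P).Prime)
    (hs : s ∈ 𝐂(P)) : 𝐍(P) ≤ 𝐍(V2 t s) ∧ ∃ w ∈ 𝐂(P), Tri w t s := by
  have p2 := ne_two_of_le hP (odd_core _)
  have hH := h.H_norm hP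
  obtain ⟨w, hw, tri⟩ := h.exists_tri h.v4 cP p2 rfl (cent_comm.1 (V4.le_iff.2
    ⟨mem_cent_iff_cent1.2 (hP.trans (core_le _)), hs⟩))
  refine ⟨?_, w, hw, tri⟩
  have ht := hH (self_mem_cent1 t)
  rcases h.solv_or ih hn cP with hs | ⟨L, d, r, k, l, ns⟩
  · exact h.sol h.v4 tri hs ht (cent_le_norm P hw)
  exfalso
  have hS := h.m.le_cent.trans hH
  have tL := ns.two_der (mem_der_of_tri tri h.v4 (cent_le_norm P hw) ht) h.v4.isPGroup V4.t_mem
  have h2 := ((Nat.dvd_prime Nat.prime_two).1 ns.idx).resolve_left fun e => h.cent_S cP p2 rfl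
    ((ns.two_le h.syl.pgrp (hS.trans (relIndex_eq_one.1 e))).trans (cent_comm.1
      ((le_pPrimeCoreOf ⟨le_norm_self P, le_rfl⟩ ((Nat.coprime_primes cP Nat.prime_two).2
        p2)).trans ns.XC)))
  obtain rfl := ns.d12.resolve_right fun e => ns.not_solv (mem_cent_iff_cent1.1
    (ns.uniq e t tL h.zz)) (solv_of_npc (h.npc_H hd))
  obtain ⟨j, -, j1, j2, b, hb, bp, bl, -, e⟩ := h.lemO ns hS h2
    fun g hg hT => h.dih_out hd hg hT ▸ one_mem _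
  have h3 := h.dvd_H (P := zpowers b) ((prime_dvd_card_of_isPGroup Nat.prime_two j2
    (zpowers_ne_bot.2 fun e => j1 (e ▸ one_mem _))).trans (FT.card_dvd_of_le
      (zpowers_le_of_mem (cent_zpowers b ▸ mem_cent1.2 e))))
  rw [Nat.card_zpowers] at h3
  obtain ⟨c, hc, oc⟩ := exists_mem_orderOf_eq_prime bp h3
  have h4 := ns.prime_le h.zc bp (fun e => odd_iff_not_dvd.1 ns.ls.odd_l (e ▸ bl))
    (zpowers_le_of_mem (hH hc)) (by rw [Nat.card_zpowers, oc]) (orderOf_dvd_card_of_mem hb)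
  have h5 := orderOf_dvd_card_of_mem (mem_inf.2 ⟨tL, mem_cent1_comm.1 hc⟩)
  rw [ns.ls.cent_l (h4 (mem_zpowers c)) (fun e => bp.one_lt.ne (by rw [← oc, e, orderOf_one]))
    (oc ▸ bl), one_mul, P4.orderOf_two h.z1 h.zz] at h5
  exact odd_iff_not_dvd.1 ns.ls.odd_l h5

theorem dih_false {P : Subgroup G} (hP : P ≤ pPrimeCoreOf 2 𝐂[t]) (cP : 𝐨(P).Prime)
    (hs : s ∈ 𝐂(P)) : False := by
  obtain ⟨h1, w, hw, tri⟩ := h.dih_norm hd ih hn hP cP hs
  have v := h.v4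
  have HM := (h.H_norm hP).trans h1
  have SM := h.m.le_cent.trans HM
  have wM := tri.mem_norm v
  have UV := le_cent_of_norm_of_coprime ((core_le _).trans HM) ((V4.le_iff.2
    ⟨h.tS, h.sS⟩).trans h.norm_U) (P4.coprime_of_odd v.isPGroup (odd_core _)).symm
  have sT : ∀ y ∈ zpowers a, y ≠ s ∧ y ≠ t * s := fun y hy =>
    ⟨fun e => h.sx (e ▸ hy), fun e => h.sx ((mul_mem_cancel_left h.zx).1 (e ▸ hy))⟩
  have aa : a * a = t := by
    have h2 := mul_mem (conj_mem (SM h.xS) V4.s_mem) V4.s_mem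
    rw [← hd, ← mul_assoc, mul_assoc _ s s, h.ss, mul_one, ← mul_assoc, mul_assoc _ s s, h.ss,
      mul_one, v.mem_iff] at h2
    have := sT _ (mul_mem (mem_zpowers a) (mem_zpowers a))
    have := h.aa
    tauto
  have i2 : (V2 t s).relIndex S = 2 := by
    have h2 := H1.card_mul_relIndex (H := V2 t s) (V4.le_iff.2 ⟨h.tS, h.sS⟩)
    rw [v.card, h.m.card, orderOf_eq_prime_pow (p := 2) (n := 1) (by simpa [pow_two] using h.aa)
      (by rw [pow_succ, pow_mul, pow_one, pow_two, pow_two, aa, h.zz])] at h2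
    omega
  have two : ∀ R ≤ 𝐍(V2 t s), IsPGroup 2 R → ∀ x ∈ R, ∀ y ∈ R, x * y ∈ V2 t s ↔
      (x ∈ V2 t s ↔ y ∈ V2 t s) := fun R hR h2 x hx y hy => by
    obtain ⟨g, hg, h3⟩ := (h.syl.of_le SM le_top).exists_conj_le Nat.prime_two h2 hR
    rw [mem_normalizer_iff.1 hg x, mem_normalizer_iff.1 hg y, mem_normalizer_iff.1 hg (x * y),
      ← conj_mul, mul2 i2 (h3 (conj_mem_conj hx g)) (h3 (conj_mem_conj hy g))]
  have CM : ∀ z ∈ V2 t s, z ≠ 1 → 𝐂[z] ≤ 𝐍(V2 t s) := fun z hz z1 => by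
    obtain ⟨g, hg, rfl⟩ := tri.exists_conj v hz z1
    rw [cent1_conj]
    exact conj_le_of_mem HM (zpowers_le_of_mem wM hg)
  have MH : ∀ K : Subgroup G, w ∈ K → 𝐍(V2 t s) ≤ K ⊔ 𝐂[t] := fun K hK g hg => by
    obtain ⟨y, hy, e⟩ := tri.exists_conj v (conj_mem hg V4.t_mem) (P4.conj_ne_one h.z1 g)
    refine (mul_mem_cancel_left (inv_mem (mem_sup_left (zpowers_le_of_mem hK hy)))).1
      (mem_sup_right (mem_cent1_iff_conj.2 ?_))
    rw [show y⁻¹ * g * t * (y⁻¹ * g)⁻¹ = y⁻¹ * (g * t * g⁻¹) * y by group, ← e]; group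
  have p2 := ne_two_of_le hP (odd_core _)
  have MP : 𝐍(V2 t s) ≤ 𝐍(P) := (MH _ (cent_le_norm P hw)).trans (sup_le le_rfl (h.H_norm hP))
  have N1 : ∀ Y ≤ 𝐍(V2 t s), 𝐨(Y).Prime → 𝐨(Y) ≠ 2 → 𝐍(Y) ≤ 𝐍(V2 t s) := fun Y hY cY y2 => by
    by_cases h2 : 𝐨(Y) ∣ 𝐨(𝐂[t])
    · obtain ⟨Z, hZ, cZ⟩ := exists_le_card_eq_prime cY h2
      have h3 := le_core (h.npc_H hd) hZ (cZ ▸ cY.odd_of_ne_two y2)
      obtain ⟨g, hg, rfl⟩ := h.zc.conj_prime cY y2 (hZ.trans HM) hY cZ rfl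
      rw [norm_conj]
      exact conj_le_of_mem (h.dih_norm hd ih hn h3 (by rwa [cZ])
        (cent_comm.1 (h3.trans UV) V4.s_mem)).1 hg
    have nC := H1.le_normalizer_centralizer MP
    have h3 : Y ≤ 𝐂(P) := by
      have h4 := relIndex_dvd_of_norm (hY.trans (MH _ hw)) (sup_le (le_norm_self _) (HM.trans nC))
      rw [relIndex_sup_of_norm (HM.trans nC)] at h4
      exact relIndex_eq_one.1 (Nat.eq_one_of_dvd_coprimes ((cY.coprime_iff_not_dvd).2 h2)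
        (relIndex_dvd_card' _ _) (h4.trans (relIndex_dvd_card' _ _)))
    obtain ⟨g, hg, h4⟩ := not_forall₂.1 (h.cent_S cP p2 rfl)
    obtain ⟨c, hc, h5⟩ := h.zc.conj_prime cY y2 (conj_le_of_mem_norm h3 (nC (SM hg))) h3
      (card_conj _ _) rfl
    rw [conj_conj, conj_eq_self_iff] at h5
    have h6 := zpowers_le_of_mem (mul_mem (cent_le_norm P hc) (MP (SM hg)))
    have h7 : Odd 𝐨(𝐂(Y)) := odd_iff_not_dvd.2 (mt h.dvd_H h2)
    have h8 := ((eq_bot_or_eq_of_card_prime cP (comm_le_left_iff.2 h6)).resolve_left fun e =>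
      h4 ((mul_mem_cancel_left hc).1 (H1.commutator_eq_bot_iff_le_centralizer'.1 e
        (mem_zpowers _)))).ge.trans ((commutator_mono (cent_comm.1 h3) le_rfl).trans
          (h.zc.comm_le_fit h7 (H1.le_normalizer_centralizer (zpowers_le_of_mem h5))))
    exact ((H1.normalizer_le_normalizer_centralizer Y).trans ((H2.normalizer_le_normalizer_fittingOf
      _).trans (norm_le_norm_of_le_cyclic (h.zc.cyc_fit h7) h8))).trans h1
  have key : ∀ j ∉ 𝐍(V2 t s), ∀ x ∈ 𝐍(V2 t s), x ≠ 1 → j ∈ 𝐍(zpowers x) →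
      x * x = 1 ∧ x ∉ V2 t s := fun j hj x hx x1 hn => by
    have h2 : ∀ z ∈ V2 t s, z ≠ 1 → j ∉ 𝐍(zpowers z) := fun z hz z1 e =>
      hj (CM z hz z1 (norm_invol z1 (v.sq hz) e))
    refine ⟨by_contra fun xx => ?_, fun e => h2 x e x1 hn⟩
    obtain ⟨Y, hY, cY⟩ := exists_le_card_prime (zpowers_ne_bot.2 xx)
    have h3 := hY.trans (zpowers_le_of_mem (mul_mem (mem_zpowers x) (mem_zpowers x)))
    have h4 := norm_le_norm_of_le_cyclic inferInstance h3 hn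
    by_cases y2 : 𝐨(Y) = 2
    · obtain ⟨z, z1, zz, rfl⟩ := exists_invol_of_card y2
      obtain ⟨i, e⟩ := mem_zpowers_iff.1 (hY (mem_zpowers z))
      rw [(Commute.refl x).mul_zpow] at e
      refine h2 z (e ▸ (two _ (zpowers_le_of_mem (zpow_mem hx i)) (two_of_sq
        (P4.isPGroup_zpowers_of_sq zz) (e ▸ mem_zpowers z)) _ (mem_zpowers _) _
          (mem_zpowers _)).2 Iff.rfl) z1 h4
    · exact hj (N1 Y (h3.trans (zpowers_le_of_mem hx)) cY y2 h4)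
  have key2 : ∀ j ∉ 𝐍(V2 t s), ∀ x ∈ 𝐍(V2 t s), ∀ y ∈ 𝐍(V2 t s), x ≠ 1 → y ≠ 1 → j ∈ 𝐂[x] →
      j ∈ 𝐂[y] → x = y := fun j hj x hx y hy x1 y1 cx cy => by
    have h2 : ∀ z, j ∈ 𝐂[z] → j ∈ 𝐍(zpowers z) := fun z e => cent_le_norm _ (cent_zpowers z ▸ e)
    obtain ⟨xx, xV⟩ := key j hj x hx x1 (h2 x cx)
    obtain ⟨yy, yV⟩ := key j hj y hy y1 (h2 y cy)
    by_contra ne
    have h3 : x * y ≠ 1 := fun e => ne (mul_right_cancel (e.trans yy.symm))
    obtain ⟨zz, zV⟩ := key j hj _ (mul_mem hx hy) h3 (h2 _ (mem_cent1_comm.1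
      (mul_mem (mem_cent1_comm.1 cx) (mem_cent1_comm.1 cy))))
    have v' : V4 x y := ⟨x1, y1, ne, xx, yy, by
      have := P5.inv_eq_of_sq zz
      rwa [mul_inv_rev, P5.inv_eq_of_sq xx, P5.inv_eq_of_sq yy, eq_comm] at this⟩
    exact zV ((two _ (V4.le_iff.2 ⟨hx, hy⟩) v'.isPGroup x V4.t_mem y V4.s_mem).2
      (iff_of_false xV yV))
  have sS := mul_mem h.sS h.xS
  have sT' : s * a ∉ zpowers a := by rw [mul_mem_cancel_right (mem_zpowers a)]; exact h.sx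
  have v' := (h.replace sS sT' (h.dih_out hd sS sT')).v4
  have sc : s * a ∉ 𝐂[s] := fun e => h.aa (h.cs a (mem_zpowers a)
    (mem_cent1.1 ((mul_mem_cancel_left (self_mem_cent1 s)).1 e)))
  have c1 : classSupp {t} ⊤ ⊆ (sharp (V2 t s) ∪ classSupp {s * a} 𝐍(V2 t s)) ∪
      {j | j * j = 1 ∧ j ∉ 𝐍(V2 t s)} := fun j hj => by
    obtain ⟨j1, jj⟩ := h.class_t.1 hj
    by_cases jM : j ∈ 𝐍(V2 t s)
    swap; · exact Or.inr ⟨jj, jM⟩
    by_cases jV : j ∈ V2 t s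
    · exact Or.inl (Or.inl ⟨jV, j1⟩)
    refine Or.inl (Or.inr ?_)
    obtain ⟨g, hg, h3⟩ := (h.syl.of_le SM le_top).exists_conj_le Nat.prime_two
      (P4.isPGroup_zpowers_of_sq jj) (zpowers_le_of_mem jM)
    replace h3 := h3 (conj_mem_conj (mem_zpowers j) g)
    rw [mem_normalizer_iff.1 hg j] at jV
    rw [← conj_mem_classSupp_iff hg, CH1.mem_class]
    have h4 := (h.m.mul_mem_iff h3 sS).2 (iff_of_false (fun e => jV (by
      rcases h.m.uniq e (P4.conj_sq jj g) with e | e <;> rw [e]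
      exacts [one_mem _, V4.t_mem])) sT')
    have h5 := (mul2 i2 h3 sS).2 (iff_of_false jV fun e => sc (mem_cent1.2
      (mem_cent.1 (isMulComm_iff_le_cent.1 (P7.V4.isMulComm v) e) s V4.s_mem)))
    rcases h.m.uniq h4 (v.sq h5) with e | e
    · exact ⟨1, one_mem _, by simpa [P5.inv_eq_of_sq v'.ss] using (eq_inv_of_mul_eq_one_left e).symm⟩
    · refine ⟨a, SM h.xS, ((h.sw_u (mem_zpowers a) aa sS sT').2).trans ?_⟩
      rw [← e, mul_assoc, v'.ss, mul_one]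
  have c2 : {j | j * j = 1 ∧ j ∉ 𝐍(V2 t s)}.ncard ≤ 2 * (𝐍(V2 t s).index - 1) := by
    classical
    haveI := Fintype.ofFinite (G ⧸ 𝐍(V2 t s))
    rw [← card_fs, index_eq_card, Nat.card_eq_fintype_card, ← Finset.card_univ,
      ← Finset.card_erase_of_mem (Finset.mem_univ ((1 : G) : G ⧸ 𝐍(V2 t s)))]
    refine Finset.card_le_mul_card_image_of_maps_to (f := fun j : G => (j : G ⧸ 𝐍(V2 t s)))
      (fun j hj => Finset.mem_erase.2 ⟨fun e => (mem_fs.1 hj).2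
        (by simpa using QuotientGroup.eq.1 e), Finset.mem_univ _⟩) 2 fun b _ => not_lt.1 fun e => ?_
    obtain ⟨i, j, k, hi, hj, hk, ij, ik, jk⟩ := Finset.two_lt_card_iff.1 e
    simp only [Finset.mem_filter, mem_fs, Set.mem_ofPred_eq] at hi hj hk
    have h2 : ∀ y : G, y * y = 1 → (y : G ⧸ 𝐍(V2 t s)) = b → i ≠ y →
        i⁻¹ * y ∈ 𝐍(V2 t s) ∧ i⁻¹ * y ≠ 1 ∧ i ∈ 𝐂[i⁻¹ * y] := fun y yy e ne => by
      have h3 := QuotientGroup.eq.1 (hi.2.trans e.symm)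
      have h4 : i⁻¹ * y ≠ 1 := fun e => ne (inv_mul_eq_one.1 e)
      have h5 : i * (i⁻¹ * y) * i⁻¹ = (i⁻¹ * y)⁻¹ := by
        rw [mul_inv_rev, inv_inv, P5.inv_eq_of_sq yy, P5.inv_eq_of_sq hi.1.1, ← mul_assoc i, hi.1.1,
          one_mul]
      exact ⟨h3, h4, mem_cent1_iff_conj.2 (h5.trans (P5.inv_eq_of_sq (key i hi.1.2 _ h3 h4
        (mem_norm_zpowers (h5 ▸ inv_mem (mem_zpowers _)))).1))⟩
    obtain ⟨a1, a2, a3⟩ := h2 j hj.1.1 hj.2 ij
    obtain ⟨b1, b2, b3⟩ := h2 k hk.1.1 hk.2 ik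
    exact jk (mul_left_cancel (key2 i hi.1.2 _ a1 _ b1 a2 b2 a3 b3))
  have c3 := outer_count (M := 𝐍(V2 t s)) (x := s * a) fun j hj _ c g hg c' => mem_cent1_iff_conj.2
    (key2 j hj _ (conj_mem (le_norm_self _ hg) (SM sS)) _ (SM sS) (P4.conj_ne_one v'.s1 g) v'.s1 c' c)
  have c4 : {j | j * j = 1 ∧ j ∈ 𝐂[s * a]} ⊆ {j | j * j = 1 ∧ j ∈ 𝐂[s * a] ∧ j ∉ 𝐍(V2 t s)} ∪
      V2 t (s * a) := fun j hj => by
    by_cases jM : j ∈ 𝐍(V2 t s)
    swap; · exact Or.inl ⟨hj.1, hj.2, jM⟩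
    refine Or.inr (h.mem_of_sq v' hj.1 (P7.V4.le_cent_iff.2 ⟨mem_cent1_iff_conj.2 ?_, hj.2⟩))
    have h2 := conj_mem (le_norm_self _ hj.2) (mem_cent1_comm.1 (h.m.le_cent sS))
    rcases v.mem_iff.1 (conj_mem jM V4.t_mem) with e | e | e | e
    · exact absurd e (P4.conj_ne_one h.z1 j)
    · exact e
    · exact absurd (mem_cent1_comm.1 (e ▸ h2)) sc
    · rw [e, mul_mem_cancel_left (mem_cent1_comm.1 (h.m.le_cent sS))] at h2
      exact absurd (mem_cent1_comm.1 h2) sc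
  have PH := hP.trans (core_le _)
  have sP : ∀ u ∈ P, Commute (s * a) u → u = 1 := fun u hu e => mem_bot.1 (h.odd_cent_S
    (cP.odd_of_ne_two p2) ▸ mem_inf.2 ⟨hu, (h.replace sS sT' v'.ss).le_cent_S (mem_cent1_comm.1
      ((mul_mem_cancel_left (cent_le_cent1 hu hs)).1 (mem_cent1_comm.1 (mem_cent1.2 e))))
        (mem_cent1.2 e)⟩)
  have c5 : ((V2 t s : Set G) ∪ (s * a * ·) '' P).ncard ≤
      {j | j * j = 1 ∧ j ∈ 𝐂[s * a]}.ncard := by
    obtain ⟨g, hg⟩ := h.conj v'.s1 v'.ss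
    refine Set.ncard_le_ncard_of_injOn (fun x => g * x * g⁻¹) (fun x hx => ?_)
      fun x _ y _ e => by simpa using e
    rw [← hg, cent1_conj]
    rcases hx with hx | ⟨u, hu, rfl⟩
    · exact ⟨P4.conj_sq (v.sq hx) g, conj_mem_conj (V4.le_iff.2 ⟨self_mem_cent1 t,
        h.m.le_cent h.sS⟩ hx) g⟩
    · refine ⟨P4.conj_sq ?_ g, conj_mem_conj (mul_mem (h.m.le_cent sS) (PH hu)) g⟩
      rw [← mul_assoc, L.inverts_of_fpf v'.ss (MP (SM sS)) sP u hu, inv_mul_cancel]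
  rw [Set.ncard_union_eq (Set.disjoint_left.2 (by
    rintro _ hx ⟨u, hu, rfl⟩
    obtain ⟨b, rfl, ob⟩ := exists_gen cP
    have h2 := cent_comm.1 (hP.trans UV) hx
    rw [cent_zpowers, mul_mem_cancel_right (zpowers_le_of_mem (self_mem_cent1 b) hu)] at h2
    exact ne_bot_of_card_prime cP (zpowers_eq_bot.2 (sP b (mem_zpowers b)
      (mem_cent1.1 h2).symm)))), Set.ncard_image_of_injective _ (mul_right_injective _),
    ← Nat.card_coe_set_eq, ← Nat.card_coe_set_eq] at c5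
  have c6 := (Set.ncard_le_ncard c4).trans (Set.ncard_union_le _ _)
  have c7 := (Set.ncard_le_ncard c1).trans ((Set.ncard_union_le _ _).trans
    (Nat.add_le_add_right (Set.ncard_union_le _ _) _))
  rw [card_class, card_class, ncard_sharp, v.card, relIndex_top_right,
    ← relIndex_mul_index HM] at c7
  rw [← Nat.card_coe_set_eq (V2 t (s * a) : Set G)] at c6
  have e1 : Nat.card (V2 t s : Set G) = 4 := v.card
  have e2 : Nat.card (V2 t (s * a) : Set G) = 4 := v'.card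
  have e3 : 2 ≤ Nat.card (P : Set G) := cP.two_le
  have e4 : Nat.card (P : Set G) ≠ 2 := p2
  have e5 := Nat.pos_of_ne_zero (CH1.relIndex_ne_zero' 𝐂[s * a] 𝐍(V2 t s))
  have e6 : 3 ≤ (𝐂[t] : Subgroup G).relIndex 𝐍(V2 t s) := by
    have h2 : ¬ 2 ∣ (𝐂[t] : Subgroup G).relIndex 𝐍(V2 t s) := fun e =>
      (h.syl.of_le SM le_top).ndvd (e.trans (relIndex_dvd_of_le_left _ h.m.le_cent))
    have h3 : (𝐂[t] : Subgroup G).relIndex 𝐍(V2 t s) ≠ 1 := fun e =>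
      tri.not_commute v (mem_cent1.1 (relIndex_eq_one.1 e wM)).symm
    omega
  have e7 := Nat.mul_le_mul_right 𝐍(V2 t s).index e6
  have e8 := Nat.mul_le_mul_right ((𝐂[s * a] : Subgroup G).relIndex 𝐍(V2 t s))
    (show 3 ≤ {j | j * j = 1 ∧ j ∈ 𝐂[s * a] ∧ j ∉ 𝐍(V2 t s)}.ncard by omega)
  omega

theorem dih : ∃ (A : Subgroup G) (t s : G), P3.BSW A t s := by
  refine ⟨_, t, s, h.bsw hd fun P hP cP => by_contra fun h0 => ?_⟩
  obtain ⟨b, rfl, ob⟩ := exists_gen cP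
  have hS := h.m.le_cent.trans (h.H_norm hP)
  have h1 := (cent_or_inv (ob ▸ cP) (hS h.xS) (cent_le_cent1 (hP (mem_zpowers b))
    (h.zl_S (odd_core _) h.norm_U (mem_zpowers _)))).resolve_left (by rwa [← cent_zpowers])
  rcases cent_or_inv (ob ▸ cP) (hS h.sS) (h.ss ▸ one_mem _) with e | e
  · exact h.dih_false hd ih hn hP cP (by rwa [cent_zpowers])
  have sS := mul_mem h.sS h.xS
  have sT' : s * a ∉ zpowers a := by rw [mul_mem_cancel_right (mem_zpowers a)]; exact h.sx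
  refine (h.replace sS sT' (h.dih_out hd sS sT')).dih_false (h.m.swap hd).2 ih hn hP cP ?_
  rw [cent_zpowers, mem_cent1_iff_conj, show s * a * b * (s * a)⁻¹ = s * (a * b * a⁻¹) * s⁻¹ by
    group, h1, ← conj_inv, e, inv_inv]

end St

end Cfsg.Agent.H6.Cyc
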