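/-
More general lemmas: elements of order four, counting elements of order divisible by a prime.
-/
import Cfsg.Agent.H6.Cyc8

set_option autoImplicit false
set_option linter.unusedSectionVars false
set_option linter.style.haveILetI false

namespace Cfsg.Agent.H6.Cyc

open Subgroup Cfsg Cfsg.Agent Cfsg.Agent.FT
open Cfsg.Agent.P4 (odd_iff_not_dvd Max2)
open Cfsg.Agent.P5 (V4 Tri)
open Cfsg.Agent.P7 (V2)
open Cfsg.Agent.H2 (pPrimeCoreOf)
open scoped commutatorElement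

universe u

variable {G : Type u} [Group G] [Finite G]

theorem order_four {u t : G} (uu : u * u = t) (t1 : t ≠ 1) (tt : t * t = 1) : orderOf u = 4 :=
  orderOf_eq_prime_pow (p := 2) (n := 1) (by rwa [pow_one, pow_two, uu])
    (by rw [pow_succ, pow_mul, pow_one, pow_two, pow_two, uu, tt])

theorem rel_u {u : G} (h : orderOf u = 4) : (𝐂[u] : Subgroup G).relIndex 𝐍(zpowers u) ∣ 2 := by
  have h1 := H6.relIndex_centralizer_dvd_card_mulAut (le_refl 𝐍(zpowers u))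
  rwa [IsCyclic.card_mulAut, Nat.card_zpowers, h, cent_zpowers] at h1

theorem cyc2 {K : Subgroup G} (hK : IsCyclic K) {x y : G} (hx : x ∈ K) (hy : y ∈ K)
    (h : x * x = y * y) (h1 : x * x ≠ 1) (h2 : x * x * (x * x) = 1) : y ∈ zpowers x := by
  have hc : Commute x y := mem_cent.1 (isMulComm_iff_le_cent.1 (isMulComm_of_isCyclic hK) hy) x hx
  refine (mul_mem_cancel_left (inv_mem (mem_zpowers x))).1 ?_
  by_cases e : x⁻¹ * y = 1
  · exact e ▸ one_mem _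
  rw [P4.uniq_invol hK (mul_mem (inv_mem hx) hy) e (by
    rw [hc.inv_left.symm.mul_mul_mul_comm, ← mul_inv_rev, h, inv_mul_cancel]) (mul_mem hx hx) h1 h2]
  exact mul_mem (mem_zpowers x) (mem_zpowers x)

theorem mem_of_sq_odd {K : Subgroup G} {g : G} (h : g * g ∈ K) (ho : Odd (orderOf g)) : g ∈ K :=
  zpowers_le_of_mem (pow_two g ▸ h) (mem_zpowers_pow (Nat.coprime_two_left.2 ho))

theorem odd_ord {W : Subgroup G} (hW : Odd 𝐨(W)) {g : G} (hg : g ∈ W) : Odd (orderOf g) :=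
  hW.of_dvd_nat (orderOf_dvd_card_of_mem hg)

theorem sq_mem_cent_V {t s g : G} (v : V4 t s) (hg : g ∈ 𝐍(V2 t s)) (ht : g ∈ 𝐂[t]) :
    g * g ∈ 𝐂(V2 t s) := by
  refine P7.V4.le_cent_iff.2 ⟨mul_mem ht ht, ?_⟩
  have h1 := mem_cent1_iff_conj.1 ht
  rcases v.mem_iff.1 (conj_mem hg V4.s_mem) with e | e | e | e
  · exact absurd e (P4.conj_ne_one v.s1 g)
  · exact absurd (by simpa using h1.trans e.symm) v.ts
  · exact mul_mem (mem_cent1_iff_conj.2 e) (mem_cent1_iff_conj.2 e)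
  · rw [mem_cent1_iff_conj, show g * g * s * (g * g)⁻¹ = g * (g * s * g⁻¹) * g⁻¹ by
      simp only [mul_inv_rev, mul_assoc], e]
    exact Sw.third ⟨h1, e⟩ v

theorem exists_prime_le {x : G} {p : ℕ} (hp : p.Prime) (h : p ∣ orderOf x) :
    ∃ Y ≤ zpowers x, 𝐨(Y) = p := exists_le_card_eq_prime hp (by rwa [Nat.card_zpowers])

theorem conj_le_zpowers {x : G} {Y : Subgroup G} (h : Y ≤ zpowers x) (g : G) :
    Y ^ᵍ g ≤ zpowers (g * x * g⁻¹) := zpowers_conj x g ▸ conj_mono h g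

theorem ord_conj (x g : G) : orderOf (g * x * g⁻¹) = orderOf x := by
  rw [← MulAut.conj_apply, MulEquiv.orderOf_eq]

/-- Elements of order divisible by an odd prime make up a fraction at least `1 / r`. -/
theorem ZC.count (h : ZC G) {r : ℕ} (hr : r.Prime) (r2 : r ≠ 2) (hd : r ∣ Nat.card G) :
    Nat.card G ≤ r * {x : G | r ∣ orderOf x}.ncard := by
  obtain ⟨P, -, cP⟩ := exists_le_card_eq_prime hr (H := (⊤ : Subgroup G)) (by rwa [card_top])
  have h0 : ∀ x ∈ 𝐂(P), ∀ Y ≤ zpowers x, 𝐨(Y) = r → Y = P := fun x hx Y hY cY =>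
    h.eq_of_norm hr r2 (hY.trans ((zpowers_le_of_mem hx).trans (cent_le_norm P))) cY cP
  have h1 := H5.ncard_classSupp_mul (A := {x | x ∈ 𝐂(P) ∧ r ∣ orderOf x}) (X := ⊤) (L := 𝐍(P))
    le_top (fun g hg x hx => ⟨conj_mem (H1.normalizer_le_normalizer_centralizer P hg) hx.1,
      (ord_conj x g).symm ▸ hx.2⟩) fun g _ x hx hx' => by
    obtain ⟨Y, hY, cY⟩ := exists_prime_le hr hx.2
    obtain rfl := h0 x hx.1 Y hY cY
    exact conj_eq_self_iff.1 (h0 _ hx'.1 _ (conj_le_zpowers hY g) ((card_conj _ _).trans cY))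
  have h2 : (classSupp {x | x ∈ 𝐂(P) ∧ r ∣ orderOf x} ⊤).ncard ≤ {x : G | r ∣ orderOf x}.ncard :=
    Set.ncard_le_ncard (by rintro _ ⟨x, hx, g, -, rfl⟩; exact hx.2.trans (ord_conj x g).symm.dvd)
  have h3 := Nat.le_of_dvd (by have := hr.two_le; omega)
    (cP ▸ relIndex_cent_dvd_of_prime (cP ▸ hr) (le_refl 𝐍(P)))
  have PC := isMulComm_iff_le_cent.1 (isMulComm_of_isCyclic (isCyclic_of_card_prime (cP ▸ hr)))
  have h4 : ({x | x ∈ 𝐂(P) ∧ ¬ r ∣ orderOf x} ×ˢ (P : Set G)).ncard ≤ (𝐂(P) : Set G).ncard := by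
    refine Set.ncard_le_ncard_of_injOn (fun z => z.1 * z.2) (fun z hz => mul_mem hz.1.1 (PC hz.2))
      fun z hz y hy e => ?_
    have h5 : z.1 = y.1 * (y.2 * z.2⁻¹) := by 
      rw [← mul_assoc, ← (show z.1 * z.2 = y.1 * y.2 from e)]; group
    have h6 := mul_mem hy.2 (inv_mem hz.2)
    by_cases h7 : y.2 * z.2⁻¹ = 1
    · exact Prod.ext (by rw [h5, h7, mul_one]) (mul_inv_eq_one.1 h7).symm
    have h8 : orderOf (y.2 * z.2⁻¹) = r := by
      rw [← Nat.card_zpowers, zpowers_eq_of_card_prime (cP ▸ hr) h6 h7, cP]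
    refine absurd ?_ hz.1.2
    rw [h5, (show Commute y.1 _ from (mem_cent.1 hy.1.1 _ h6).symm).orderOf_mul_eq_mul_orderOf_of_coprime
      (h8 ▸ (hr.coprime_iff_not_dvd.2 hy.1.2).symm), h8]
    exact dvd_mul_left _ _
  have h5 : (𝐂(P) : Set G).ncard = {x | x ∈ 𝐂(P) ∧ r ∣ orderOf x}.ncard +
      {x | x ∈ 𝐂(P) ∧ ¬ r ∣ orderOf x}.ncard :=
    (Set.ncard_inter_add_ncard_sdiff_eq_ncard (𝐂(P) : Set G) {x | r ∣ orderOf x}).symm
  rw [Set.ncard_prod, ← Nat.card_coe_set_eq (P : Set G), show Nat.card (P : Set G) = r from cP] at h4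
  rw [← H1.card_mul_relIndex (cent_le_norm P), card_top] at h1
  rw [← Nat.card_coe_set_eq (𝐂(P) : Set G)] at h4 h5
  have h6 : 0 < 𝐨(𝐂(P)) := Nat.card_pos
  change 𝐨(𝐂(P)) = _ at h5
  change _ ≤ 𝐨(𝐂(P)) at h4
  obtain ⟨q, rfl⟩ : ∃ q, r = q + 2 := ⟨r - 2, by have := hr.two_le; omega⟩
  generalize 𝐨(𝐂(P)) = c at *
  generalize (𝐂(P)).relIndex 𝐍(P) = i at *
  generalize (classSupp {x | x ∈ 𝐂(P) ∧ (q + 2) ∣ orderOf x} ⊤).ncard = m at *
  generalize {x | x ∈ 𝐂(P) ∧ (q + 2) ∣ orderOf x}.ncard = α at *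
  have h7 : c * (q + 1) ≤ (q + 2) * α := by nlinarith
  have h8 : c * (q + 1) * Nat.card G ≤ c * (q + 1) * ((q + 2) * m) := by
    calc _ ≤ (q + 2) * α * Nat.card G := Nat.mul_le_mul_right _ h7
      _ = (q + 2) * (m * (c * i)) := by rw [h1]; ring
      _ ≤ (q + 2) * (m * (c * (q + 1))) := by gcongr; omega
      _ = _ := by ring
  exact (Nat.le_of_mul_le_mul_left h8 (by positivity)).trans (Nat.mul_le_mul_left _ h2)

namespace St

variable {S : Subgroup G} {a t s : G} (h : St S a t s)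
include h

theorem s_sq : s * (a * a) * s = (a * a)⁻¹ := by
  rw [show s * (a * a) * s = s * a * s * (s * a * s) by
    rw [mul_assoc (s * a) s, ← mul_assoc s (s * a), ← mul_assoc s s, h.ss]; group]
  rcases h.m.cases with e | e <;> rw [e]
  · group
  · rw [(h.ct h.xS).inv_right.mul_mul_mul_comm, h.zz]; group

theorem sq_of_out {j : G} (hj : s * j ∈ zpowers (a * a)) : j * j = 1 := by
  have h1 := h.m.inv_of h.s_sq _ hj
  rw [← mul_assoc, h.ss, one_mul, mul_inv_rev, h.m.s_inv, mul_left_inj] at h1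
  exact mul_eq_one_iff_eq_inv.2 h1

theorem not_le_cent1 {x : G} (h2 : IsPGroup 2 (zpowers x)) (xx : x * x ≠ 1) (g : G) :
    ¬ S ^ᵍ g ≤ 𝐂[x] := fun e => by
  have h1 := (h.syl.conj_of_mem_norm (g := g) (by rw [norm_top]; trivial)).le_of_norm
    Nat.prime_two h2 le_top ((cent_comm.1 (cent_zpowers x ▸ e)).trans (cent_le_norm _))
  have h3 : g⁻¹ * x * g ∈ 𝐂[s] := by
    rw [← mem_conj, ← cent1_conj]
    exact mem_cent1_comm.1 (e (conj_mem_conj h.sS g))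
  apply xx
  have h4 : g⁻¹ * x * g * (g⁻¹ * x * g) = 1 := by
    rcases h.cent_out h.sS h.sx (mem_conj.1 (h1 (mem_zpowers x))) (mem_cent1.1 h3) with
      e | e | e | e | e <;> rw [e]
    exacts [mul_one 1, h.zz, h.ss, by rw [h.m.s_inv, h.ss], h.v4.tsts]
  simpa [mul_assoc] using P4.conj_sq h4 g

theorem norm_u {u : G} (hu : u ∈ zpowers a) : S ≤ 𝐍(zpowers u) :=
  ((le_norm_self S).trans h.norm_T).trans
    (norm_le_norm_of_le_cyclic inferInstance (zpowers_le_of_mem hu))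

theorem syl_u {u : G} (hu : u ∈ zpowers a) (uu : u * u ≠ 1) : IsSyl 2 (zpowers a) 𝐂[u] :=
  h.syl_T (mem_cent1.2 (cT hu (mem_zpowers a)))
    (h.not_le_cent1 (h.syl.pgrp.to_le ((zpowers_le_of_mem hu).trans h.m.X_le)) uu)

theorem exists_u' (h4 : a * a * (a * a) ≠ 1) : ∃ u ∈ zpowers (a * a), u * u = t := by
  obtain ⟨k, hk⟩ := h.m.z_mem_zpowers (mul_mem h.xS h.xS) h4
  exact ⟨(a * a) ^ k, zpow_mem (mem_zpowers _) k, by rw [← hk, ← Commute.mul_zpow rfl]⟩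

theorem npc_V {x y : G} (v : V4 x y) : HasNPC 2 𝐂(V2 x y) :=
  burnside_npc Nat.prime_two (h.syl_four v) inf_le_left

theorem not_cent_u {u y : G} (hu : u ∈ zpowers a) (uu : u * u = t) (hy : y ∈ S)
    (hT : y ∉ zpowers a) : y ∉ 𝐂[u] := fun e => h.z1 (by
  have h1 := (h.sw_u hu uu hy hT).2
  rw [mem_cent1_iff_conj.1 (mem_cent1_comm.1 e)] at h1
  exact right_eq_mul.1 h1)

end St

end Cfsg.Agent.H6.Cyc
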