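/-
The centralizer of an involution is solvable: local analysis.
-/
import Cfsg.Agent.H6.Cyc9

set_option autoImplicit false
set_option linter.unusedSectionVars false
set_option linter.style.haveILetI false

namespace Cfsg.Agent.H6.Cyc

open Subgroup Cfsg Cfsg.Agent Cfsg.Agent.FT
open Cfsg.Agent.P4 (odd_iff_not_dvd Max2)
open Cfsg.Agent.P5 (V4 Tri)
open Cfsg.Agent.P7 (V2)
open Cfsg.Agent.H2 (pPrimeCoreOf)
open scoped commutatorElement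

universe u

variable {G : Type u} [Group G] [Finite G]

namespace St

variable {S : Subgroup G} {a t s : G} (h : St S a t s) {L : Subgroup G} {d r k l : ℕ}

section
variable (ns : NS 𝐂[t] L d r k l)
include h ns

theorem tC : t ∈ 𝐂(L) := mem_cent_iff_cent1.2 ns.nL.1

theorem tL : t ∈ L :=
  (ns.two _ (P4.isPGroup_zpowers_of_sq h.zz) (zpowers_le_of_mem (h.tC ns))).1 (mem_zpowers t)

theorem d2 : d = 2 := ns.d12.resolve_left fun e => h.z1 (zpowers_eq_bot.1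
  ((ns.two _ (P4.isPGroup_zpowers_of_sq h.zz) (zpowers_le_of_mem (h.tC ns))).2 e))

theorem eight : 8 ∣ 𝐨(L) := by
  obtain ⟨k', e⟩ := ns.ev
  exact ⟨r * k' * l, by rw [ns.card, h.d2 ns, e]; ring⟩

theorem out {j : G} (hj : j ∈ 𝐂[t]) (j1 : j ≠ 1) (jt : t ≠ j) (jj : j * j = 1) :
    j ∉ pPrimeCoreOf 2 𝐂[t] ⊔ L := fun e => by
  have v : V4 t j := ⟨h.z1, j1, jt, h.zz, jj, mem_cent1.1 hj⟩
  have h1 := ns.uniq (h.d2 ns) j (ns.two_le (P4.isPGroup_zpowers_of_sq jj) (zpowers_le_of_mem e)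
    (mem_zpowers j)) jj
  obtain ⟨R, hR⟩ := exists_isSyl Nat.prime_two L
  have h2 := FT.card_dvd_of_le (h.four v hR.pgrp (hR.le.trans (cent_comm.1
    (V4.le_iff.2 ⟨h.tC ns, h1⟩))))
  have h3 := h.eight ns
  rw [← H1.card_mul_relIndex hR.le] at h3
  exact absurd ((((Nat.prime_two.coprime_iff_not_dvd.2 hR.ndvd).pow_left 3).dvd_of_dvd_mul_right
    h3).trans (v.card ▸ h2)) (by norm_num)

theorem s_out : s ∉ pPrimeCoreOf 2 𝐂[t] ⊔ L := h.out ns (h.m.le_cent h.sS) h.v4.s1 h.v4.ts h.ss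

theorem idx2 : (pPrimeCoreOf 2 𝐂[t] ⊔ L).relIndex 𝐂[t] = 2 :=
  ((Nat.dvd_prime Nat.prime_two).1 ns.idx).resolve_left fun e =>
    h.s_out ns (relIndex_eq_one.1 e (h.m.le_cent h.sS))

theorem memL {g : G} (hg : g ∈ S) (e : g ∈ pPrimeCoreOf 2 𝐂[t] ⊔ L) : g ∈ L :=
  ns.two_le (h.syl.pgrp.to_le (zpowers_le_of_mem hg)) (zpowers_le_of_mem e) (mem_zpowers g)

theorem a_out : a ∉ pPrimeCoreOf 2 𝐂[t] ⊔ L := fun e => by
  have h1 := zpowers_le_of_mem (h.memL ns h.xS e)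
  refine ns.not_solv le_rfl (solv_of_npc (npc_cyc (h.syl_H.inf_normal Nat.prime_two ns.nL)
    (FT.isCyclic_of_le (K := zpowers a) (fun g hg => (h.cover g hg.1).resolve_right fun e =>
      h.s_out ns (mem_sup_right ((mul_mem_cancel_right (mem_inf.1 hg).2).1 (h1 e)))) inferInstance)))

theorem mulM {x y : G} (hx : x ∈ 𝐂[t]) (hy : y ∈ 𝐂[t]) : x * y ∈ pPrimeCoreOf 2 𝐂[t] ⊔ L ↔
    (x ∈ pPrimeCoreOf 2 𝐂[t] ⊔ L ↔ y ∈ pPrimeCoreOf 2 𝐂[t] ⊔ L) := mul2 (h.idx2 ns) hx hy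

theorem sqL : zpowers (a * a) ≤ L := zpowers_le_of_mem (h.memL ns (mul_mem h.xS h.xS)
  ((h.mulM ns (h.m.le_cent h.xS) (h.m.le_cent h.xS)).2 Iff.rfl))

theorem a4 : a * a * (a * a) ≠ 1 := fun e => by
  have h1 : 16 ∣ 𝐨(S) * S.relIndex 𝐂[t] := by
    rw [H1.card_mul_relIndex h.m.le_cent, ← H1.card_mul_relIndex ns.nM.1, h.idx2 ns]
    exact mul_dvd_mul_right ((h.eight ns).trans (FT.card_dvd_of_le le_sup_right)) 2
  have h2 := ((Nat.prime_two.coprime_iff_not_dvd.2 h.syl_H.ndvd).pow_left 4).dvd_of_dvd_mul_right h1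
  rw [h.m.card] at h2
  exact absurd (h2.trans (mul_dvd_mul_left 2 (orderOf_dvd_of_pow_eq_one (n := 4) (by
    simpa only [pow_succ, pow_zero, one_mul, mul_assoc] using e)))) (by norm_num)

theorem exists_b : ∃ j, St S a t j ∧ ∃ b ∈ L, (orderOf b).Prime ∧ orderOf b ∣ l ∧
    (3 ∣ l → orderOf b = 3) ∧ b ∈ 𝐂[j] := by
  obtain ⟨j, hj, j1, j2, b, hb, bp, bl, b3, e⟩ := h.lemO ns h.m.le_cent (h.idx2 ns) fun g hg hT => by
    rcases h.sq_out hg hT with e | e <;> rw [e]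
    exacts [one_mem _, h.tC ns]
  obtain ⟨c, hc, h1⟩ := h.syl_H.exists_conj_le Nat.prime_two j2 (zpowers_le_of_mem hj)
  replace h1 := h1 (conj_mem_conj (mem_zpowers j) c)
  rw [mem_normalizer_iff.1 (ns.nM.2 hc) j] at j1
  replace hb := conj_mem (ns.nL.2 hc) hb
  replace e := P5.commute_cj c e
  rw [← ord_conj b c] at bp bl b3
  generalize c * j * c⁻¹ = j at h1 j1 e
  generalize c * b * c⁻¹ = b at hb bp bl b3 e
  have h3 : j ∉ zpowers a := fun hT => by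
    have h4 := orderOf_dvd_card_of_mem (mem_inf.2 ⟨h.memL ns (mul_mem h1 h1) ((h.mulM ns
      (h.m.le_cent h1) (h.m.le_cent h1)).2 Iff.rfl), mem_cent1.2 (e.mul_right e)⟩)
    rw [ns.ls.cent_l hb (fun e => bp.one_lt.ne (by rw [e, orderOf_one])) bl, h.d2 ns] at h4
    have h5 := orderOf_dvd_iff_pow_eq_one.1 ((coprime_ord Nat.prime_two h.syl.pgrp (mul_mem h1 h1)
      (Nat.coprime_two_right.2 ns.ls.odd_l)).symm.dvd_of_dvd_mul_right h4)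
    obtain ⟨m, hm⟩ := (mem_sq_or a hT).resolve_left fun e => j1 (mem_sup_right (h.sqL ns e))
    replace hm : (a * a) ^ m = _ := hm
    refine h.a4 ns (eq_one_of_zpow_odd h.syl.pgrp (mul_mem (mul_mem h.xS h.xS) (mul_mem h.xS h.xS))
      (n := 2 * m - 1) ⟨m - 1, by ring⟩ ?_)
    have e : a ^ (2 * m - 1) = j := by
      rw [← inv_mul_cancel_left a j, ← hm, ← pow_two, ← zpow_natCast, ← zpow_mul]
      group
    rw [Commute.mul_zpow rfl, Commute.mul_zpow rfl, e, ← pow_two, h5]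
  have h4 := (h.cover j h1).resolve_left h3
  refine ⟨j, h.replace h1 h3 (h.sq_of_out ((mem_sq_or a h4).resolve_right fun e => h.a_out ns ?_)),
    b, hb, bp, bl, b3, mem_cent1.2 e.symm⟩
  exact (mul_mem_cancel_right ((h.mulM ns (h.m.le_cent h.sS) (h.m.le_cent h1)).2
    (iff_of_false (h.s_out ns) j1))).1 (mem_sup_right (h.sqL ns e))

theorem CX_s {x : G} (hx : x ∈ pPrimeCoreOf 2 𝐂[t]) (hs : x ∈ 𝐂[s]) : x = 1 := by
  refine mem_bot.1 (h.odd_cent_S (odd_core 𝐂[t]) ▸ mem_inf.2 ⟨hx, mem_cent_iff_cent1.2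
    fun g hg => ?_⟩)
  have h1 := mem_cent_iff_cent1.1 (ns.XC hx)
  by_cases e : g ∈ pPrimeCoreOf 2 𝐂[t] ⊔ L
  · exact h1 (h.memL ns hg e)
  · exact (mul_mem_cancel_left (mem_cent1_comm.1 hs)).1 (h1 (h.memL ns (mul_mem h.sS hg)
      ((h.mulM ns (h.m.le_cent h.sS) (h.m.le_cent hg)).2 (iff_of_false (h.s_out ns) e))))

theorem B_le : pPrimeCoreOf 2 𝐂(V2 t s) ≤ L := fun β hβ => by
  obtain ⟨h1, h2⟩ := P7.V4.le_cent_iff.1 (core_le _ hβ)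
  obtain ⟨x, hx, y, hy, rfl⟩ := (mem_sup_of_norm (ns.nL.1.trans (pPrimeCoreOf_normal 2 _).2)).1
    (mem_of_sq_odd ((h.mulM ns h1 h1).2 Iff.rfl) (odd_ord (odd_core _) hβ))
  have h3 := pow_mem h2 𝐨(L)
  rw [(show Commute x y from (mem_cent.1 (ns.XC hx) y hy).symm).mul_pow, P5.pow_card_of_mem hy,
    mul_one] at h3
  rwa [h.CX_s ns hx (zpowers_le_of_mem h3 (mem_zpowers_pow
    (ns.cop.symm.coprime_dvd_right (orderOf_dvd_card_of_mem hx)))), one_mul]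

theorem B_cyc : IsCyclic (pPrimeCoreOf 2 𝐂(V2 t s)) := by
  have hB := odd_core (G := G) 𝐂(V2 t s)
  have h1 := h.B_le ns
  have h2 := core_le 𝐂(V2 t s)
  generalize pPrimeCoreOf 2 𝐂(V2 t s) = B at hB h1 h2
  by_cases h0 : fittingOf B = ⊥
  · have := cent_fittingOf_le (P4.solvable_of_odd hB)
    rw [h0, cent_bot, inf_top_eq, le_bot_iff] at this
    rw [this]; infer_instance
  obtain ⟨P, hP, cP⟩ := exists_le_card_prime h0
  obtain ⟨c, rfl, oc⟩ := exists_gen cP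
  have h3 := (fittingOf_normal B).2.trans (norm_le_norm_of_le_cyclic (h.zc.cyc_fit hB) hP)
  have h4 := hP.trans (fittingOf_normal B).1
  have h5 := h4 (mem_zpowers c)
  obtain ⟨h6, -, -, h7⟩ := ns.cent c (h1 h5) (fun e => zpowers_ne_bot.1 (ne_bot_of_card_prime cP)
    (P5.eq_one_of_odd hB h5 e)) fun e => h.s_out ns (by
      have h8 := (ns.unip _ (h4.trans h1) ((Nat.prime_dvd_prime_iff_eq ns.rp cP).1
        (oc ▸ e)).symm).2.2 (mem_inf.2 ⟨ns.nL.2 (h.m.le_cent h.sS),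
          cent_comm.1 (h4.trans h2) V4.s_mem⟩)
      obtain ⟨z, hz, p, hp, e⟩ := (H1.mem_sup_iff_of_le_normalizer' ((h4.trans h1).trans
        (ns.nL.1.trans ns.nC))).1 h8
      rw [← e]
      exact mul_mem (ns.CX ⟨(mul_mem_cancel_right (ns.nL.1 (h1 (h4 hp)))).1
        (e ▸ h.m.le_cent h.sS), hz⟩) (mem_sup_right (h1 (h4 hp))))
  refine isCyclic_of_le (fun g hg => mem_inf.2 ⟨h1 hg, ?_⟩) h6
  rcases h7 g (h1 hg) (zpowers_le_of_mem (self_mem_cent1 c) (conj_mem (h3 hg) (mem_zpowers c)))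
    with e | e
  · exact mem_cent1_iff_conj.2 e
  · refine mem_of_sq_odd (mem_cent1_iff_conj.2 ?_) (odd_ord hB hg)
    rw [show g * g * c * (g * g)⁻¹ = g * (g * c * g⁻¹) * g⁻¹ by simp only [mul_inv_rev, mul_assoc],
      e, ← conj_inv, e, inv_inv]

omit ns in
theorem mem_B {c : G} (ht : c ∈ 𝐂[t]) (hs : c ∈ 𝐂[s]) (ho : Odd (orderOf c)) :
    c ∈ pPrimeCoreOf 2 𝐂(V2 t s) := le_core (h.npc_V h.v4) (zpowers_le_of_mem
      (P7.V4.le_cent_iff.2 ⟨ht, hs⟩)) (by rwa [Nat.card_zpowers]) (mem_zpowers c)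

end

variable (ns : NS 𝐂[t] L 2 r k l) {b : G} (hb : b ∈ L) (bp : (orderOf b).Prime)
  (bl : orderOf b ∣ l) (bs : b ∈ 𝐂[s])
include h ns hb bp bl bs

theorem b_mem : b ∈ pPrimeCoreOf 2 𝐂(V2 t s) :=
  h.mem_B (ns.nL.1 hb) bs (ns.ls.odd_l.of_dvd_nat bl)

theorem card_Lb : 𝐨((L ⊓ 𝐂[b] : Subgroup G)) = 2 * l :=
  ns.ls.cent_l hb (fun e => bp.one_lt.ne (by rw [e, orderOf_one])) bl

theorem B_cent : pPrimeCoreOf 2 𝐂(V2 t s) ≤ 𝐂[b] :=
  (isMulComm_iff_le_cent.1 (isMulComm_of_isCyclic (h.B_cyc ns))).trans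
    (cent_le_cent1 (h.b_mem ns hb bp bl bs))

theorem B_dvd : 𝐨(pPrimeCoreOf 2 𝐂(V2 t s)) ∣ l :=
  (Nat.coprime_two_right.2 (odd_core _)).dvd_of_dvd_mul_left (h.card_Lb ns hb bp bl bs ▸
    FT.card_dvd_of_le (le_inf (h.B_le ns) (h.B_cent ns hb bp bl bs)))

variable {u : G} (hu : u ∈ zpowers (a * a)) (uu : u * u = t)
include hu uu

omit hb bp bl bs in
theorem card_Lu : 𝐨((L ⊓ 𝐂[u] : Subgroup G)) = 2 * k :=
  ns.ls.cent_k (h.sqL ns hu) (uu ▸ h.z1) (order_four uu h.z1 h.zz ▸ mul_dvd_mul_left 2 ns.ev)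

omit hb bp bl bs in
theorem norm_P {P : Subgroup G} (hP : P ≤ L ⊓ 𝐂[u]) : S ≤ 𝐍(P) := by
  refine (H1.le_normalizer_inf (h.m.le_cent.trans ns.nL.2) ?_).trans (norm_le_norm_of_le_cyclic
    (ns.cyc (h.sqL ns hu) (Or.inr (order_four uu h.z1 h.zz))) hP)
  rw [← cent_zpowers]
  exact H1.le_normalizer_centralizer (h.norm_u (zpowers_le_of_mem
    (mul_mem (mem_zpowers a) (mem_zpowers a)) hu))

omit hb bp bl bs in
theorem cent_c {c : G} (hc : c ∈ L ⊓ 𝐂[u]) (c1 : c ≠ 1) (ho : Odd (orderOf c)) :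
    c * c ≠ 1 ∧ orderOf c ∣ 2 * k ∧ L ⊓ 𝐂[c] ≤ 𝐂[u] := by
  have h1 : c * c ≠ 1 := fun e => c1 (P5.eq_one_of_odd (U := zpowers c)
    (by rwa [Nat.card_zpowers]) (mem_zpowers c) e)
  have h2 := h.card_Lu ns hu uu ▸ orderOf_dvd_card_of_mem hc
  exact ⟨h1, h2, (isMulComm_iff_le_cent.1 (isMulComm_of_isCyclic (ns.cent c hc.1 h1
    (ns.ls.not_r (h2.mul_right _))).1)).trans
      (cent_le_cent1 (mem_inf.2 ⟨h.sqL ns hu, mem_cent1_comm.1 hc.2⟩))⟩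

theorem a_cent {P : Subgroup G} (hP : P ≤ L ⊓ 𝐂[u]) (cP : 𝐨(P).Prime) (p2 : 𝐨(P) ≠ 2) :
    a ∈ 𝐂(P) := by
  have hS := h.norm_P ns hu uu hP
  obtain ⟨c, rfl, oc⟩ := exists_gen cP
  have hc := hP (mem_zpowers c)
  have ho : Odd (orderOf c) := oc ▸ cP.odd_of_ne_two p2
  have uT := zpowers_le_of_mem (mul_mem (mem_zpowers a) (mem_zpowers a)) hu
  obtain ⟨h1, h2, h3⟩ := h.cent_c ns hu uu hc (zpowers_ne_bot.1 (ne_bot_of_card_prime cP)) ho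
  have sS := mul_mem h.sS h.xS
  have h4 := h.memL ns sS ((h.mulM ns (h.m.le_cent h.sS) (h.m.le_cent h.xS)).2
    (iff_of_false (h.s_out ns) (h.a_out ns)))
  have h5 := ((ns.cent c hc.1 h1 (ns.ls.not_r (h2.mul_right _))).2.2.2 _ h4 (zpowers_le_of_mem
    (self_mem_cent1 c) (conj_mem (hS sS) (mem_zpowers c)))).resolve_left fun e => h.not_cent_u uT uu
      sS (by rw [mul_mem_cancel_right (mem_zpowers a)]; exact h.sx) (h3 ⟨h4, mem_cent1_iff_conj.2 e⟩)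
  rw [cent_zpowers]
  refine (cent_or_inv (oc ▸ cP) (hS h.xS) (cent_le_cent1 hc (isMulComm_iff_le_cent.1
    (isMulComm_of_isCyclic (ns.cyc (h.sqL ns hu) (Or.inr (order_four uu h.z1 h.zz))))
      (mem_inf.2 ⟨h.sqL ns (mem_zpowers _), mem_cent1.2 (cT uT (mul_mem (mem_zpowers a)
        (mem_zpowers a)))⟩)))).resolve_right fun e => ?_
  rw [show s * a * c * (s * a)⁻¹ = s * (a * c * a⁻¹) * s⁻¹ by group, e, ← conj_inv, inv_inj] at h5
  have h6 := (orderOf_dvd_card_of_mem (h.mem_B (ns.nL.1 hc.1) (mem_cent1_comm.1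
    (mem_cent1_iff_conj.2 h5)) ho)).trans (h.B_dvd ns hb bp bl bs)
  exact cP.one_lt.ne' (oc ▸ Nat.eq_one_of_dvd_coprimes (ns.ls.cop_dl.mul_left ns.ls.cop_kl) h2 h6)

theorem three_l : 3 ∣ l := ns.ls.three.resolve_left fun k3 => by
  have y2 : orderOf b ≠ 2 := fun e => odd_iff_not_dvd.1 ns.ls.odd_l (e ▸ bl)
  obtain ⟨w, hw, tri⟩ := h.exists_tri h.v4 bp y2 (Nat.card_zpowers b)
    (zpowers_le_of_mem (P7.V4.le_cent_iff.2 ⟨ns.nL.1 hb, bs⟩))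
  obtain ⟨Y, hY, cY⟩ := exists_prime_le Nat.prime_three (three_dvd_of_tri tri h.v4)
  obtain ⟨P, hP, cP⟩ := exists_le_card_eq_prime Nat.prime_three
    (h.card_Lu ns hu uu ▸ k3.mul_left 2)
  obtain ⟨g, -, rfl⟩ := h.zc.conj_prime Nat.prime_three (by norm_num) le_top le_top cY cP
  have p3 : 𝐨(Y ^ᵍ g).Prime := cP ▸ Nat.prime_three
  have p2 : 𝐨(Y ^ᵍ g) ≠ 2 := by omega
  have h1 : g * b * g⁻¹ ∈ 𝐂(Y ^ᵍ g) := by
    rw [cent_conj]
    exact conj_mem_conj (cent_comm.1 (hY.trans (zpowers_le_of_mem hw)) (mem_zpowers b)) g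
  have h2 := ns.prime_le h.zc bp y2 (zpowers_le_of_mem (h.cent_le p3 p2 (h.norm_P ns hu uu hP)
    (h.a_cent ns hb bp bl bs hu uu hP p3 p2) h1)) (by rw [Nat.card_zpowers, ord_conj])
    (orderOf_dvd_card_of_mem hb) (mem_zpowers _)
  obtain ⟨c, e, oc⟩ := exists_gen p3
  have h3 := (h.cent_c ns hu uu (hP (e ▸ mem_zpowers c)) (zpowers_ne_bot.1 (e ▸
    ne_bot_of_card_prime p3)) (oc ▸ p3.odd_of_ne_two p2)).2.2 ⟨h2, by rwa [← cent_zpowers, e]⟩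
  have h4 := h.card_Lu ns hu uu ▸ orderOf_dvd_card_of_mem (mem_inf.2 ⟨h2, h3⟩)
  rw [ord_conj] at h4
  exact bp.one_lt.ne' (Nat.eq_one_of_dvd_coprimes (ns.ls.cop_dl.mul_left ns.ls.cop_kl) h4 bl)

end St

end Cfsg.Agent.H6.Cyc
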