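/-
The centralizer of an involution is solvable: counting.
-/
import Cfsg.Agent.H6.Cyc10

set_option autoImplicit false
set_option linter.unusedSectionVars false
set_option linter.style.haveILetI false

namespace Cfsg.Agent.H6.Cyc

open Subgroup Cfsg Cfsg.Agent Cfsg.Agent.FT
open Cfsg.Agent.P4 (odd_iff_not_dvd Max2)
open Cfsg.Agent.P5 (V4 Tri)
open Cfsg.Agent.P7 (V2)
open Cfsg.Agent.H2 (pPrimeCoreOf)
open scoped commutatorElement

universe u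

variable {G : Type u} [Group G] [Finite G]

theorem ti_count {A : Set G} {N K D : Subgroup G} (hA : A = (K : Set G) \ D) (hD : D ≤ K) (hK : K ≤ N)
    (h2 : K.relIndex N ∣ 2) (hn : N ≤ 𝐍(K)) (hn' : N ≤ 𝐍(D))
    (ti : ∀ g, ∀ x ∈ A, g * x * g⁻¹ ∈ A → g ∈ N) :
    𝐨(K) * Nat.card G ≤ (classSupp A ⊤).ncard * (𝐨(K) * 2) + 𝐨(D) * Nat.card G := by
  have h1 := H5.ncard_classSupp_mul (A := A) (X := ⊤) (L := N) le_top (fun g hg x hx => by
    rw [hA] at hx ⊢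
    exact ⟨conj_mem (hn hg) hx.1, mt (mem_normalizer_iff.1 (hn' hg) x).2 hx.2⟩) fun g _ => ti g
  have h3 := Set.ncard_sdiff_add_ncard_of_subset (show (D : Set G) ⊆ K from hD)
  rw [← hA, ← Nat.card_coe_set_eq (D : Set G), ← Nat.card_coe_set_eq (K : Set G)] at h3
  change _ + 𝐨(D) = 𝐨(K) at h3
  rw [card_top, ← H1.card_mul_relIndex hK] at h1
  nth_rewrite 1 [← h3]
  rw [add_mul, ← h1]
  gcongr
  exact Nat.le_of_dvd two_pos h2

theorem exists_odd_prime {x : G} (h : ¬ IsPGroup 2 (zpowers x)) :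
    ∃ p : ℕ, p.Prime ∧ p ≠ 2 ∧ p ∣ orderOf x := by
  by_contra! h0
  refine h ((isPi_singleton_iff Nat.prime_two).1 (isPi_iff_piOf_subset.2 fun p hp => ?_))
  by_contra h1
  exact h0 p hp.1 h1 (Nat.card_zpowers x ▸ hp.2)

theorem count_arith {g n1 n2 n3 r k l : ℕ} (h0 : 0 < g) (hk : 2 ≤ k)
    (e : (r = 2 * k + 1 ∧ l = k + 1) ∨ (r + 1 = 2 * k ∧ l + 1 = k))
    (h1 : 4 * k * g ≤ n1 * (4 * k * 2) + 2 * g) (h2 : 12 * l * g ≤ n2 * (12 * l * 2) + 4 * g)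
    (h3 : g ≤ r * n3) (h : n1 + n2 + n3 ≤ g) : False := by
  have h4 : 6 * l * r + 4 * k * r < 24 * k * l := by
    rcases e with ⟨rfl, rfl⟩ | ⟨e, rfl⟩
    · nlinarith
    · obtain rfl : r = 2 * l + 1 := by omega
      nlinarith
  have h5 := Nat.mul_lt_mul_of_pos_right h4 h0
  have a1 := Nat.mul_le_mul_left (3 * l * r) h1
  have a2 := Nat.mul_le_mul_left (k * r) h2
  have a3 := Nat.mul_le_mul_left (24 * k * l) h3
  have a4 := Nat.mul_le_mul_left (24 * k * l * r) h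
  nlinarith

namespace St

variable {S : Subgroup G} {a t s : G} (h : St S a t s) {L : Subgroup G} {r k l : ℕ}
  {n : ℕ} (ih : IH.{u} n) (hn : Nat.card G ≤ n) (ns : NS 𝐂[t] L 2 r k l) {b : G} (hb : b ∈ L)
  (b3 : orderOf b = 3) (bl : 3 ∣ l) (bs : b ∈ 𝐂[s])
include h ih hn ns hb b3 bl bs

theorem norm_Y {Y : Subgroup G} (hY : Y ≤ pPrimeCoreOf 2 𝐂(V2 t s)) (cY : 𝐨(Y).Prime) :
    𝐍(Y) = 𝐍(V2 t s) := by
  have bp := b3 ▸ Nat.prime_three
  have h1 : 𝐍(V2 t s) ≤ 𝐍(Y) := (H1.normalizer_le_normalizer_centralizer _).trans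
    ((norm_core _).trans (norm_le_norm_of_le_cyclic (h.B_cyc ns) hY))
  refine le_antisymm ?_ h1
  obtain ⟨w, -, tri⟩ := h.exists_tri h.v4 cY (ne_two_of_le hY (odd_core _)) rfl
    (hY.trans (core_le _))
  have hw := h1 (tri.mem_norm h.v4)
  have ht := h1 (le_norm_self _ V4.t_mem)
  rcases h.solv_or ih hn cY with hs | ⟨L', d', r', k', l', ns'⟩
  · exact h.sol h.v4 tri hs ht hw
  have h2 := h.b_mem ns hb bp (b3 ▸ bl) bs
  have h3 := ns'.prime_le h.zc Nat.prime_three (by norm_num) (zpowers_le_of_mem (h1 (cent_le_norm _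
    (core_le _ h2)))) (by rw [Nat.card_zpowers, b3]) ns'.three (mem_zpowers b)
  exact absurd (FT.isCyclic_of_le (le_inf (ns'.two_der (mem_der_of_tri tri h.v4 hw ht)
    h.v4.isPGroup) (mem_cent_iff_cent1.1 (core_le _ h2))) (ns'.cyc h3 (Or.inl b3)))
    (P7.V4.not_isCyclic h.v4)

theorem cent_b : 𝐂[b] ≤ 𝐍(V2 t s) := by
  rw [← h.norm_Y ih hn ns hb b3 bl bs (zpowers_le_of_mem (h.b_mem ns hb (b3 ▸ Nat.prime_three)
    (b3 ▸ bl) bs)) (by rw [Nat.card_zpowers, b3]; exact Nat.prime_three), ← cent_zpowers]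
  exact cent_le_norm _

theorem X_bot : pPrimeCoreOf 2 𝐂[t] = ⊥ := eq_bot_iff.2 fun x hx => h.CX_s ns hx
  (P7.V4.le_cent_iff.1 (mem_of_sq_odd (sq_mem_cent_V h.v4 (h.cent_b ih hn ns hb b3 bl bs
    (cent_le_cent1 hb (ns.XC hx))) (core_le _ hx)) (odd_ord (odd_core _) hx))).2

theorem idxL : L.relIndex 𝐂[t] = 2 := by
  simpa [h.X_bot ih hn ns hb b3 bl bs] using h.idx2 ns

theorem card_two {K : Subgroup G} (hK : K ≤ 𝐂[t]) {g : G} (hg : g ∈ K)
    (h1 : g ∉ pPrimeCoreOf 2 𝐂[t] ⊔ L) : 𝐨(K) = 𝐨((L ⊓ K : Subgroup G)) * 2 := by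
  rw [← H1.card_inf_mul_relIndex L K, rel2 (h.idxL ih hn ns hb b3 bl bs) hK
    fun e => h1 (mem_sup_right (e hg))]

theorem count2 : ∃ A : Set G, (∀ x ∈ classSupp A ⊤, orderOf x ∣ 12 * l ∧
    ∃ p : ℕ, p.Prime ∧ p ∣ l ∧ p ∣ orderOf x) ∧
    12 * l * Nat.card G ≤ (classSupp A ⊤).ncard * (12 * l * 2) + 4 * Nat.card G := by
  have bp := b3 ▸ Nat.prime_three
  have v := h.v4
  have hM := h.cent_b ih hn ns hb b3 bl bs
  have hB := h.b_mem ns hb bp (b3 ▸ bl) bs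
  have hV : V2 t s ≤ 𝐂[b] := mem_cent_iff_cent1.1 (core_le _ hB)
  have cL := h.card_Lb ns hb bp (b3 ▸ bl) bs
  have c1 : 𝐨((𝐂[t] ⊓ 𝐂[b] : Subgroup G)) = 4 * l := by
    rw [h.card_two ih hn ns hb b3 bl bs inf_le_left (g := s) ⟨h.m.le_cent h.sS, hV V4.s_mem⟩
      (h.s_out ns), ← inf_assoc, inf_eq_left.2 ns.nL.1, cL]
    ring
  have sd := (h.npc_V v).sdProd Nat.prime_two (h.syl_four v)
  have c2 : L ⊓ 𝐂[b] ≤ 𝐂(V2 t s) := fun g hg => by
    have h1 := sq_mem_cent_V v (hM hg.2) (ns.nL.1 hg.1)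
    have h2 : g ^ l ∈ 𝐂(V2 t s) := by
      by_cases e : g ^ l = 1
      · exact e ▸ one_mem _
      by_cases e' : t = g ^ l
      · exact e' ▸ sd.le_right V4.t_mem
      refine absurd (mem_sup_right (pow_mem hg.1 l)) (h.out ns (ns.nL.1 (pow_mem hg.1 l)) e e' ?_)
      rw [← pow_add, ← two_mul, ← cL, P5.pow_card_of_mem hg]
    obtain ⟨m, rfl⟩ := ns.ls.odd_l
    rwa [pow_succ, pow_mul, pow_two, mul_mem_cancel_left (pow_mem h1 m)] at h2
  have c3 : l ∣ 𝐨(pPrimeCoreOf 2 𝐂(V2 t s)) := by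
    have h1 := FT.card_dvd_of_le c2
    rw [cL, sd.card, v.card] at h1
    exact ((Nat.coprime_two_right.2 ns.ls.odd_l).pow_right 2).dvd_of_dvd_mul_right
      ((dvd_mul_left l 2).trans h1)
  obtain ⟨w, hw, tri⟩ := h.exists_tri v bp (by omega) (Nat.card_zpowers b)
    (zpowers_le_of_mem (core_le _ hB))
  rw [cent_zpowers] at hw
  have c4 : 𝐨(𝐂[b]) = 12 * l := by
    rw [← H1.card_inf_mul_relIndex 𝐂[t] 𝐂[b], c1, ← card_class, show classSupp {t} 𝐂[b] =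
      sharp (V2 t s) from Set.ext fun x => ?_, ncard_sharp, v.card]
    · ring
    rw [CH1.mem_class]
    refine ⟨?_, fun hx => (tri.exists_conj v hx.1 hx.2).imp fun g e =>
      ⟨zpowers_le_of_mem hw e.1, e.2⟩⟩
    rintro ⟨g, hg, rfl⟩
    exact ⟨conj_mem (hM hg) V4.t_mem, P4.conj_ne_one h.z1 g⟩
  have c5 : IsSyl 2 (V2 t s) 𝐂[b] := ⟨hV, v.isPGroup, by
    have h1 := H1.card_mul_relIndex hV
    rw [c4, v.card] at h1
    have := Nat.odd_iff.1 ns.ls.odd_l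
    omega⟩
  have c6 : ∀ x ∈ (𝐂[b] : Set G) \ V2 t s, ∃ p : ℕ, p.Prime ∧ p ≠ 2 ∧ p ∣ l ∧ p ∣ orderOf x :=
    fun x hx => by
    obtain ⟨p, hp, p2, hd⟩ := exists_odd_prime fun e => hx.2 (c5.le_of_normal Nat.prime_two hM e
      (zpowers_le_of_mem hx.1) (mem_zpowers x))
    refine ⟨p, hp, p2, ?_, hd⟩
    have h1 : p ∣ 2 ^ 2 * (3 * l) := by
      rw [← mul_assoc, ← show 12 = 2 ^ 2 * 3 by norm_num, ← c4]
      exact hd.trans (orderOf_dvd_card_of_mem hx.1)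
    rcases (hp.dvd_mul).1 ((((Nat.coprime_primes hp Nat.prime_two).2 p2).pow_right
      2).dvd_of_dvd_mul_left h1) with e | e
    exacts [e.trans bl, e]
  have c7 := h.norm_Y ih hn ns hb b3 bl bs (zpowers_le_of_mem hB) (by rwa [Nat.card_zpowers])
  refine ⟨(𝐂[b] : Set G) \ V2 t s, ?_, ?_⟩
  · rintro _ ⟨x, hx, g, -, rfl⟩
    obtain ⟨p, hp, -, h1, h2⟩ := c6 x hx
    rw [ord_conj]
    exact ⟨c4 ▸ orderOf_dvd_card_of_mem hx.1, p, hp, h1, h2⟩
  rw [← c4, ← v.card]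
  refine ti_count rfl hV hM ?_ ?_ le_rfl fun g x hx hx' => ?_
  · have h1 := relIndex_cent_dvd_of_prime (C := zpowers b) (by rwa [Nat.card_zpowers]) c7.ge
    rwa [Nat.card_zpowers, b3, cent_zpowers] at h1
  · rw [← cent_zpowers]
    exact H1.le_normalizer_centralizer c7.ge
  obtain ⟨p, hp, p2, h1, h2⟩ := c6 x hx
  obtain ⟨Y, hY, cY⟩ := exists_le_card_eq_prime hp (h1.trans c3)
  obtain ⟨Z, hZ, cZ⟩ := exists_prime_le hp h2
  have h3 := h.norm_Y ih hn ns hb b3 bl bs hY (cY ▸ hp)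
  obtain rfl := h.zc.eq_of_norm hp p2 (hZ.trans (zpowers_le_of_mem (h3.ge (hM hx.1)))) cZ cY
  exact h3.le (conj_eq_self_iff.1 (h.zc.eq_of_norm hp p2 ((conj_le_zpowers hZ g).trans
    (zpowers_le_of_mem (h3.ge (hM hx'.1)))) ((card_conj _ _).trans cZ) cY))

theorem count1 : ∃ A : Set G, (∀ x ∈ classSupp A ⊤, orderOf x ∣ 4 * k) ∧
    4 * k * Nat.card G ≤ (classSupp A ⊤).ncard * (4 * k * 2) + 2 * Nat.card G := by
  have bp := b3 ▸ Nat.prime_three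
  obtain ⟨u, hu, uu⟩ := h.exists_u' (h.a4 ns)
  have uT := zpowers_le_of_mem (mul_mem (mem_zpowers a) (mem_zpowers a)) hu
  have o4 := order_four uu h.z1 h.zz
  have tu : t ∈ zpowers u := uu ▸ mul_mem (mem_zpowers u) (mem_zpowers u)
  have KH : 𝐂[u] ≤ 𝐂[t] := cent1_le_cent1_of_mem_zpowers tu
  have sy := h.syl_u uT (uu ▸ h.z1)
  have aK := sy.le (mem_zpowers a)
  have c1 : 𝐨(𝐂[u]) = 4 * k := by
    rw [h.card_two ih hn ns hb b3 bl bs KH aK (h.a_out ns), h.card_Lu ns hu uu]; ring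
  have i2 := h.idxL ih hn ns hb b3 bl bs
  have oL : ∀ W ≤ 𝐂[u], Odd 𝐨(W) → W ≤ L ⊓ 𝐂[u] := fun W hW ho => le_inf (fun g hg =>
    mem_of_sq_odd ((mul2 i2 (KH (hW hg)) (KH (hW hg))).2 Iff.rfl) (odd_ord ho hg)) hW
  have sd := (npc_cyc sy inferInstance).sdProd Nat.prime_two sy
  have h1 := oL _ (core_le _) (odd_core _)
  have h2 := FT.isCyclic_of_le h1 (ns.cyc (h.sqL ns hu) (Or.inr o4))
  have cop := P4.coprime_of_odd sy.pgrp (odd_core (G := G) 𝐂[u])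
  have cy : IsCyclic 𝐂[u] := DProd.isCyclic ⟨sd.sup, cent_of_primes (isMulComm_of_isCyclic h2)
    sd.norm cop.symm fun P hP cP => zpowers_le_of_mem (h.a_cent ns hb bp (b3 ▸ bl) bs hu uu
      (hP.trans h1) cP (ne_two_of_le hP (odd_core _))), sd.disj⟩ h2 inferInstance cop
  have uq : ∀ z ∈ 𝐂[u], z ≠ 1 → z * z = 1 → z = t := fun z hz z1 zz =>
    P4.uniq_invol cy hz z1 zz (sy.le h.zx) h.z1 h.zz
  have c2 : ∀ x ∈ (𝐂[u] : Set G) \ zpowers t, 𝐂[x] = 𝐂[u] := fun x hx => by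
    refine le_antisymm (fun g hg => ?_) ((isMulComm_iff_le_cent.1
      (isMulComm_of_isCyclic cy)).trans (cent_le_cent1 hx.1))
    obtain ⟨Y, hY, cY⟩ := exists_le_card_prime (zpowers_ne_bot.2 fun e : x * x = 1 => hx.2 (by
      by_cases x1 : x = 1
      exacts [x1 ▸ one_mem _, uq x hx.1 x1 e ▸ mem_zpowers t]))
    have h3 := hY.trans (zpowers_le_of_mem (mul_mem (mem_zpowers x) (mem_zpowers x)))
    have h4 := h3.trans (zpowers_le_of_mem hx.1)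
    by_cases y2 : 𝐨(Y) = 2
    · obtain ⟨z, z1, zz, rfl⟩ := exists_invol_of_card y2
      obtain ⟨i, e⟩ := mem_zpowers_iff.1 (hY (mem_zpowers z))
      rw [(Commute.refl x).mul_zpow] at e
      exact cent1_le_cent1_of_mem_zpowers (zpowers_le_of_mem (zpow_mem (mem_zpowers x) i)
        (cyc2 cy (zpow_mem hx.1 i) (self_mem_cent1 u) (by
          rw [e, uu, uq z (h4 (mem_zpowers z)) z1 zz]) (e ▸ z1) (e ▸ zz))) hg
    have h5 := oL Y h4 (cY.odd_of_ne_two y2)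
    have h6 := h.a_cent ns hb bp (b3 ▸ bl) bs hu uu h5 cY y2
    have h7 : g ∈ 𝐂(Y) := cent_anti h3 (cent_zpowers x ▸ hg)
    have h8 := h.cent_le cY y2 (h.norm_P ns hu uu h5) h6 h7
    obtain ⟨c, rfl, oc⟩ := exists_gen cY
    have h9 := (h.cent_c ns hu uu (h5 (mem_zpowers c)) (zpowers_ne_bot.1 (ne_bot_of_card_prime cY))
      (oc ▸ cY.odd_of_ne_two y2)).2.2
    rw [cent_zpowers] at h6 h7
    by_cases e : g ∈ L
    · exact h9 ⟨e, h7⟩
    · exact (mul_mem_cancel_left aK).1 (h9 ⟨(mul2 i2 (KH aK) h8).2 (iff_of_false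
        (fun e => h.a_out ns (mem_sup_right e)) e), mul_mem h6 h7⟩)
  refine ⟨(𝐂[u] : Set G) \ zpowers t, ?_, ?_⟩
  · rintro _ ⟨x, hx, g, -, rfl⟩
    rw [ord_conj]
    exact c1 ▸ orderOf_dvd_card_of_mem hx.1
  rw [← c1]
  nth_rewrite 2 [← P4.orderOf_two h.z1 h.zz]
  rw [← Nat.card_zpowers t]
  refine ti_count rfl (zpowers_le_of_mem (sy.le h.zx)) (cent_zpowers u ▸ cent_le_norm _) (rel_u o4)
    (cent_zpowers u ▸ H1.normalizer_le_normalizer_centralizer _) (norm_le_norm_of_le_cyclic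
      inferInstance (zpowers_le_of_mem tu)) fun g x hx hx' => ?_
  refine norm_le_norm_of_le_cyclic cy (zpowers_le_of_mem (self_mem_cent1 u)) (conj_eq_self_iff.1 ?_)
  rw [← c2 x hx, ← cent1_conj, c2 _ hx', c2 x hx]

theorem ns_false : False := by
  obtain ⟨A, a1, a2⟩ := h.count1 ih hn ns hb b3 bl bs
  obtain ⟨B, b1, b2⟩ := h.count2 ih hn ns hb b3 bl bs
  have c1 := h.zc.count ns.rp ns.ls.r2 (ns.ls.r_dvd.trans (card_subgroup_dvd_card L))
  have r2 := (Nat.coprime_primes ns.rp Nat.prime_two).2 ns.ls.r2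
  have r3 := (Nat.coprime_primes ns.rp Nat.prime_three).2 (by have := ns.r5; omega)
  refine count_arith Nat.card_pos (Nat.le_of_dvd (by have := ns.eps; have := ns.r5; omega) ns.ev)
    ns.eps a2 b2 c1 ?_
  rw [← Set.ncard_union_eq, ← Set.ncard_union_eq, ← Set.ncard_univ]
  · exact Set.ncard_le_ncard (Set.subset_univ _)
  · refine Set.disjoint_left.2 fun x hx e => ns.rp.one_lt.ne' ?_
    rcases hx with hx | hx
    · exact Nat.eq_one_of_dvd_coprimes ((r2.pow_right 2).mul_right ns.ls.cop_rk) dvd_rfl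
        (Dvd.dvd.trans e (a1 x hx))
    · exact Nat.eq_one_of_dvd_coprimes (((r2.pow_right 2).mul_right r3).mul_right ns.ls.cop_rl)
        dvd_rfl (Dvd.dvd.trans e (b1 x hx).1)
  · refine Set.disjoint_left.2 fun x hx e => ?_
    obtain ⟨p, hp, h1, h2⟩ := (b1 x e).2
    exact hp.one_lt.ne' (Nat.eq_one_of_dvd_coprimes ((ns.ls.cop_dl.pow_left 2).mul_left
      ns.ls.cop_kl) (h2.trans (a1 x hx)) h1)

omit ns hb b3 bl bs in
theorem solv_H : Group.IsSolvable 𝐂[t] := by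
  by_contra hs
  haveI := h.simple
  obtain ⟨L, d, r, k, l, ns⟩ := h.zc.ns ih hs (lt_of_lt_of_le (by
    rw [← card_top (G := G)]; exact H1.card_lt_of_lt (cent1_ne_top' h.na h.z1).lt_top) hn)
  obtain rfl := h.d2 ns
  obtain ⟨j, h', b, hb, bp, bl, b3, bs⟩ := h.exists_b ns
  obtain ⟨u, hu, uu⟩ := h.exists_u' (h.a4 ns)
  have l3 := h'.three_l ns hb bp bl bs hu uu
  exact h'.ns_false ih hn ns hb (b3 l3) l3 bs

end St

end Cfsg.Agent.H6.Cyc
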