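/-
The semidihedral case: local analysis.
-/
import Cfsg.Agent.H6.Cyc11

set_option autoImplicit false
set_option linter.unusedSectionVars false
set_option linter.style.haveILetI false

namespace Cfsg.Agent.H6.Cyc

open Subgroup Cfsg Cfsg.Agent Cfsg.Agent.FT
open Cfsg.Agent.P4 (odd_iff_not_dvd Max2)
open Cfsg.Agent.P5 (V4 Tri)
open Cfsg.Agent.P7 (V2)
open Cfsg.Agent.H2 (pPrimeCoreOf)
open scoped commutatorElement

universe u

variable {G : Type u} [Group G] [Finite G]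

theorem V2_conj (x y g : G) : V2 (g * x * g⁻¹) (g * y * g⁻¹) = V2 x y ^ᵍ g := by
  rw [V2, V2, Set.insert_eq, Set.insert_eq, Subgroup.closure_union, Subgroup.closure_union,
    ← zpowers_eq_closure, ← zpowers_eq_closure, ← zpowers_eq_closure, ← zpowers_eq_closure, conj_sup, zpowers_conj,
    zpowers_conj]

theorem T2 {a x y : G} (hx : x ∈ zpowers a) (hy : y ∈ zpowers a)
    (h : x ∈ zpowers (a * a) ↔ y ∈ zpowers (a * a)) : x⁻¹ * y ∈ zpowers (a * a) := by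
  by_cases e : x ∈ zpowers (a * a)
  · exact mul_mem (inv_mem e) (h.1 e)
  · simpa [mul_assoc] using mul_mem (inv_mem ((mem_sq_or a hx).resolve_left e))
      ((mem_sq_or a hy).resolve_left (mt h.2 e))

theorem comm_le_of_two {R Y A : Subgroup G} (h : Y.relIndex R ∣ 2) (hR : A ≤ 𝐍(R))
    (hY : A ≤ 𝐍(Y)) : ⁅R, A⁆ ≤ Y := commutator_le.2 fun x hx g hg => by
  have h1 := conj_mem (hR hg) (inv_mem hx)
  rw [commutatorElement_def, mul_assoc, mul_assoc, ← mul_assoc g]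
  rcases (Nat.dvd_prime Nat.prime_two).1 h with e | e
  · exact relIndex_eq_one.1 e (mul_mem hx h1)
  · rw [mul2 e hx h1, ← mem_normalizer_iff.1 (hY hg), inv_mem_iff]

namespace St

variable {S : Subgroup G} {a t s : G} (h : St S a t s)
include h

theorem sq_of_comm {x y : G} (hx : x ∈ S) (hT : x ∉ zpowers a) (hy : y ∈ zpowers a)
    (hc : Commute x y) : y * y = 1 := h.cs y hy (by
  simpa using (cT ((h.cover x hx).resolve_left hT) hy).mul_left hc.inv_left)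

theorem sa_S : s * a ∈ S := mul_mem h.sS h.xS

theorem sa_T : s * a ∉ zpowers a := by rw [mul_mem_cancel_right (mem_zpowers a)]; exact h.sx

theorem mem_sq_of_cent {j y : G} (j1 : j ≠ 1) (jj : j * j = 1) (hy : y ∈ 𝐂[j])
    (h2 : IsPGroup 2 (zpowers y)) (yy : y * y ≠ 1) : j ∈ zpowers (y * y) := by
  obtain ⟨g, rfl⟩ := h.conj j1 jj
  have h1 : IsSyl 2 (S ^ᵍ g) 𝐂[g * t * g⁻¹] := cent1_conj t g ▸ h.syl_H.conj g
  obtain ⟨c, hc, h3⟩ := h1.exists_conj_le Nat.prime_two h2 (zpowers_le_of_mem hy)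
  have h4 := h.m.z_mem_zpowers (mem_conj.1 (h3 (conj_mem_conj (mem_zpowers y) c))) fun e =>
    yy (by simpa [mul_assoc] using P4.conj_sq e (c⁻¹ * g))
  have h5 := conj_mem_conj h4 (c⁻¹ * g)
  rw [← zpowers_conj] at h5
  rw [← mem_cent1_iff_conj.1 (inv_mem hc)]
  simpa [mul_assoc] using h5

variable (hd : s * a * s ≠ a⁻¹)
include hd

theorem a4' : a * a * (a * a) ≠ 1 := fun e => hd (h.inv_u (mem_zpowers a)
  ((h.m.uniq (mul_mem (mem_zpowers a) (mem_zpowers a)) e).resolve_left h.aa))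

theorem sq_t {j : G} (hj : a * (s * j) ∈ zpowers (a * a)) : j * j = t := by
  have h1 := h.m.inv_of h.s_sq _ hj
  have h2 := cT (mem_zpowers a) (zpowers_le_of_mem (mul_mem (mem_zpowers a) (mem_zpowers a)) hj)
  have h3 := h.m.cases.resolve_left hd
  obtain ⟨y, rfl⟩ : ∃ y, j = s * (a⁻¹ * y) := ⟨a * (s * j), by simp [← mul_assoc, h.ss]⟩
  rw [← mul_assoc s s, h.ss, one_mul, mul_inv_cancel_left] at h1 h2
  calc _ = (s * a * s)⁻¹ * (s * y * s) * (a⁻¹ * y) := by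
        simp only [mul_inv_rev, h.m.s_inv, mul_assoc]; rw [← mul_assoc s s, h.ss, one_mul]
    _ = t := by
      rw [h1, h3, h2.inv_left.eq, mul_inv_rev, P5.inv_eq_of_sq h.zz]; group

theorem sq_iff {x : G} (hx : x ∈ S) (hT : x ∉ zpowers a) : s * x ∈ zpowers (a * a) ↔ x * x = 1 :=
  ⟨h.sq_of_out, fun e => (mem_sq_or a ((h.cover x hx).resolve_left hT)).resolve_right
    fun e' => h.z1 ((h.sq_t hd e').symm.trans e)⟩

theorem replace' {j : G} (hj : j ∈ S) (hT : j ∉ zpowers a) (jj : j * j = 1) : j * a * j ≠ a⁻¹ :=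
  fun e => hd (by
    have h1 := (h.replace hj hT jj).dih_out e h.sa_S h.sa_T
    rwa [← mul_assoc, mul_eq_one_iff_eq_inv] at h1)

theorem solv_le {N : Subgroup G} (hN : S ≤ N) (hs : Group.IsSolvable N) : N ≤ 𝐂[t] := by
  obtain ⟨u, hu, uu⟩ := h.exists_u' (h.a4' hd)
  have h1 := uu ▸ sq_mem (h.zc.two_le_core hs (h.sq_der.trans (commutator_mono hN hN)) h.two_sq hu)
  exact ((pCoreOf_normal 2 N).2.trans ((norm_le_norm_sq _).trans (norm_le_norm_of_le_cyclic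
    (h.zc.sq_spec (H2.isPGroup_pCoreOf 2 N)).1 (zpowers_le_of_mem h1)))).trans
      (norm_invol h.z1 h.zz)

variable (hs : Group.IsSolvable 𝐂[t])
include hs

theorem core_der {g : G} (hg : g ∈ S) (e : g ∈ ⁅(𝐂[t] : Subgroup G), (𝐂[t] : Subgroup G)⁆) :
    g ∈ pCoreOf 2 𝐂[t] := h.zc.two_le_core hs (zpowers_le_of_mem e)
      (h.syl.pgrp.to_le (zpowers_le_of_mem hg)) (mem_zpowers g)

omit hd hs in
theorem R_le : pCoreOf 2 𝐂[t] ≤ S := h.syl_H.pCoreOf_le Nat.prime_two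

theorem a_not_der : a ∉ ⁅(𝐂[t] : Subgroup G), (𝐂[t] : Subgroup G)⁆ := fun e => by
  have h1 : 𝐂[t] ≤ 𝐍(zpowers a) := fun g hg => mem_norm_zpowers (by
    by_contra h0
    have h2 : g * a * g⁻¹ * (g * a * g⁻¹) * (g * a * g⁻¹ * (g * a * g⁻¹)) = 1 := by
      rcases h.sq_out (h.R_le (conj_mem ((pCoreOf_normal 2 _).2 hg) (h.core_der hd hs h.xS e))) h0
        with e | e <;> rw [e]
      exacts [mul_one 1, h.zz]
    rw [conj_mul, conj_mul, conj_eq_one_iff] at h2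
    exact h.a4' hd h2)
  have h2 := h1.trans (norm_le_norm_of_le_cyclic inferInstance
    (zpowers_le_of_mem (mul_mem (mem_zpowers a) (mem_zpowers a))))
  refine h.m.x_notMem (focal_le Nat.prime_two h.syl_H (fun x hx g hg hx' => ?_) ⟨h.xS, e⟩)
  by_cases hT : x ∈ zpowers a
  · exact T2 hT (conj_mem (h1 hg) hT) (mem_normalizer_iff.1 (h2 hg) x)
  have hT' := mt (mem_normalizer_iff.1 (h1 hg) x).2 hT
  simpa [mul_assoc] using T2 ((h.cover x hx).resolve_left hT) ((h.cover _ hx').resolve_left hT')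
    (by rw [h.sq_iff hd hx hT, h.sq_iff hd hx' hT', conj_mul, conj_eq_one_iff])

theorem sa_der : s * a ∈ ⁅(𝐂[t] : Subgroup G), (𝐂[t] : Subgroup G)⁆ := by
  haveI := h.simple
  set D := ⁅(𝐂[t] : Subgroup G), (𝐂[t] : Subgroup G)⁆ with hD
  have h0 : zpowers (a * a) ≤ D := h.sq_der.trans (commutator_mono h.m.le_cent h.m.le_cent)
  have h1 : ∀ x ∈ S, x * x = 1 → x ∈ D ⊔ zpowers s := fun x hx xx => by
    by_cases hT : x ∈ zpowers a
    · rcases h.m.uniq hT xx with rfl | rfl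
      exacts [one_mem _, mem_sup_left (h0 h.t_sq)]
    · exact (mul_mem_cancel_left (mem_sup_right (mem_zpowers s))).1
        (mem_sup_left (h0 ((h.sq_iff hd hx hT).2 xx)))
  have h2 := focal_le Nat.prime_two h.syl (K := D ⊔ zpowers s) (fun x hx g _ hx' => by
    by_cases xx : x * x = 1
    · exact mul_mem (inv_mem (h1 x hx xx)) (h1 _ hx' (P4.conj_sq xx g))
    have h3 := h.m.z_mem_zpowers hx' (by rwa [conj_mul, Ne, conj_eq_one_iff])
    rw [conj_mul, zpowers_conj] at h3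
    have h4 := P4.uniq_invol ((isCyclic_map_iff (conj_injective g)).2 inferInstance)
      (conj_mem_conj (h.m.z_mem_zpowers hx xx) g) (P4.conj_ne_one h.z1 g) (P4.conj_sq h.zz g) h3
      h.z1 h.zz
    simpa [commutatorElement_def, mul_assoc] using mem_sup_left (T := zpowers s)
      (commutator_mem_commutator (inv_mem (h.m.le_cent hx)) (mem_cent1_iff_conj.2 h4)))
    (mem_inf.2 ⟨h.xS, by rw [der_top h.na]; trivial⟩)
  have hn : 𝐂[t] ≤ 𝐍(D) := (der_normal _).2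
  obtain ⟨y, hy, f, hf, e⟩ := (mem_sup_of_norm' ((zpowers_le_of_mem (h.m.le_cent h.sS)).trans
    hn)).1 h2
  by_cases y1 : y = 1
  · exact absurd (by rwa [← e, y1, one_mul]) (h.a_not_der hd hs)
  rw [← e, P4.uniq_invol inferInstance hy y1 (by
    obtain ⟨i, rfl⟩ := hy
    rw [← Commute.mul_zpow rfl, h.ss, one_zpow]) (mem_zpowers s) h.v4.s1 h.ss, ← mul_assoc, h.ss,
    one_mul]
  exact hf

theorem sa_R : s * a ∈ pCoreOf 2 𝐂[t] := h.core_der hd hs h.sa_S (h.sa_der hd hs)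

theorem u_R : zpowers (a * a) ≤ pCoreOf 2 𝐂[t] := h.zc.two_le_core hs
  (h.sq_der.trans (commutator_mono h.m.le_cent h.m.le_cent)) h.two_sq

theorem sq_R {r : G} (hr : r ∈ pCoreOf 2 𝐂[t]) (hT : r ∈ zpowers a) : r * r * (r * r) = 1 :=
  h.sq_of_comm h.sa_S h.sa_T (mul_mem hT hT) (mem_cent.1 ((h.zc.rl (H2.isPGroup_pCoreOf 2 _)
    (pCoreOf_normal 2 _).2).2.2 (h.sa_der hd hs)) _ (sq_mem hr)).symm

theorem uu : a * a * (a * a) = t := (h.m.uniq (mul_mem (mul_mem (mem_zpowers a) (mem_zpowers a))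
  (mul_mem (mem_zpowers a) (mem_zpowers a))) (h.sq_R hd hs (h.u_R hd hs (mem_zpowers _))
    (mul_mem (mem_zpowers a) (mem_zpowers a)))).resolve_left (h.a4' hd)

theorem ord_a : orderOf a = 8 := by
  have h1 := order_four (h.uu hd hs) h.z1 h.zz
  refine orderOf_eq_prime_pow (p := 2) (n := 2) ?_ ?_
  · simpa only [pow_succ, pow_zero, one_mul, mul_assoc, Nat.reduceMul] using h.a4' hd
  · rw [show 2 ^ (2 + 1) = 2 * 4 by norm_num, pow_mul, pow_two, ← h1, pow_orderOf_eq_one]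

theorem card_R : 𝐨(pCoreOf 2 𝐂[t]) ∣ 8 := by
  have h1 := H1.card_mul_relIndex h.R_le
  rw [h.m.card, h.ord_a hd hs] at h1
  obtain ⟨k, hk⟩ := exists_card_eq_pow Nat.prime_two h.syl.pgrp
  obtain ⟨j, -, hj⟩ := (Nat.dvd_prime_pow Nat.prime_two).1 (hk ▸ relIndex_dvd_card' (pCoreOf 2 𝐂[t]) S)
  rcases j with _ | j
  · exact absurd (h.sq_R hd hs (relIndex_eq_one.1 hj h.xS) (mem_zpowers a)) (h.a4' hd)
  · exact ⟨2 ^ j, by rw [hj, pow_succ, ← mul_assoc] at h1; omega⟩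

omit hd hs in
theorem uT : a * a ∈ zpowers a := mul_mem (mem_zpowers a) (mem_zpowers a)

theorem KH : 𝐍(zpowers (a * a)) ≤ 𝐂[t] := (norm_le_norm_of_le_cyclic inferInstance
  (zpowers_le_of_mem h.t_sq)).trans (norm_invol h.z1 h.zz)

omit h hd hs in
theorem KN (u : G) : 𝐂[u] ≤ 𝐍(zpowers u) := cent_zpowers u ▸ cent_le_norm _

theorem idxK : (𝐂[a * a] : Subgroup G).relIndex 𝐍(zpowers (a * a)) = 2 :=
  ((Nat.dvd_prime Nat.prime_two).1 (rel_u (order_four (h.uu hd hs) h.z1 h.zz))).resolve_left fun e =>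
    h.not_cent_u h.uT (h.uu hd hs) h.sS h.sx (relIndex_eq_one.1 e (h.norm_u h.uT h.sS))

theorem idxH : (𝐂[a * a] : Subgroup G).relIndex 𝐂[t] = 6 := by
  have h1 : (𝐂[a * a] : Subgroup G).relIndex 𝐂[t] ≤ 8 := by
    rw [← card_class]
    refine (Set.ncard_le_ncard (t := pCoreOf 2 𝐂[t]) (classSupp_subset (Set.singleton_subset_iff.2
      (h.u_R hd hs (mem_zpowers _))) (pCoreOf_normal 2 _).2)).trans ?_
    rw [← Nat.card_coe_set_eq]
    exact Nat.le_of_dvd (by norm_num) (h.card_R hd hs)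
  rw [← relIndex_mul_relIndex _ _ _ (KN _) (h.KH hd hs), h.idxK hd hs] at h1 ⊢
  have h2 : ¬ 2 ∣ (𝐍(zpowers (a * a)) : Subgroup G).relIndex 𝐂[t] := fun e =>
    h.syl_H.ndvd (e.trans (relIndex_dvd_of_le_left _ (h.norm_u h.uT)))
  have h3 : (𝐍(zpowers (a * a)) : Subgroup G).relIndex 𝐂[t] ≠ 1 := fun e =>
    h.not_cent_u h.uT (h.uu hd hs) h.sa_S h.sa_T (cent_zpowers (a * a) ▸ der_le_cent_of_cyclic
      inferInstance (relIndex_eq_one.1 e) (h.sa_der hd hs))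
  omega

theorem syl_K : IsSyl 2 (zpowers a) 𝐂[a * a] := h.syl_u h.uT (h.a4' hd)

theorem norm_X : 𝐍(zpowers (a * a)) ≤ 𝐍(pPrimeCoreOf 2 𝐂[a * a]) :=
  (cent_zpowers (a * a) ▸ H1.normalizer_le_normalizer_centralizer _).trans (norm_core _)

theorem XR : pPrimeCoreOf 2 𝐂[a * a] ≤ 𝐂(pCoreOf 2 𝐂[t]) := le_cent_of_norm_of_coprime
  (((core_le _).trans ((KN _).trans (h.KH hd hs))).trans (pCoreOf_normal 2 _).2)
  (h.R_le.trans ((h.norm_u h.uT).trans (h.norm_X hd hs)))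
  (P4.coprime_of_odd (H2.isPGroup_pCoreOf 2 _) (odd_core _)).symm

theorem cent_four {y : G} (hy : y ∈ pCoreOf 2 𝐂[t]) (yy : y * y = t) {A : Subgroup G}
    (ho : Odd 𝐨(A)) (hA : A ≤ 𝐂[y]) : A ≤ 𝐂(pCoreOf 2 𝐂[t]) := by
  have h1 := (hA.trans (cent1_le_cent1_of_mem_zpowers (yy ▸ mul_mem (mem_zpowers y)
    (mem_zpowers y)))).trans (pCoreOf_normal 2 _).2
  refine H1.le_centralizer_of_commutator_le h1 (P4.coprime_of_odd (H2.isPGroup_pCoreOf 2 _) ho)
    (comm_le_of_two ?_ h1 (hA.trans (KN y))) (cent_zpowers y ▸ hA)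
  have h2 := h.card_R hd hs
  rw [← H1.card_mul_relIndex (zpowers_le_of_mem hy), Nat.card_zpowers, order_four yy h.z1 h.zz] at h2
  exact Nat.dvd_of_mul_dvd_mul_left (by norm_num : 0 < 4) h2

theorem cv0 : 𝐂(V2 t s) ≤ V2 t s := by
  refine ((h.npc_V h.v4).sdProd Nat.prime_two (h.syl_four h.v4)).sup.ge.trans
    (sup_le (fun β hβ => ?_) le_rfl)
  obtain ⟨h1, h2⟩ := P7.V4.le_cent_iff.1 (core_le _ hβ)
  have ho := odd_ord (odd_core _) hβ
  have h3 := h.R_le (conj_mem ((pCoreOf_normal 2 _).2 h1) (h.u_R hd hs (mem_zpowers _)))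
  have h4 : β * (a * a) * β⁻¹ * (β * (a * a) * β⁻¹) = t := by
    rw [conj_mul, h.uu hd hs, mem_cent1_iff_conj.1 h1]
  have h5 : β * (a * a) * β⁻¹ ∈ zpowers a := by
    by_contra h0
    have h6 : s * (β * (a * a) * β⁻¹) * (s * (β * (a * a) * β⁻¹)) = 1 := by
      rw [← mem_cent1_iff_conj.1 h2, conj_mul, conj_mul, conj_eq_one_iff, ← mul_assoc, h.s_sq,
        inv_mul_cancel]
    have h7 := (h.cover _ h3).resolve_left h0
    rcases h.m.uniq h7 h6 with e | e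
    · rw [eq_inv_of_mul_eq_one_right e, h.m.s_inv, h.ss] at h4
      exact h.z1 h4.symm
    · rw [← inv_mul_cancel_left s (β * (a * a) * β⁻¹), e, h.m.s_inv, ← h.v4.comm.eq,
        h.v4.tsts] at h4
      exact h.z1 h4.symm
  have h6 : β ∈ 𝐍(zpowers (a * a)) := mem_norm_zpowers (cyc2 inferInstance h.uT h5
    ((h.uu hd hs).trans h4.symm) (h.a4' hd) (by rw [h.uu hd hs, h.zz]))
  have h7 := h.cent_four hd hs (h.u_R hd hs (mem_zpowers _)) (h.uu hd hs) (A := zpowers β)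
    (by rwa [Nat.card_zpowers]) (zpowers_le_of_mem (mem_of_sq_odd
      ((mul2 (h.idxK hd hs) h6 h6).2 Iff.rfl) ho)) (mem_zpowers β)
  have h8 := mem_cent1_comm.1 (cent_le_cent1 (h.sa_R hd hs) h7)
  rw [mul_mem_cancel_left (mem_cent1_comm.1 h2)] at h8
  exact (h.odd_cent_S (odd_core 𝐂(V2 t s))).trans_le bot_le
    (mem_inf.2 ⟨hβ, h.le_cent_S (mem_cent1_comm.1 h8) h2⟩)

theorem cv {x y : G} (v : V4 x y) : 𝐂(V2 x y) ≤ V2 x y := by
  obtain ⟨k, rfl⟩ := h.conj v.t1 v.tt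
  obtain ⟨y, rfl⟩ : ∃ y', y = k * y' * k⁻¹ := ⟨k⁻¹ * y * k, by group⟩
  have v' : V4 t y := by simpa [mul_assoc] using P7.V4.cj v k⁻¹
  obtain ⟨c, hc, h1⟩ := h.syl_H.exists_conj_le Nat.prime_two (P4.isPGroup_zpowers_of_sq v'.ss)
    (zpowers_le_of_mem (mem_cent1.2 v'.comm))
  have h2 := h1 (conj_mem_conj (mem_zpowers y) c)
  have h3 := mem_cent1_iff_conj.1 hc
  have h4 : c * y * c⁻¹ ∉ zpowers a := fun e => by
    rcases h.m.uniq e (P4.conj_sq v'.ss c) with e | e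
    · exact P4.conj_ne_one v'.s1 c e
    · rw [← h3] at e
      exact v'.ts (by simpa using e.symm)
  have h5 := (h.replace h2 h4 (P4.conj_sq v'.ss c)).cv0 (h.replace' hd h2 h4 (P4.conj_sq v'.ss c)) hs
  rw [← h3, V2_conj, cent_conj, conj_le_conj_iff] at h5
  rwa [V2_conj, cent_conj, conj_le_conj_iff]

end St

end Cfsg.Agent.H6.Cyc
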