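/-
The semidihedral case: centralizers of elements of odd order, counting involutions.
-/
import Cfsg.Agent.H6.Cyc12

set_option autoImplicit false
set_option linter.unusedSectionVars false
set_option linter.style.haveILetI false

namespace Cfsg.Agent.H6.Cyc

open Subgroup Cfsg Cfsg.Agent Cfsg.Agent.FT
open Cfsg.Agent.P4 (odd_iff_not_dvd Max2)
open Cfsg.Agent.P5 (V4 Tri)
open Cfsg.Agent.P7 (V2)
open Cfsg.Agent.H2 (pPrimeCoreOf)
open scoped commutatorElement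

universe u

variable {G : Type u} [Group G] [Finite G]

namespace St

variable {S : Subgroup G} {a t s : G} (h : St S a t s) (hd : s * a * s ≠ a⁻¹)
  (hs : Group.IsSolvable 𝐂[t])
include h hd hs

theorem no_V {P : Subgroup G} (cP : 𝐨(P).Prime) (p2 : 𝐨(P) ≠ 2) {x y : G} (v : V4 x y)
    (hx : x ∈ 𝐂(P)) (hy : y ∈ 𝐂(P)) : False :=
  p2 (eq_of_prime_dvd_card_of_isPGroup Nat.prime_two cP v.isPGroup (FT.card_dvd_of_le
    ((cent_comm.1 (V4.le_iff.2 ⟨hx, hy⟩)).trans (h.cv hd hs v))))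

theorem mem_R {y : G} (yy : y * y = t) : y ∈ pCoreOf 2 𝐂[t] := by
  have h0 : y ∈ 𝐂[t] := yy ▸ mem_cent1_comm.1 (mul_mem (self_mem_cent1 y) (self_mem_cent1 y))
  obtain ⟨c, hc, h1⟩ := h.syl_H.exists_conj_le Nat.prime_two (two_of_sq h.syl.pgrp (yy ▸ h.tS))
    (zpowers_le_of_mem h0)
  replace h1 := h1 (conj_mem_conj (mem_zpowers y) c)
  rw [mem_normalizer_iff.1 ((pCoreOf_normal 2 _).2 hc)]
  have h2 : c * y * c⁻¹ * (c * y * c⁻¹) = t := by rw [conj_mul, yy, mem_cent1_iff_conj.1 hc]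
  generalize c * y * c⁻¹ = y at h1 h2
  by_cases hT : y ∈ zpowers a
  · exact h.u_R hd hs (cyc2 inferInstance h.uT hT ((h.uu hd hs).trans h2.symm) (h.a4' hd)
      (by rw [h.uu hd hs, h.zz]))
  have h3 := T2 ((h.cover _ h.sa_S).resolve_left h.sa_T) ((h.cover y h1).resolve_left hT) (by
    rw [h.sq_iff hd h.sa_S h.sa_T, h.sq_iff hd h1 hT, h2, h.sq_t hd (j := s * a)
      (by rw [← mul_assoc s, h.ss, one_mul]; exact mem_zpowers _)])
  rw [mul_inv_rev, mul_assoc, inv_mul_cancel_left] at h3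
  exact (mul_mem_cancel_left (inv_mem (h.sa_R hd hs))).1 (h.u_R hd hs h3)

theorem card_H : 𝐨(𝐂[t]) = 𝐨(𝐂[a * a]) * 6 := by
  rw [← H1.card_mul_relIndex ((KN _).trans (h.KH hd hs)), h.idxH hd hs]

theorem card_K : 𝐨(𝐂[a * a]) = 𝐨(pPrimeCoreOf 2 𝐂[a * a]) * 8 := by
  rw [((npc_cyc (h.syl_K hd hs) inferInstance).sdProd Nat.prime_two (h.syl_K hd hs)).card,
    Nat.card_zpowers, h.ord_a hd hs]

variable {n : ℕ} (ih : IH.{u} n) (hn : Nat.card G ≤ n)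
include ih hn

theorem cp1 {P : Subgroup G} (hP : P ≤ 𝐂[t]) (cP : 𝐨(P).Prime) (p2 : 𝐨(P) ≠ 2)
    (hK : 𝐨(P) ∣ 𝐨(𝐂[a * a])) : 𝐂(P) ≤ 𝐂[t] := by
  obtain ⟨Z, hZ, cZ⟩ := exists_le_card_eq_prime cP hK
  obtain ⟨g, hg, rfl⟩ := h.zc.conj_prime cP p2 (hZ.trans ((KN _).trans (h.KH hd hs))) hP cZ rfl
  rw [card_conj] at cP p2
  rw [cent_conj]
  refine conj_le_of_mem ((cent_le_norm Z).trans ?_) hg
  have h1 := (h.norm_u h.uT).trans (h.norm_X hd hs)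
  have hS := h1.trans (norm_le_norm_of_le_cyclic (h.zc.cyc_of_fpf (odd_core _) h1 h.syl.pgrp
    (h.odd_cent_S (odd_core _))) (le_core (npc_cyc (h.syl_K hd hs) inferInstance) hZ
      (cP.odd_of_ne_two p2)))
  rcases h.solv_or ih hn cP with e | ⟨L, d, r, k, l, ns⟩
  · exact h.solv_le hd hS e
  exfalso
  have h2 := ns.two_der (h.sq_der.trans (commutator_mono hS hS)) h.two_sq
  have h3 := cent_comm.1 ((le_pPrimeCoreOf ⟨le_norm_self Z, le_rfl⟩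
    ((Nat.coprime_primes cP Nat.prime_two).2 p2)).trans ns.XC)
  obtain rfl := ns.d12.resolve_right fun e => ns.not_solv (mem_cent_iff_cent1.1
    (ns.uniq e t (h2 h.t_sq) h.zz)) hs
  have o4 := order_four (h.uu hd hs) h.z1 h.zz
  obtain ⟨-, -, ⟨i, hi, ii, h4⟩, -⟩ := ns.cent _ (h2 (mem_zpowers _)) (h.a4' hd) fun e => by
    have := Nat.le_of_dvd (by omega) e
    have := ns.r5
    omega
  replace ii : i * i = 1 := zpowers_eq_bot.1 ((ns.two _ ((h.zc.two_center ns.perf).to_le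
    (zpowers_le_of_mem ⟨mul_mem hi hi, ii⟩)) (zpowers_le_of_mem ii)).2 rfl)
  have h5 := h4 _ ⟨h2 (mem_zpowers _), self_mem_cent1 _⟩
  have h6 : i ∉ 𝐂[a * a] := fun e => h.a4' hd (by
    rwa [mem_cent1_iff_conj.1 e, ← mul_eq_one_iff_eq_inv] at h5)
  exact h.no_V hd hs cP p2 (x := t) (y := i) ⟨h.z1, fun e => h6 (e ▸ one_mem _), fun e => h6 (e ▸ mem_cent1_comm.1
    (h.m.le_cent (mul_mem h.xS h.xS))), h.zz, ii, mem_cent1.1 (h.KH hd hs (mem_norm_zpowers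
      (h5 ▸ inv_mem (mem_zpowers _))))⟩ (h3 (h2 h.t_sq)) (h3 hi)

theorem cp {P : Subgroup G} (hP : P ≤ 𝐂[t]) (cP : 𝐨(P).Prime) (p2 : 𝐨(P) ≠ 2) :
    𝐂(P) ≤ 𝐂[t] := by
  by_cases hK : 𝐨(P) ∣ 𝐨(𝐂[a * a])
  · exact h.cp1 hd hs ih hn hP cP p2 hK
  haveI := h.simple
  have dv : ∀ Y ≤ 𝐂[t], 𝐨(Y).Prime → 𝐨(Y) ≠ 2 → 𝐨(Y) ∣ 𝐨(𝐂[a * a]) ∨ 𝐨(Y) = 3 :=
    fun Y hY cY y2 => (cY.dvd_mul.1 (h.card_H hd hs ▸ FT.card_dvd_of_le hY)).imp_right fun e =>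
      (Nat.prime_dvd_prime_iff_eq cY Nat.prime_three).1 (((Nat.coprime_primes cY
        Nat.prime_two).2 y2).dvd_of_dvd_mul_left (e : _ ∣ 2 * 3))
  have p3 := (dv P hP cP p2).resolve_left hK
  have tP : t ∈ 𝐂(P) := mem_cent_iff_cent1.2 hP
  have t2 := P4.isPGroup_zpowers_of_sq h.zz
  have ho := cP.odd_of_ne_two p2
  have sy : IsSyl 2 (zpowers t) 𝐂(P) := isSyl_of_maximal Nat.prime_two (zpowers_le_of_mem tP) t2
    fun Q h1 h2 h3 => le_antisymm (fun y hy => by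
    have uq : ∀ z ∈ Q, z ≠ 1 → z * z = 1 → Commute t z → t = z := fun z hz z1 zz c => by_contra
      fun e => h.no_V hd hs cP p2 ⟨h.z1, z1, e, h.zz, zz, c⟩ tP (h2 hz)
    obtain ⟨z, hz, zc, z1, zz⟩ := P4.exists_invol_center h3 ⟨le_rfl, le_norm_self Q⟩
      fun e => h.z1 (mem_bot.1 (e ▸ h1 (mem_zpowers t)))
    obtain rfl := uq z hz z1 zz (mem_cent.1 zc t (h1 (mem_zpowers t)))
    by_cases yy : y * y = 1
    · by_cases y1 : y = 1
      · exact y1 ▸ one_mem _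
      · exact uq y hy y1 yy (mem_cent.1 zc y hy).symm ▸ mem_zpowers t
    obtain ⟨i, e⟩ := mem_zpowers_iff.1 (h.mem_sq_of_cent h.z1 h.zz (mem_cent_iff_cent1.1 zc hy)
      (h3.to_le (zpowers_le_of_mem hy)) yy)
    rw [(Commute.refl y).mul_zpow] at e
    exact absurd (FT.card_dvd_of_le ((h.cent_four hd hs (h.mem_R hd hs e) e ho
      (mem_cent_iff_cent1.1 (h2 (zpow_mem hy i)))).trans (cent_le_cent1
        (h.u_R hd hs (mem_zpowers _))))) hK) h1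
  obtain ⟨b, rfl, ob⟩ := exists_gen cP
  have i2 : (𝐂(zpowers b) : Subgroup G).relIndex 𝐍(zpowers b) = 2 := by
    have h1 := relIndex_cent_dvd_of_prime cP (le_refl 𝐍(zpowers b))
    rw [p3] at h1
    refine ((Nat.dvd_prime Nat.prime_two).1 h1).resolve_left fun e => ne_bot_of_card_prime cP
      (zpowers_eq_bot.2 (h.zc.tr cP p2 (H := ⊤) (by rw [der_top h.na]; trivial)
        (isPGroup_of_card_prime rfl) ?_))
    exact cent_zpowers b ▸ inf_le_right.trans (relIndex_eq_one.1 e)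
  obtain ⟨R, hR, tR⟩ := exists_isSyl_ge Nat.prime_two t2
    (zpowers_le_of_mem (cent_le_norm _ tP))
  obtain ⟨j, hj, jC⟩ := not_forall₂.1 fun e : R ≤ 𝐂(zpowers b) =>
    hR.ndvd (i2 ▸ relIndex_dvd_of_le_left _ e)
  have nC := H1.normalizer_le_normalizer_centralizer (zpowers b)
  have RC := sy.eq_of_le Nat.prime_two (le_inf tR sy.le) inf_le_right (hR.pgrp.to_le inf_le_left)
  have jH : j ∈ 𝐂[t] := norm_invol h.z1 h.zz (RC ▸ H1.le_normalizer_inf (le_norm_self R)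
    (hR.le.trans nC) hj)
  have jj : j * j = 1 := by
    by_contra h0
    have h1 := RC.le ⟨mul_mem hj hj, (mul2 i2 (hR.le hj) (hR.le hj)).2 Iff.rfl⟩
    have h2 := h.mem_R hd hs (P4.uniq_invol inferInstance h1 h0 (by
      obtain ⟨i, e⟩ := h1
      rw [← e, ← Commute.mul_zpow rfl, h.zz, one_zpow]) (mem_zpowers t) h.z1 h.zz)
    exact jC (le_cent_of_norm_of_disj (A := zpowers b) (B := pCoreOf 2 𝐂[t] ⊓ 𝐍(zpowers b))
      inf_le_right (H1.le_normalizer_inf (hP.trans (pCoreOf_normal 2 _).2)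
        ((le_norm_self _).trans (le_norm_self _))) (H1.inf_eq_bot_of_coprime' (P4.coprime_of_odd
          ((H2.isPGroup_pCoreOf 2 _).to_le inf_le_left) ho)) ⟨h2, hR.le hj⟩)
  have v : V4 t j := ⟨h.z1, fun e => jC (e ▸ one_mem _), fun e => jC (e ▸ tP), h.zz, jj,
    mem_cent1.1 jH⟩
  have hW := odd_core (G := G) 𝐂(zpowers b)
  have nW := (V4.le_iff.2 ⟨cent_le_norm _ tP, hR.le hj⟩).trans (nC.trans (norm_core _))
  have cW := h.zc.cyc_of_fpf hW nW v.isPGroup (inf_eq_bot_of_cop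
    (inf_le_right.trans (h.cv hd hs v)) (P4.coprime_of_odd v.isPGroup hW))
  have PW := le_core (npc_cyc sy inferInstance) (isMulComm_iff_le_cent.1 inferInstance) ho
  have key : ∀ i, i ≠ 1 → i * i = 1 → i ∉ 𝐂(zpowers b) →
      pPrimeCoreOf 2 𝐂(zpowers b) ⊓ 𝐂[i] ≤ 𝐂[t] := fun i i1 ii iC => by
    by_cases h0 : pPrimeCoreOf 2 𝐂(zpowers b) ⊓ 𝐂[i] = ⊥
    · exact h0.trans_le bot_le
    obtain ⟨Y, hY, cY⟩ := exists_le_card_prime h0
    have y2 := ne_two_of_le (hY.trans inf_le_left) hW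
    obtain ⟨g, rfl⟩ := h.conj i1 ii
    refine absurd (mem_cent_iff_cent1.2 ?_) iC
    have h1 : Y ^ᵍ g⁻¹ ≤ 𝐂[t] := le_conj_iff.1 (cent1_conj t g ▸ hY.trans inf_le_right)
    rw [← card_conj Y g⁻¹] at cY y2
    rcases dv _ h1 cY y2 with e | e
    · have h2 := h.cp1 hd hs ih hn h1 cY y2 e
      rw [cent_conj, ← le_conj_iff, ← cent1_conj] at h2
      exact (cent_comm.1 (hY.trans (inf_le_left.trans (core_le _)))).trans h2
    · rw [eq_of_card_prime_of_isCyclic Nat.prime_three cW PW (hY.trans inf_le_left) p3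
        ((card_conj Y g⁻¹).symm.trans e)]
      exact hY.trans inf_le_right
  rw [← ((npc_cyc sy inferInstance).sdProd Nat.prime_two sy).sup]
  exact sup_le (P7.V4.le_of_cent v hW (nW V4.t_mem) (nW V4.s_mem) inf_le_right
    (key j v.s1 jj jC) (key _ v.ts1 v.tsts (by rwa [mul_mem_cancel_left tP])))
    (zpowers_le_of_mem (self_mem_cent1 t))

theorem cop_index : (𝐂[t] : Subgroup G).index.Coprime 𝐨(𝐂[t]) :=
  Nat.coprime_of_dvd fun p hp h1 h2 => by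
    by_cases p2 : p = 2
    · subst p2
      exact odd_iff_not_dvd.1 h.m.odd_index (h1.trans (index_dvd_of_le h.m.le_cent))
    obtain ⟨P, hP, cP⟩ := exists_le_card_eq_prime hp h2
    obtain ⟨Q, hQ, PQ⟩ := exists_isSyl_ge hp (isPGroup_of_card_prime cP) le_top
    refine hQ.ndvd (relIndex_top_right Q ▸ h1.trans (index_dvd_of_le ?_))
    exact ((isMulComm_iff_le_cent.1 (isMulComm_of_isCyclic (h.zc.odd hp p2 hQ.pgrp))).trans
      (cent_anti PQ)).trans (h.cp hd hs ih hn hP (cP ▸ hp) (cP ▸ p2))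

theorem uniq_out {j x y : G} (hj : j ∉ 𝐂[t]) (jj : j * j = 1) (hx : x ∈ 𝐂[t]) (hy : y ∈ 𝐂[t])
    (x1 : x ≠ 1) (y1 : y ≠ 1) (xx : x * x = 1) (yy : y * y = 1) (cx : j ∈ 𝐂[x]) (cy : j ∈ 𝐂[y]) :
    x = y := by
  by_contra ne
  have h1 := mul_mem (mem_cent1_comm.1 cx) (mem_cent1_comm.1 cy)
  have h2 := zpowers_le_of_mem (mul_mem hx hy)
  by_cases h3 : IsPGroup 2 (zpowers (x * y))
  swap
  · obtain ⟨p, hp, p2, e⟩ := exists_odd_prime h3
    obtain ⟨Y, hY, cY⟩ := exists_prime_le hp e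
    exact hj (h.cp hd hs ih hn (hY.trans h2) (cY ▸ hp) (cY ▸ p2)
      (mem_cent_iff_cent1.2 (hY.trans (zpowers_le_of_mem h1))))
  by_cases zz : x * y * (x * y) = 1
  · have v : V4 x y := ⟨x1, y1, ne, xx, yy, by
      have := P5.inv_eq_of_sq zz
      rwa [mul_inv_rev, P5.inv_eq_of_sq xx, P5.inv_eq_of_sq yy, eq_comm] at this⟩
    exact hj (V4.le_iff.2 ⟨hx, hy⟩ (h.cv hd hs v (P7.V4.le_cent_iff.2 ⟨cx, cy⟩)))
  · exact hj (zpowers_le_of_mem (mul_mem (mul_mem hx hy) (mul_mem hx hy)) (h.mem_sq_of_cent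
      (fun e => hj (e ▸ one_mem _)) jj h1 h3 zz))

omit ih hn in
theorem inf_V : 𝐂[s] ⊓ 𝐂[t] = V2 t s := le_antisymm (fun _ hg => h.cv0 hd hs
  (P7.V4.le_cent_iff.2 ⟨hg.2, hg.1⟩)) (V4.le_iff.2 ⟨⟨mem_cent1_comm.1 (h.m.le_cent h.sS),
    self_mem_cent1 t⟩, self_mem_cent1 s, h.m.le_cent h.sS⟩)

theorem index_ge {c : ℕ} (hc : 𝐨(𝐂[t]) = 4 * c) :
    c * c + 1 ≤ (𝐂[t] : Subgroup G).index + c := by
  have sH := h.m.le_cent h.sS
  have c0 : (𝐂[s] : Subgroup G).relIndex 𝐂[t] = c := by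
    have h1 := H1.card_inf_mul_relIndex 𝐂[s] 𝐂[t]
    rw [h.inf_V hd hs, h.v4.card] at h1
    omega
  have c1 := outer_count (M := 𝐂[t]) (x := s) fun j hj jj e g hg e' => mem_cent1_iff_conj.2
    (h.uniq_out hd hs ih hn hj jj (conj_mem (le_norm_self _ hg) sH) sH (P4.conj_ne_one h.v4.s1 g)
      h.v4.s1 (P4.conj_sq h.ss g) h.ss e' e)
  have c2 : c + 2 ≤ {j | j * j = 1 ∧ j ∈ 𝐂[t]}.ncard := by
    have h1 : ∀ j ∈ classSupp {s} 𝐂[t], j ≠ 1 ∧ j ≠ t ∧ j * j = 1 ∧ j ∈ 𝐂[t] := by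
      rintro _ ⟨_, rfl, g, hg, rfl⟩
      refine ⟨P4.conj_ne_one h.v4.s1 g, fun e => h.v4.ts ?_, P4.conj_sq h.ss g,
        conj_mem (le_norm_self _ hg) sH⟩
      rw [← mem_cent1_iff_conj.1 hg] at e
      simpa using e.symm
    rw [show c + 2 = c + 1 + 1 from rfl, ← c0, ← card_class,
      ← Set.ncard_insert_of_notMem fun e => (h1 t e).2.1 rfl,
      ← Set.ncard_insert_of_notMem (a := 1) (by
        rintro (e | e)
        exacts [h.z1 e.symm, (h1 1 e).1 rfl])]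
    refine Set.ncard_le_ncard ?_
    rintro j (rfl | rfl | e)
    exacts [⟨mul_one 1, one_mem _⟩, ⟨h.zz, self_mem_cent1 _⟩, (h1 j e).2.2]
  have c3 : {j | j * j = 1 ∧ j ∈ 𝐂[t]}.ncard ≤ {j | j * j = 1 ∧ j ∈ 𝐂[s] ∧ j ∉ 𝐂[t]}.ncard + 4 := by
    obtain ⟨g, hg⟩ := h.conj h.v4.s1 h.ss
    have e4 : 𝐨((𝐂[s] ⊓ 𝐂[t] : Subgroup G)) = 4 := by rw [h.inf_V hd hs]; exact h.v4.card
    rw [← e4]
    refine le_trans (Set.ncard_le_ncard_of_injOn (fun x => g * x * g⁻¹) (fun x hx => ?_)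
      (fun x _ y _ e => by simpa using e) (Set.toFinite _))
      (Set.ncard_union_le _ ((𝐂[s] ⊓ 𝐂[t] : Subgroup G) : Set G))
    have h1 : g * x * g⁻¹ ∈ 𝐂[s] := by rw [← hg, cent1_conj]; exact conj_mem_conj hx.2 g
    by_cases e : g * x * g⁻¹ ∈ 𝐂[t]
    exacts [Or.inr ⟨h1, e⟩, Or.inl ⟨P4.conj_sq hx.1 g, h1, e⟩]
  have c4 : {j | j * j = 1 ∧ j ∈ 𝐂[t]}.ncard + {j | j * j = 1 ∧ j ∉ 𝐂[t]}.ncard ≤
      (𝐂[t] : Subgroup G).index + 1 := by
    rw [← Set.ncard_union_eq (Set.disjoint_left.2 fun j h1 h2 => h2.2 h1.2), ← relIndex_top_right,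
      ← card_class]
    refine le_trans (Set.ncard_le_ncard fun j hj => ?_) (Set.ncard_insert_le 1 _)
    by_cases j1 : j = 1
    exacts [Or.inl j1, Or.inr (h.class_t.2 ⟨j1, hj.elim (·.1) (·.1)⟩)]
  rw [c0] at c1
  have := Nat.mul_le_mul_right c (show c ≤ {j | j * j = 1 ∧ j ∈ 𝐂[s] ∧ j ∉ 𝐂[t]}.ncard + 2 by omega)
  nlinarith

end St

end Cfsg.Agent.H6.Cyc
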