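/-
The semidihedral case: a virtual character of norm 3 and the final count.
-/
import Cfsg.Agent.H6.Cyc13
import Cfsg.Agent.P8.JChar
import Cfsg.Agent.P1.B_1

set_option autoImplicit false
set_option linter.unusedSectionVars false
set_option linter.style.haveILetI false

namespace Cfsg.Agent.H6.Cyc

open Subgroup Cfsg Cfsg.Agent Cfsg.Agent.FT
open Cfsg.Agent.P4 (odd_iff_not_dvd Max2)
open Cfsg.Agent.P5 (V4 Tri)
open Cfsg.Agent.P7 (V2)
open Cfsg.Agent.P3 (theta Fsum)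
open Cfsg.Agent.H2 (pPrimeCoreOf)
open scoped commutatorElement

universe u

variable {G : Type u} [Group G] [Finite G]

/-- `l` is a nonreal linear character of `C`; the elements outside its kernel form a trivial
intersection set with normalizer `C ∪ s C`. -/
structure DT (C : Subgroup G) (s y : G) (l : G → ℂ) : Prop where
  lin : IsLin C l
  sN : s ∈ 𝐍(C)
  sC : s ∉ C
  yC : y ∈ C
  inv : l (s⁻¹ * y * s) = l y⁻¹
  ne : l y ^ 2 ≠ 1
  ti : ∀ a ∈ C, l a ≠ 1 → ∀ g, g⁻¹ * a * g ∈ C → g ∈ C ∨ s⁻¹ * g ∈ C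

namespace DT

variable {C : Subgroup G} {s y : G} {l : G → ℂ} (h : DT C s y l)
include h

theorem ind_apply {α : G → ℂ} (hα : α ∈ CF C) {a : G} (ha : a ∈ C) (h4 : l a ≠ 1) :
    ind ⊤ C α a = α a + α (s⁻¹ * a * s) := by
  rw [ind_of_mem _ _ (mem_top a), res_of_mem_CF hα,
    sum_fs_diff (A := C) fun _ _ => mem_top _,
    ← sum_fs_subset (A := (s * ·) '' C) (B := _ \ _) (by
      rintro _ ⟨c, hc, rfl⟩
      exact ⟨mem_top _, fun e => h.sC ((mul_mem_cancel_right hc).mp e)⟩) (fun g hg hg' => by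
      by_contra e
      rcases h.ti a ha h4 g (by_contra fun e' => e (CF_off hα e')) with e' | e'
      · exact hg.2 e'
      · exact hg' ⟨_, e', mul_inv_cancel_left s g⟩),
    ← sum_fs_bij (s * ·) (mul_right_injective s).injOn.bijOn_image,
    sum_fs_congr fun c hc => CF_conj' hα hc a, sum_fs_const,
    sum_fs_congr (g := fun _ => α (s⁻¹ * a * s)) fun c hc => by
      rw [← CF_conj' hα hc (s⁻¹ * a * s)]; congr 1; group,
    sum_fs_const, nsmul_eq_mul, nsmul_eq_mul, ← mul_add,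
    inv_mul_cancel_left₀ (card_ne_zero_C _)]

theorem ne_cf1 : cf1 C ≠ l := fun e => h.ne (by rw [← e, cf1_of_mem h.yC, one_pow])

theorem nsq_theta : nsq ⊤ (theta C l) = 3 := by
  have hl := h.lin
  have hα : cf1 C - l ∈ VChar C := sub_mem (cf1_mem_VChar _) hl.isChar.mem_VChar
  have hl' := hl.cfConj_of_norm h.sN
  have h5 : cfConj s l y = l y⁻¹ := by rw [cfConj_apply, h.inv]
  have h6 := hl.mul_inv h.yC
  have n1 := h.ne_cf1
  have n2 : cf1 C ≠ cfConj s l := fun e => h.ne (by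
    rw [← h5, ← e, cf1_of_mem h.yC, mul_one] at h6; rw [h6, one_pow])
  have n3 : l ≠ cfConj s l := fun e => h.ne (by rwa [← h5, ← e, ← pow_two] at h6)
  have i1 := cf1_mem_Irr C
  refine nsq_eq_of_ip ?_
  rw [theta, ip_ind_left le_top _ (ind_mem_CF _ _ _), ip_congr_of_supp
    (A := {g | g ∈ C ∧ l g ≠ 1}) (fun g hg hg' => by
      rw [Pi.sub_apply, cf1_of_mem hg, not_not.1 fun e => hg' ⟨hg, e⟩, sub_self])
    (ψ' := cf1 C - l + (cf1 C - cfConj s l)) fun a ha => by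
      rw [h.ind_apply (vchar_mem_CF hα) ha.1 ha.2, ← cfConj_apply s (cf1 C - l) a, map_sub,
        cfConj_cf1_of_norm h.sN, Pi.add_apply]]
  simp only [ip_sub_left, ip_sub_right, ip_add_right, ip_irr_self i1, ip_irr_self hl.mem_Irr,
    ip_irr_of_ne i1 hl.mem_Irr n1, ip_irr_of_ne hl.mem_Irr i1 n1.symm,
    ip_irr_of_ne i1 hl'.mem_Irr n2, ip_irr_of_ne hl.mem_Irr hl'.mem_Irr n3]
  norm_num

theorem ip_theta : ip ⊤ (theta C l) (cf1 ⊤) = 1 := by
  have i1 := cf1_mem_Irr C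
  rw [theta, ip_ind_left le_top _ (cf1_mem_CF _), ← ip_res_right, res_cf1 le_top, ip_sub_left,
    ip_irr_self i1, ip_irr_of_ne h.lin.mem_Irr i1 h.ne_cf1.symm, sub_zero]

theorem Fsum_theta {t z : G} {J : Set G} (hJ : J ⊆ classSupp {t} ⊤)
    (h1 : ∀ u ∈ classSupp {t} ⊤, ∀ v ∈ classSupp {t} ⊤, u * v ∈ C → l (u * v) ≠ 1 → u ∈ J ∧ v ∈ J)
    (h2 : ∀ u ∈ J, ∀ v ∈ J, u * v ∈ C) (zC : z ∈ C) (lz : l z ≠ 1) (h3 : ∀ u, z * u ∈ J ↔ u ∈ J) :
    𝐨(C) * Fsum t (theta C l) = 𝐨(𝐂[t]) ^ 2 * J.ncard ^ 2 := by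
  have h0 : ∀ u ∈ classSupp {t} ⊤, ∀ v ∈ classSupp {t} ⊤, ¬ (u ∈ J ∧ v ∈ J) →
      res C (cf1 C - l) (u * v) = 0 := fun u hu v hv e => by
    by_cases h4 : u * v ∈ C
    · rw [res_of_mem _ h4, Pi.sub_apply, cf1_of_mem h4, not_not.1 fun e' => e (h1 u hu v hv h4 e'),
        sub_self]
    · exact res_of_notMem _ h4
  have h4 : ∀ v ∈ J, ∑ u ∈ fs J, l (u * v) = 0 := fun v hv => by
    have h5 := sum_fs_bij (A := J) (B := J) (z * ·) ⟨fun u hu => (h3 u).2 hu,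
      (mul_right_injective z).injOn, fun u hu => ⟨z⁻¹ * u, (h3 _).1 (by simpa using hu), by simp⟩⟩
      fun u => l (u * v)
    rw [sum_fs_congr (g := fun u => l z * l (u * v)) fun u hu => by
      rw [mul_assoc, h.lin.2.2 z zC _ (h2 u hu v hv)], ← Finset.mul_sum] at h5
    by_contra e
    exact lz ((mul_eq_right₀ e).1 h5)
  rw [theta, P8.Fsum_ind, ← sum_fs_subset hJ fun v hv hv' => Finset.sum_eq_zero fun u hu =>
      h0 u (mem_fs.1 hu) v hv fun e => hv' e.2,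
    sum_fs_congr (g := fun _ => (J.ncard : ℂ)) fun v hv => by
      rw [← sum_fs_subset hJ fun u hu hu' => h0 u hu v (hJ hv) fun e => hu' e.1,
        sum_fs_congr (g := fun u => 1 - l (u * v)) fun u hu => by
          rw [res_of_mem _ (h2 u hu v hv), Pi.sub_apply, cf1_of_mem (h2 u hu v hv)],
        Finset.sum_sub_distrib, h4 v hv, Finset.sum_const, card_fs]
      simp,
    Finset.sum_const, card_fs, nsmul_eq_mul, ← pow_two]

end DT

theorem three_bound (t : G) {α β : G → ℂ} (hα : Dirr ⊤ α) (hβ : Dirr ⊤ β)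
    (h1 : ip ⊤ α (cf1 ⊤) = 0) (h2 : ip ⊤ β (cf1 ⊤) = 0) (h3 : ip ⊤ α β = 0) :
    1 + ‖α t‖ ^ 2 + ‖β t‖ ^ 2 ≤ 𝐨(𝐂[t]) := by
  classical
  obtain ⟨ε, hε, χ, hχ, rfl⟩ := hα.exists_sign
  obtain ⟨δ, hδ, ψ, hψ, rfl⟩ := hβ.exists_sign
  have i1 := cf1_mem_Irr (⊤ : Subgroup G)
  have n1 : cf1 ⊤ ≠ χ := by
    rintro rfl
    rcases hε with rfl | rfl <;> simp [ip_irr_self i1] at h1
  have n2 : cf1 ⊤ ≠ ψ := by
    rintro rfl
    rcases hδ with rfl | rfl <;> simp [ip_irr_self i1] at h2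
  have n3 : χ ≠ ψ := by
    rintro rfl
    rcases hε with rfl | rfl <;> rcases hδ with rfl | rfl <;> simp [ip_irr_self hχ] at h3
  have h4 := Finset.sum_le_sum_of_subset_of_nonneg (s := {cf1 ⊤, χ, ψ}) (t := Irr ⊤)
    (f := fun χ : G → ℂ => ‖χ t‖ ^ 2) (by simp [Finset.insert_subset_iff, i1, hχ, hψ])
    fun _ _ _ => sq_nonneg _
  rw [sum_irr_norm_sq (mem_top t), top_inf_eq, Finset.sum_insert (by simp [n1, n2]),
    Finset.sum_pair n3] at h4
  rcases hε with rfl | rfl <;> rcases hδ with rfl | rfl <;> simpa [add_assoc] using h4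

theorem order_formula {t : G} (ht : P6.Inv t) {θ : G → ℂ} (hθ : θ ∈ VChar ⊤) (h3 : nsq ⊤ θ = 3)
    (h1 : ip ⊤ θ (cf1 ⊤) = 1) (h0 : θ 1 = 0) (h2 : θ t = 0) {T : ℕ} (hT : Fsum t θ = T) :
    ∃ a r : ℤ, a * (a + 1) ≠ 0 ∧ 1 + r ^ 2 + (r + 1) ^ 2 ≤ 𝐨(𝐂[t]) ∧
      Nat.card G * (a - r) ^ 2 = T * (a * (a + 1)) := by
  obtain ⟨α, β, hα, hβ, o1, o2, o3, rfl⟩ := P1.BS.exists_three hθ h3 h1
  have hb := three_bound t hα hβ o1 o2 o3
  obtain ⟨a, r, a1, a2, a3, -, -⟩ := P8.dirr_int ht hα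
  obtain ⟨b, q, b1, b2, b3, -, -⟩ := P8.dirr_int ht hβ
  simp only [Pi.add_apply, cf1_top_apply, a1, a2, b1, b2] at h0 h2
  obtain rfl : b = -(a + 1) := by
    have : 1 + a + b = 0 := by exact_mod_cast h0
    omega
  obtain rfl : q = -(r + 1) := by
    have : 1 + r + q = 0 := by exact_mod_cast h2
    omega
  have h4 := P3.Fsum_dirr t hα
  have h5 := P3.Fsum_dirr t hβ
  have h6 := P3.Fsum_dirr t (X := cf1 ⊤) (Or.inl (cf1_mem_Irr _))
  rw [P3.Fsum_add, P3.Fsum_add] at hT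
  simp only [cf1_top_apply, a1, a2, b1, b2] at h4 h5 h6
  rw [a2, b2, Complex.norm_intCast, Complex.norm_intCast, sq_abs, sq_abs] at hb
  refine ⟨a, r, mul_ne_zero a3 (by omega), by rw [← neg_sq (r + 1)]; exact_mod_cast hb, ?_⟩
  have h7 : (Nat.card G : ℂ) * (a - r) ^ 2 = T * (a * (a + 1)) := by
    push_cast at h5
    linear_combination (a * (a + 1) : ℂ) * hT - (a + 1) * h4 + a * h5 - a * (a + 1) * h6
  exact_mod_cast h7

theorem numeric0 {x m c r : ℤ} (hx : 0 < x) (hc : 0 < c) (hm : 144 * x ^ 2 + 1 ≤ m + 12 * x)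
    (hr : 1 + r ^ 2 + (r + 1) ^ 2 ≤ 48 * x)
    (e : 6 * m * c ^ 2 = (24 * x * c + r) * (24 * x * c + r + 1)) : False := by
  have h1 : 2 * r + 1 ≤ 5 * x + 4 := by nlinarith
  have h2 : c ^ 2 * (288 * x ^ 2 - 72 * x + 6) ≤ 24 * x * c * (2 * r + 1) + r * (r + 1) := by
    nlinarith [sq_nonneg c]
  have h3 : c * (288 * x ^ 2 - 72 * x + 6) ≤ 24 * x * (5 * x + 4) + 24 * x := by
    by_contra h0
    nlinarith [mul_le_mul_of_nonneg_left h1 (show 0 ≤ 24 * x * c by positivity)]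
  have h5 := le_mul_of_one_le_left (show 0 ≤ 288 * x ^ 2 - 72 * x + 6 by nlinarith)
    (show 1 ≤ c by omega)
  obtain rfl : x = 1 := by nlinarith
  obtain rfl : c = 1 := by omega
  have h4 : 4 ≤ r := by nlinarith
  obtain rfl : r = 4 := by omega
  omega

theorem numeric {x m : ℕ} {a r : ℤ} (hx : 0 < x) (hm : 12 * x * (12 * x) + 1 ≤ m + 12 * x)
    (hc : m.Coprime (48 * x)) (h0 : a * (a + 1) ≠ 0) (hr : 1 + r ^ 2 + (r + 1) ^ 2 ≤ 48 * x)
    (e : (48 * x * m : ℤ) * (a - r) ^ 2 = 4608 * x ^ 3 * (a * (a + 1))) : False := by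
  have x0 : (0 : ℤ) < x := by exact_mod_cast hx
  have e1 : m * (a - r) ^ 2 = 96 * x ^ 2 * (a * (a + 1)) :=
    mul_left_cancel₀ (show (48 * x : ℤ) ≠ 0 by omega) (by linear_combination e)
  have h1 : (96 * x ^ 2 : ℤ) ∣ (a - r) ^ 2 := by
    refine IsCoprime.dvd_of_dvd_mul_left (y := (m : ℤ)) ?_ ⟨_, e1⟩
    have h2 : (96 * x ^ 2).Coprime m := (hc.symm.pow_left 2).coprime_dvd_left ⟨24, by ring⟩
    exact_mod_cast Nat.isCoprime_iff_coprime.2 h2
  obtain ⟨k, hk⟩ : (4 * x : ℤ) ∣ a - r := (Int.pow_dvd_pow_iff two_ne_zero).1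
    (Dvd.dvd.trans ⟨6, by ring⟩ h1)
  have h2 : (6 : ℤ) ∣ k ^ 2 := by
    refine Int.dvd_of_mul_dvd_mul_left (a := 16 * x ^ 2) (by positivity) ?_
    convert h1 using 1
    · ring
    · rw [hk]; ring
  obtain ⟨c, rfl⟩ : (6 : ℤ) ∣ k := IsCoprime.mul_dvd (x := 2) (y := 3) (by norm_num)
    (Int.prime_two.dvd_of_dvd_pow (Dvd.dvd.trans (by norm_num) h2))
    (Int.prime_three.dvd_of_dvd_pow (Dvd.dvd.trans (by norm_num) h2))
  obtain rfl : a = 24 * x * c + r := by linarith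
  have e2 : 6 * m * c ^ 2 = (24 * x * c + r) * (24 * x * c + r + 1) :=
    mul_left_cancel₀ (show (96 * x ^ 2 : ℤ) ≠ 0 by positivity) (by linear_combination e1)
  have hm' : 144 * (x : ℤ) ^ 2 + 1 ≤ m + 12 * x := by
    have : (12 * x * (12 * x) + 1 : ℤ) ≤ m + 12 * x := by exact_mod_cast hm
    linarith
  rcases lt_trichotomy c 0 with h | rfl | h
  · exact numeric0 (c := -c) (r := -r - 1) x0 (by omega) hm' (by linarith) (by linear_combination e2)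
  · exact h0 (by rw [← e2]; ring)
  · exact numeric0 x0 h hm' hr e2

end Cfsg.Agent.H6.Cyc
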