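/-
The semidihedral case is impossible; simple groups with cyclic odd Sylow subgroups.
-/
import Cfsg.Agent.H6.Cyc14
import Cfsg.Agent.P5.Final

set_option autoImplicit false
set_option linter.unusedSectionVars false
set_option linter.style.haveILetI false

namespace Cfsg.Agent.H6.Cyc

open Subgroup Cfsg Cfsg.Agent Cfsg.Agent.FT
open Cfsg.Agent.P4 (odd_iff_not_dvd Max2)
open Cfsg.Agent.P5 (V4 Tri)
open Cfsg.Agent.P7 (V2)
open Cfsg.Agent.P3 (theta Fsum)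
open Cfsg.Agent.H2 (pPrimeCoreOf)
open scoped commutatorElement

universe u

variable {G : Type u} [Group G] [Finite G]

namespace St

variable {S : Subgroup G} {a t s : G} (h : St S a t s) (hd : s * a * s ≠ a⁻¹)
  (hs : Group.IsSolvable 𝐂[t])
include h hd hs

theorem uniq_K {x : G} (hx : x ∈ 𝐂[a * a]) (x1 : x ≠ 1) (xx : x * x = 1) : x = t := by
  obtain ⟨c, hc, h1⟩ := (h.syl_K hd hs).exists_conj_le Nat.prime_two
    (P4.isPGroup_zpowers_of_sq xx) (zpowers_le_of_mem hx)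
  have h2 := (h.m.uniq (h1 (conj_mem_conj (mem_zpowers x) c)) (P4.conj_sq xx c)).resolve_left
    (P4.conj_ne_one x1 c)
  rw [← mem_cent1_iff_conj.1 (h.KH hd hs (KN _ hc))] at h2
  simpa using h2

theorem four_K {w : G} (hw : w ∈ 𝐂[a * a]) (w4 : orderOf w = 4) :
    zpowers w = zpowers (a * a) := by
  have ww : w * w = t := h.uniq_K hd hs (mul_mem hw hw) (fun e => by
    have := w4 ▸ orderOf_dvd_of_pow_eq_one ((pow_two w).trans e)
    omega) (by rw [← pow_two, ← pow_two, ← pow_mul]; exact orderOf_dvd_iff_pow_eq_one.1 w4.dvd)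
  obtain ⟨c, hc, h1⟩ := (h.syl_K hd hs).exists_conj_le Nat.prime_two
    (two_of_sq h.syl.pgrp (ww ▸ h.tS)) (zpowers_le_of_mem hw)
  have h2 := cyc2 inferInstance h.uT (h1 (conj_mem_conj (mem_zpowers w) c)) (by
    rw [conj_mul, ww, h.uu hd hs, mem_cent1_iff_conj.1 (h.KH hd hs (KN _ hc))]) (h.a4' hd)
    (by rw [h.uu hd hs, h.zz])
  refine eq_of_le_of_card_ge (zpowers_le_of_mem ((mem_normalizer_iff.1 (KN _ hc) w).2 h2)) ?_
  rw [Nat.card_zpowers, Nat.card_zpowers, w4, order_four (h.uu hd hs) h.z1 h.zz]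

theorem u_mem {x : G} (hx : x ∈ 𝐂[a * a]) (h4 : 4 ∣ orderOf x) : a * a ∈ zpowers x :=
  zpowers_le_of_mem (npow_mem_zpowers x _) ((h.four_K hd hs (pow_mem hx _)
    (P1.BS.orderOf_pow_div h4)).ge (mem_zpowers _))

theorem s_K : s ∉ 𝐂[a * a] := h.not_cent_u h.uT (h.uu hd hs) h.sS h.sx

theorem ti_K {x g : G} (hx : x ∈ 𝐂[a * a]) (h4 : 4 ∣ orderOf x) (hg : g⁻¹ * x * g ∈ 𝐂[a * a]) :
    g ∈ 𝐂[a * a] ∨ s⁻¹ * g ∈ 𝐂[a * a] := by
  have h1 := conj_mem_conj (h.u_mem hd hs hx h4) g⁻¹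
  rw [← zpowers_conj, inv_inv] at h1
  have h2 := (h.four_K hd hs (zpowers_le_of_mem hg h1) (by
    rw [← order_four (h.uu hd hs) h.z1 h.zz, ← ord_conj (a * a) g⁻¹, inv_inv])).le (mem_zpowers _)
  have h3 : g ∈ 𝐍(zpowers (a * a)) := inv_mem_iff.1 (mem_norm_zpowers (by rwa [inv_inv]))
  rw [mul2 (h.idxK hd hs) (inv_mem (h.norm_u h.uT h.sS)) h3, inv_mem_iff]
  have := h.s_K hd hs
  tauto

theorem out_K {j : G} (hj : j * (a * a) * j⁻¹ = (a * a)⁻¹) : j ∉ 𝐂[a * a] := fun e =>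
  h.a4' hd (by rwa [mem_cent1_iff_conj.1 e, ← mul_eq_one_iff_eq_inv] at hj)

theorem J_eq : {j | j * j = 1 ∧ j * (a * a) * j⁻¹ = (a * a)⁻¹} =
    classSupp {s} 𝐍(zpowers (a * a)) := by
  have h0 : s * (a * a) * s⁻¹ = (a * a)⁻¹ := by rw [h.m.s_inv, h.s_sq]
  ext j
  rw [CH1.mem_class]
  refine ⟨fun ⟨jj, hj⟩ => ?_, ?_⟩
  · have jN : j ∈ 𝐍(zpowers (a * a)) := mem_norm_zpowers (hj ▸ inv_mem (mem_zpowers _))
    obtain ⟨c, hc, h1⟩ := (h.syl.of_le (h.norm_u h.uT) le_top).exists_conj_le Nat.prime_two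
      (P4.isPGroup_zpowers_of_sq jj) (zpowers_le_of_mem jN)
    have h2 : c * j * c⁻¹ ∉ zpowers a := fun e => h.out_K hd hs hj (by
      have h3 := (h.syl_K hd hs).le e
      rwa [mul2 (h.idxK hd hs) (mul_mem hc jN) (inv_mem hc), mul2 (h.idxK hd hs) hc jN,
        inv_mem_iff, iff_comm, ← iff_assoc, iff_self, true_iff] at h3)
    obtain ⟨k, hk⟩ := mem_zpowers_iff.1 ((h.sq_iff hd (h1 (conj_mem_conj (mem_zpowers j) c)) h2).2
      (P4.conj_sq jj c))
    have e3 : s * a * s⁻¹ = a * a * a := by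
      rw [h.m.s_inv, h.m.cases.resolve_left hd, ← h.uu hd hs]; group
    refine ⟨c⁻¹ * a ^ k, mul_mem (inv_mem hc) (zpow_mem (h.norm_u h.uT h.xS) k), ?_⟩
    have e4 : s * a ^ k * s⁻¹ = (a * a) ^ k * a ^ k := by
      rw [← conj_zpow, e3, ((Commute.refl a).mul_left (Commute.refl a)).mul_zpow]
    rw [hk, h.m.s_inv] at e4
    calc _ = c⁻¹ * s⁻¹ * (s * a ^ k * s) * (a ^ k)⁻¹ * c := by group
      _ = j := by rw [e4]; group
  · rintro ⟨g, hg, rfl⟩
    refine ⟨P4.conj_sq h.ss g, ?_⟩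
    have h1 := P5.inverts_of_mem_zpowers h0 (conj_mem (inv_mem hg) (mem_zpowers _))
    calc _ = g * (s * (g⁻¹ * (a * a) * g⁻¹⁻¹) * s⁻¹) * g⁻¹ := by group
      _ = _ := by rw [h1]; group

theorem card_J : {j | j * j = 1 ∧ j * (a * a) * j⁻¹ = (a * a)⁻¹}.ncard =
    4 * 𝐨(pPrimeCoreOf 2 𝐂[a * a]) := by
  have h1 := H1.card_inf_mul_relIndex 𝐂[s] 𝐍(zpowers (a * a))
  have h2 : 𝐂[s] ⊓ 𝐍(zpowers (a * a)) = V2 t s := le_antisymm
    ((inf_le_inf_left _ (h.KH hd hs)).trans (h.inf_V hd hs).le) (le_inf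
      ((h.inf_V hd hs).ge.trans inf_le_left) ((V4.le_iff.2 ⟨h.tS, h.sS⟩).trans (h.norm_u h.uT)))
  rw [h2, h.v4.card, ← H1.card_mul_relIndex (KN (a * a)), h.idxK hd hs, h.card_K hd hs] at h1
  rw [h.J_eq hd hs, card_class]
  omega

theorem exists_lin : ∃ l : G → ℂ, IsLin 𝐂[a * a] l ∧ l (a * a) ≠ 1 ∧
    ∀ g ∈ 𝐂[a * a], ¬ 4 ∣ orderOf g → l g = 1 := by
  obtain ⟨P, hP⟩ := (h.syl_K hd hs).exists_sylow Nat.prime_two
  obtain ⟨f, hf1, hf2⟩ := P1.BS.exists_hom P (by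
    rw [← isCyclic_map_iff (Subgroup.subtype_injective _), hP,
      map_subgroupOf_eq_of_le (h.syl_K hd hs).le]
    infer_instance) (z := ⟨a * a, self_mem_cent1 _⟩) (by
      rw [orderOf_mk, order_four (h.uu hd hs) h.z1 h.zz])
  refine ⟨_, isLin_extendByZero f, ?_, fun g hg hg' => ?_⟩
  · rw [H6.extendByZero_of_mem _ _ (self_mem_cent1 _)]
    exact fun e => hf1 (Units.ext e)
  · rw [H6.extendByZero_of_mem _ _ hg, hf2 _ (by rwa [orderOf_mk]), Units.val_one]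

theorem sd_false {n : ℕ} (ih : IH.{u} n) (hn : Nat.card G ≤ n) : False := by
  obtain ⟨l, hl, lu, l4⟩ := h.exists_lin hd hs
  have aK := (h.syl_K hd hs).le (mem_zpowers a)
  have tK := (h.syl_K hd hs).le h.zx
  have four : ∀ g ∈ 𝐂[a * a], l g ≠ 1 → 4 ∣ orderOf g := fun g hg e => by_contra fun e' =>
    e (l4 g hg e')
  have two : ∀ g ∈ 𝐂[a * a], g * g = 1 → l g = 1 := fun g hg e => l4 g hg fun e' => by
    have := e'.trans (orderOf_dvd_of_pow_eq_one ((pow_two g).trans e))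
    omega
  have hD : DT 𝐂[a * a] s a l := ⟨hl, (cent_zpowers (a * a) ▸
      H1.normalizer_le_normalizer_centralizer _ :) (h.norm_u h.uT h.sS), h.s_K hd hs, aK, by
      rw [h.m.s_inv, h.m.cases.resolve_left hd, hl.2.2 _ (inv_mem aK) _ tK, two t tK h.zz, mul_one],
    by rwa [pow_two, ← hl.2.2 a aK a aK], fun x hx e g hg => h.ti_K hd hs hx (four x hx e) hg⟩
  have h1 := hD.Fsum_theta (t := t) (J := {j | j * j = 1 ∧ j * (a * a) * j⁻¹ = (a * a)⁻¹})
    (fun j hj => h.class_t.2 ⟨fun e => h.out_K hd hs hj.2 (e ▸ one_mem _), hj.1⟩)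
    (fun u hu v hv e e' => by
      have h3 := h.u_mem hd hs e (four _ e e')
      have uu := (h.class_t.1 hu).2
      have vv := (h.class_t.1 hv).2
      exact ⟨⟨uu, P5.inverts_of_mem_zpowers (by
        rw [mul_inv_rev, P5.inv_eq_of_sq uu, P5.inv_eq_of_sq vv, ← mul_assoc, uu, one_mul]) h3⟩,
        vv, P5.inverts_of_mem_zpowers (by
          rw [mul_inv_rev, P5.inv_eq_of_sq uu, mul_assoc, mul_inv_cancel_right,
            P5.inv_eq_of_sq vv]) h3⟩)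
    (fun u hu v hv => mem_cent1_iff_conj.2 (by
      rw [show u * v * (a * a) * (u * v)⁻¹ = u * (v * (a * a) * v⁻¹) * u⁻¹ by group, hv.2,
        ← conj_inv, hu.2, inv_inv])) (self_mem_cent1 _) lu
    (fun u => by
      generalize a * a = y
      have e1 : y * u * y * (y * u)⁻¹ = y⁻¹ ↔ u * y * u⁻¹ = y⁻¹ := by
        rw [show y * u * y * (y * u)⁻¹ = y * (u * y * u⁻¹) * y⁻¹ by group]
        simp [mul_eq_one_iff_inv_eq, eq_comm]
      simp only [Set.mem_ofPred_eq, e1]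
      refine and_congr_left fun e => ?_
      rw [show y * u * (y * u) = y * (u * y * u⁻¹) * (u * u) by group, e, mul_inv_cancel, one_mul])
  have h0 : ∀ g : G, g * g = 1 → theta 𝐂[a * a] l g = 0 := fun g gg =>
    ind_apply_eq_zero fun y _ hy => by
      rw [Pi.sub_apply, cf1_of_mem hy, two _ hy (by simpa using P4.conj_sq gg y⁻¹), sub_self]
  have cH := h.card_H hd hs
  have hc := h.cop_index hd hs ih hn
  rw [h.card_K hd hs] at cH
  have hm := h.index_ge hd hs ih hn (c := 12 * 𝐨(pPrimeCoreOf 2 𝐂[a * a])) (by omega)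
  rw [h.card_J hd hs, h.card_K hd hs, cH] at h1
  have hx : 0 < 𝐨(pPrimeCoreOf 2 𝐂[a * a]) := Nat.card_pos
  have hG := card_mul_index (𝐂[t] : Subgroup G)
  generalize 𝐨(pPrimeCoreOf 2 𝐂[a * a]) = x at *
  obtain ⟨b, r, h2, h3, h4⟩ := order_formula ⟨h.z1, h.zz⟩ (P3.theta_vchar hl.mem_Irr) hD.nsq_theta
    hD.ip_theta (h0 1 (mul_one 1)) (h0 t h.zz) (T := 4608 * x ^ 3) (mul_left_cancel₀
      (show ((x * 8 : ℕ) : ℂ) ≠ 0 by exact_mod_cast (by omega : x * 8 ≠ 0)) (by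
        rw [h1]; push_cast; ring))
  rw [← hG] at h4
  rw [cH] at h3 h4 hc
  exact numeric (r := r) hx hm (by rwa [show 48 * x = x * 8 * 6 by ring]) h2 (by push_cast at h3; linarith)
    (by push_cast at h4; linear_combination h4)

end St

theorem ih_all (n : ℕ) : IH.{u} n := by
  induction n with
  | zero => exact fun K _ _ h => absurd h (Nat.not_lt_zero _)
  | succ n ih =>
    intro K _ _ hn hz hs na
    by_cases h8 : 8 ∣ Nat.card K
    · obtain ⟨S, a, t, s, h⟩ := exists_st hz na h8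
      by_cases hd : s * a * s = a⁻¹
      · exact h.dih hd ih (Nat.lt_succ_iff.1 hn)
      · exact (h.sd_false hd (h.solv_H ih (Nat.lt_succ_iff.1 hn)) ih (Nat.lt_succ_iff.1 hn)).elim
    · exact P5.gw4 na h8

end Cfsg.Agent.H6.Cyc
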