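/-
Nonsolvable groups whose Sylow subgroups are almost cyclic.
-/
import Cfsg.Agent.H6.Cyc15

set_option autoImplicit false
set_option linter.unusedSectionVars false
set_option linter.style.haveILetI false

namespace Cfsg.Agent.H6.Cyc

open Subgroup Cfsg Cfsg.Agent Cfsg.Agent.FT
open Cfsg.Agent.H2 (pPrimeCoreOf)

universe u

variable {G : Type u} [Group G] [Finite G]

theorem zc_of (hodd : ∀ p : ℕ, p.Prime → p ≠ 2 → ∀ P : Sylow p G, IsCyclic P)
    (h2 : ∀ S : Sylow 2 G, ∃ C : Subgroup ↥(S : Subgroup G), IsCyclic C ∧ C.index ∣ 2) :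
    ZC G where
  odd hp p2 P hP := by
    obtain ⟨Q, hQ⟩ := hP.exists_le_sylow
    exact FT.isCyclic_of_le hQ (hodd _ hp p2 Q)
  two {R} hR := by
    obtain ⟨Q, hQ⟩ := hR.exists_le_sylow
    obtain ⟨C, hC, hi⟩ := h2 Q
    have h1 : IsCyclic (R ⊓ C.map (Q : Subgroup G).subtype : Subgroup G) :=
      FT.isCyclic_of_le inf_le_right ((isCyclic_map_iff (Subgroup.subtype_injective _)).2 hC)
    obtain ⟨a, ha⟩ := (Subgroup.isCyclic_iff_exists_zpowers_eq_top _).1 h1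
    refine ⟨a, (ha.le (mem_zpowers a)).1, fun x hx y hy => ?_⟩
    have h3 : ∀ z (hz : z ∈ R), z ∈ zpowers a ↔ (⟨z, hQ hz⟩ : (Q : Subgroup G)) ∈ C := fun z hz => by
      rw [ha, mem_inf, ← mem_map_iff_mem (Subgroup.subtype_injective _)]
      exact and_iff_right hz
    rw [h3 x hx, h3 y hy, h3 _ (mul_mem hx hy)]
    rcases (Nat.dvd_prime Nat.prime_two).1 hi with e | e
    · exact fun _ _ => index_eq_one.1 e ▸ mem_top _
    · exact fun h4 h5 => (mul_mem_iff_of_index_two e).2 (iff_of_false h4 h5)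

theorem s4069 (hns : ¬ Group.IsSolvable G) (hz : ZC G) :
    ∃ G₀ : Subgroup G, G₀.Normal ∧ G₀.index ∣ 2 ∧
      ∃ X L : Subgroup ↥G₀, X.Normal ∧ L.Normal ∧ X ⊓ L = ⊥ ∧ X ⊔ L = ⊤ ∧
        (Nat.card X).Coprime (Nat.card L) ∧ Odd (Nat.card X) ∧
        (∃ (C : Subgroup ↥X) (_ : C.Normal), IsCyclic C ∧ IsCyclic (↥X ⧸ C)) ∧
        ∃ (p : ℕ) (_ : Fact p.Prime), 5 ≤ p ∧
          (Nonempty (↥L ≃* Matrix.ProjectiveSpecialLinearGroup (Fin 2) (ZMod p)) ∨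
           Nonempty (↥L ≃* Matrix.SpecialLinearGroup (Fin 2) (ZMod p))) := by
  obtain ⟨L, d, r, k, l, ns⟩ := hz.ns (ih_all _) (N := ⊤) (fun h => hns (by
    haveI := h
    exact Group.isSolvable_of_surjective (f := (⊤ : Subgroup G).subtype)
      fun x => ⟨⟨x, mem_top x⟩, rfl⟩)) (Nat.lt_succ_self _)
  haveI : L.Normal := normalizer_eq_top_iff.1 (top_le_iff.1 ns.nL.2)
  haveI : (pPrimeCoreOf 2 (⊤ : Subgroup G)).Normal :=
    normalizer_eq_top_iff.1 (top_le_iff.1 (pPrimeCoreOf_normal 2 ⊤).2)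
  have eX := subgroupOfEquivOfLe (le_sup_left : pPrimeCoreOf 2 ⊤ ≤ pPrimeCoreOf 2 ⊤ ⊔ L)
  have eL := subgroupOfEquivOfLe (le_sup_right : L ≤ pPrimeCoreOf 2 ⊤ ⊔ L)
  have hc := ns.cop
  rw [← Nat.card_congr eX.toEquiv, ← Nat.card_congr eL.toEquiv] at hc
  haveI := hz.zgroup (odd_core (⊤ : Subgroup G))
  haveI := IsZGroup.of_injective (f := eX.toMonoidHom) eX.injective
  obtain ⟨hr, π, cv⟩ := ns.cv
  refine ⟨_, inferInstance, relIndex_top_right (pPrimeCoreOf 2 ⊤ ⊔ L) ▸ ns.idx,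
    (pPrimeCoreOf 2 ⊤).subgroupOf _, L.subgroupOf _, inferInstance, inferInstance,
    H1.inf_eq_bot_of_coprime' hc, ?_, hc, Nat.card_congr eX.toEquiv ▸ odd_core _,
    ⟨_root_.commutator _, inferInstance, IsZGroup.isCyclic_commutator _,
      IsZGroup.isCyclic_abelianization⟩, r, hr, cv.r5, ?_⟩
  · rw [← subgroupOf_sup le_sup_left le_sup_right, subgroupOf_self]
  · have e := (eL.trans (MulEquiv.subgroupCongr cv.range.symm))
    rcases cv.ker with ⟨-, e'⟩ | ⟨-, e'⟩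
    · exact Or.inl ⟨(e.trans (QuotientGroup.quotientKerEquivRange π).symm).trans
        (QuotientGroup.quotientMulEquivOfEq e')⟩
    · exact Or.inr ⟨e.trans (MonoidHom.ofInjective ((MonoidHom.ker_eq_bot_iff π).1 e')).symm⟩

end Cfsg.Agent.H6.Cyc
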