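import Cfsg.Agent.H1.Small
import Cfsg.Agent.H1.Semidirect
import Cfsg.Agent.H9.FrobAction
import Cfsg.Agent.L.MinNormal

/-!
Products of the orders of fixed point groups under a coprime action of a `p`-group.
-/

set_option autoImplicit false

namespace Cfsg.Agent.H6

open Subgroup H1 H9

theorem prod_card_ker_dvd {W ι : Type*} [CommGroup W] [Finite W] (δ : ι → W →* W)
    (hc : ∀ i j w, δ i (δ j w) = δ j (δ i w))
    (hd : ∀ i j, i ≠ j → ∀ w, δ i w = 1 → δ j w = 1 → w = 1) (S : Finset ι) :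
    ∀ T : Subgroup W, (∀ i, ∀ w ∈ T, δ i w ∈ T) → (∀ i ∈ S, (δ i).ker ≤ T) →
      ∏ i ∈ S, Nat.card (δ i).ker ∣ Nat.card T := by
  classical
  induction S using Finset.induction_on with
  | empty => intro T _ _; simp
  | insert j S hj ih =>
    intro T hT hS
    rw [Finset.prod_insert hj]
    have h1 := ih (T.map (δ j)) (by
      rintro i _ ⟨w, hw, rfl⟩
      exact ⟨δ i w, hT i w hw, hc _ _ _⟩) (fun i hi w hw => by
      have hij : i ≠ j := fun h => hj (h ▸ hi)
      let f : (δ i).ker → (δ i).ker := fun v => ⟨δ j v, by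
        rw [MonoidHom.mem_ker, hc, MonoidHom.mem_ker.1 v.2, map_one]⟩
      have hf : Function.Injective f := fun a b h => by
        have h2 : δ j a = δ j b := congrArg Subtype.val h
        refine Subtype.ext (mul_inv_eq_one.1 (hd i j hij _ (mul_mem a.2 (inv_mem b.2)) ?_))
        rw [map_mul, map_inv, h2, mul_inv_cancel]
      obtain ⟨v, hv⟩ := Finite.surjective_of_injective hf ⟨w, hw⟩
      exact ⟨v, hS i (Finset.mem_insert_of_mem hi) v.2, congrArg Subtype.val hv⟩)
    rw [← card_mul_relIndex (hS j (Finset.mem_insert_self j S)), relIndex_ker]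
    exact Nat.mul_dvd_mul_left _ h1

variable {Γ U : Type*} [Group Γ] [Group U]

theorem mem_fixedSub_zpowers {φ : Γ →* MulAut U} {x : Γ} {u : U} :
    u ∈ fixedSub φ (zpowers x) ↔ φ x u = u := by
  refine ⟨fun h => mem_fixedSub.1 h x (mem_zpowers x), fun h => mem_fixedSub.2 fun b hb => ?_⟩
  have : zpowers x ≤ (MulAction.stabilizer (MulAut U) u).comap φ := zpowers_le.2 h
  exact this hb

theorem card_fixedSub_restrict (φ : Γ →* MulAut U) (V : Subgroup U)
    (hV : ∀ a, ∀ x ∈ V, φ a x ∈ V) (B : Subgroup Γ) :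
    Nat.card (fixedSub (restrictAut φ V hV) B) = Nat.card (V ⊓ fixedSub φ B : Subgroup U) := by
  rw [← card_map_of_injective V.subtype_injective, inf_comm, ← subgroupOf_map_subtype]
  have : fixedSub (restrictAut φ V hV) B = (fixedSub φ B).subgroupOf V := by
    ext v
    simp only [mem_fixedSub, mem_subgroupOf, Subtype.ext_iff, restrictAut_apply]
  rw [this]

theorem card_fixedSub_quot [Finite Γ] [Finite U] (φ : Γ →* MulAut U)
    (hcop : (Nat.card Γ).Coprime (Nat.card U)) (hs : Group.IsSolvable Γ) (N : Subgroup U) [N.Normal]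
    (hN : ∀ a, ∀ x ∈ N, φ a x ∈ N) (B : Subgroup Γ) :
    Nat.card (fixedSub φ B) = Nat.card (fixedSub (restrictAut φ N hN) B) *
      Nat.card (fixedSub (quotAct φ N hN) B) := by
  rw [card_fixedSub_restrict, ← card_inf_mul_relIndex N (fixedSub φ B)]
  congr 1
  conv_lhs => rw [← QuotientGroup.ker_mk' N, relIndex_ker]
  congr 2
  ext y
  obtain ⟨g, rfl⟩ := QuotientGroup.mk'_surjective N y
  constructor
  · rintro ⟨u, hu, h⟩
    rw [← h, mem_fixedSub]
    intro b hb
    rw [QuotientGroup.mk'_apply, quotAct_mk, mem_fixedSub.1 hu b hb]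
  · intro h
    obtain ⟨n, hn, h1⟩ := aut_exists_fixed_mul (φ.comp B.subtype)
      (Nat.Coprime.coprime_dvd_left B.card_subgroup_dvd_card hcop) (Or.inl inferInstance)
      (N := N) (fun a => hN a) (g := g) (fun a => by
        rw [← QuotientGroup.eq]
        exact (mem_fixedSub.1 h a a.2).symm)
    exact ⟨g * n, mem_fixedSub.2 fun b hb => h1 ⟨b, hb⟩, by
      simp [QuotientGroup.mk_mul_of_mem _ hn]⟩

theorem not_dvd_relIndex_fixedSub [Finite Γ] [Finite U] (φ : Γ →* MulAut U)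
    (hcop : (Nat.card Γ).Coprime (Nat.card U)) (hs : Group.IsSolvable Γ) {q : ℕ} [Fact q.Prime]
    (Q : Sylow q U) (hQ : ∀ a, ∀ x ∈ (Q : Subgroup U), φ a x ∈ (Q : Subgroup U)) (B : Subgroup Γ) :
    ¬ q ∣ (Q : Subgroup U).relIndex (fixedSub φ B) := by
  have h := not_dvd_relIndex_centralizer_of_invariant_sylow (A := sdR φ B) (G := sdL φ ⊤)
    (sdR_le_normalizer_top B) (coprime_of_le (coprime_sd hcop) (sdR_le_sdR.2 le_top) le_rfl)
    (Or.inl (isSolvable_of_le (sdR_le_sdR.2 le_top) (isSolvable_sdR_top hs))) (p := q)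
    (P := sdL φ Q) (sdL_le_sdL.2 le_top) (isPGroup_sdL.2 Q.isPGroup')
    (by rw [relIndex_sdL_top]; exact Q.not_dvd_index)
    (sdR_le_normalizer_iff.2 fun b _ => hQ b)
  rwa [sdL_inf_centralizer, sdL_top_inf_centralizer, relIndex_sdL, inf_relIndex_right] at h

theorem prod_card_fixed_dvd_of_irr {p : ℕ} [hp : Fact p.Prime] [Fintype Γ] (hΓ : IsPGroup p Γ)
    {W : Type*} [CommGroup W] [Finite W] (φ : Γ →* MulAut W)
    (hirr : ∀ T : Subgroup W, (∀ a, ∀ x ∈ T, φ a x ∈ T) → T = ⊥ ∨ T = ⊤) :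
    ∏ x : Γ, Nat.card (fixedSub φ (zpowers x)) ^ p ∣
      Nat.card W ^ Nat.card Γ * Nat.card (fixedSub φ ⊤) ^ ((p - 1) * Nat.card Γ) := by
  by_cases h : φ.range = ⊥
  · have h1 : ∀ B, fixedSub φ B = ⊤ := fun B => eq_top_iff.2 fun u _ => mem_fixedSub.2 fun b _ => by
      have : φ b = 1 := by rw [← mem_bot, ← h]; exact ⟨b, rfl⟩
      rw [this]; rfl
    simp only [h1, card_top, Finset.prod_const, Finset.card_univ, Nat.card_eq_fintype_card (α := Γ)]
    rw [← pow_add, ← pow_mul, ← one_add_mul, Nat.add_sub_cancel' hp.1.one_le]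
  haveI := (nontrivial_iff_ne_bot _).2 h
  have hR : IsPGroup p φ.range := hΓ.of_surjective _ φ.rangeRestrict_surjective
  haveI := hR.center_nontrivial
  obtain ⟨⟨⟨_, z, rfl⟩, hz⟩, hz1⟩ := exists_prime_orderOf_dvd_card' (G := center φ.range) p
    ((hR.to_subgroup _).card_eq_or_dvd.resolve_left Finite.one_lt_card.ne')
  have hz2 : orderOf (φ z) = p := by rw [← hz1, ← orderOf_coe, ← orderOf_coe]
  have hz3 : ∀ a, Commute (φ a) (φ z) := fun a =>
    congrArg Subtype.val (mem_center_iff.1 hz ⟨_, a, rfl⟩)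
  have hz4 : ∀ k : ℕ, 0 < k → k < p → ∀ w, (φ z ^ k) w = w → w = 1 := by
    intro k hk0 hk w hw
    obtain h1 | h1 := hirr (fixedSub φ (zpowers (z ^ k))) (fun a u hu => by
      rw [mem_fixedSub_zpowers] at hu ⊢
      rw [← MulAut.mul_apply, map_pow, ← ((hz3 a).pow_right k).eq, MulAut.mul_apply, ← map_pow, hu])
    · rw [← mem_bot, ← h1, mem_fixedSub_zpowers, map_pow, hw]
    · refine (pow_ne_one_of_lt_orderOf hk0.ne' (hz2.symm ▸ hk) (MulEquiv.ext fun u => ?_)).elim
      rw [← map_pow]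
      exact mem_fixedSub_zpowers.1 (h1 ▸ mem_top u)
  refine Dvd.dvd.mul_right ?_ _
  have h2 : ∏ x : Γ, Nat.card (fixedSub φ (zpowers x)) ^ p =
      ∏ x : Γ, ∏ i : Fin p, Nat.card (fixedSub φ (zpowers (x * z ^ (i : ℕ)))) := by
    rw [Finset.prod_comm, Finset.prod_pow, Finset.prod_congr rfl fun (i : Fin p) _ =>
      Fintype.prod_equiv (Equiv.mulRight (z ^ (i : ℕ)))
        (fun x => Nat.card (fixedSub φ (zpowers (x * z ^ (i : ℕ)))))
        (fun x => Nat.card (fixedSub φ (zpowers x))) fun _ => rfl]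
    simp
  rw [h2, Nat.card_eq_fintype_card (α := Γ), ← Finset.card_univ, ← Finset.prod_const]
  refine Finset.prod_dvd_prod_of_dvd _ _ fun x _ => ?_
  have h3 := prod_card_ker_dvd (fun i : Fin p => (commEnd (φ (x * z ^ (i : ℕ))) : W →* W))
    (fun i j w => ?_) (fun i j hij w hi hj => ?_) Finset.univ ⊤ (fun _ _ _ => trivial)
    (fun _ _ => le_top)
  · rw [card_top] at h3
    have h4 : ∀ y, fixedSub φ (zpowers y) = MonoidHom.ker (commEnd (φ y)) := fun y => by
      ext u
      rw [mem_fixedSub_zpowers, mem_ker_commEnd]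
    simp only [h4]
    exact h3
  · have h4 : Commute (φ (x * z ^ (i : ℕ))) (φ (x * z ^ (j : ℕ))) := by
      simp only [map_mul, map_pow]
      exact ((Commute.refl _).mul_right ((hz3 x).pow_right _)).mul_left
        (((hz3 x).symm.pow_left _).mul_right ((Commute.refl _).pow_pow _ _))
    have h5 := DFunLike.congr_fun h4.eq w
    rw [MulAut.mul_apply, MulAut.mul_apply] at h5
    change commEnd _ (commEnd _ w) = commEnd _ (commEnd _ w)
    simp only [commEnd_apply, map_mul (φ _), map_inv, h5, mul_inv_rev, inv_inv]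
    simp only [mul_assoc, mul_comm, mul_left_comm]
  · have h5 : φ (z ^ (i : ℕ)) w = φ (z ^ (j : ℕ)) w := by
      apply (φ x).injective
      rw [← MulAut.mul_apply, ← MulAut.mul_apply, ← map_mul, ← map_mul, mem_ker_commEnd.1 hi,
        mem_ker_commEnd.1 hj]
    have key : ∀ i j : Fin p, i < j → φ (z ^ (i : ℕ)) w = φ (z ^ (j : ℕ)) w → w = 1 := by
      intro i j hij h6
      refine hz4 (j - i) (Nat.sub_pos_of_lt hij) (by omega) w ((φ (z ^ (i : ℕ))).injective ?_)
      rw [← MulAut.mul_apply, ← map_pow, ← map_mul, ← pow_add, Nat.add_sub_cancel' (le_of_lt hij),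
        h6]
    obtain h6 | h6 := lt_or_gt_of_ne hij
    · exact key i j h6 h5
    · exact key j i h6 h5.symm

theorem prod_card_fixed_dvd {p : ℕ} [hp : Fact p.Prime] [Fintype Γ] (hΓ : IsPGroup p Γ)
    (U : Type*) [Group U] [Finite U] : ∀ φ : Γ →* MulAut U, (Nat.card U).Coprime p →
    ∏ x : Γ, Nat.card (fixedSub φ (zpowers x)) ^ p ∣
      Nat.card U ^ Nat.card Γ * Nat.card (fixedSub φ ⊤) ^ ((p - 1) * Nat.card Γ) := by
  refine L.induction_on_card (P := fun U _ _ => ∀ φ : Γ →* MulAut U, (Nat.card U).Coprime p →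
    ∏ x : Γ, Nat.card (fixedSub φ (zpowers x)) ^ p ∣
      Nat.card U ^ Nat.card Γ * Nat.card (fixedSub φ ⊤) ^ ((p - 1) * Nat.card Γ)) U ?_
  intro U _ _ ih φ hU
  have hs : Group.IsSolvable Γ := isSolvable_of_isPGroup hΓ
  have hcop : (Nat.card Γ).Coprime (Nat.card U) := by
    obtain ⟨k, hk⟩ := hΓ.exists_card_eq
    rw [hk]; exact hU.symm.pow_left k
  by_cases h : ∃ N : Subgroup U, N.Normal ∧ (∀ a, ∀ x ∈ N, φ a x ∈ N) ∧ N ≠ ⊥ ∧ N ≠ ⊤
  · obtain ⟨N, _, hN, h1, h2⟩ := h
    have h3 := ih N (by rw [← card_top (G := U)]; exact card_lt_of_lt h2.lt_top)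
      (restrictAut φ N hN) (hU.coprime_dvd_left N.card_subgroup_dvd_card)
    have h4 := ih (U ⧸ N) (L.card_quotient_lt N h1)
      (quotAct φ N hN) (hU.coprime_dvd_left N.card_quotient_dvd_card)
    simp only [card_fixedSub_quot φ hcop hs N hN, mul_pow, Finset.prod_mul_distrib]
    rw [card_eq_card_quotient_mul_card_subgroup N, mul_comm (Nat.card (U ⧸ N)), mul_pow,
      mul_mul_mul_comm]
    exact mul_dvd_mul h3 h4
  push Not at h
  by_cases h1 : ∃ q : ℕ, q.Prime ∧ IsPGroup q U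
  · obtain ⟨q, hq, hqU⟩ := h1
    haveI := Fact.mk hq
    haveI := isSolvable_of_isPGroup hqU
    have h2 : commutator U = ⊥ := by
      obtain _ | _ := subsingleton_or_nontrivial U
      · exact eq_bot_of_subsingleton _
      by_contra h2
      exact (Group.IsSolvable.commutator_lt_top_of_nontrivial U).ne (h _ inferInstance
        (fun a x hx => characteristic_iff_map_le.1 inferInstance (φ a) ⟨x, hx, rfl⟩) h2)
    have h3 : ∀ a b : U, a * b = b * a := fun a b => by
      rw [← commutatorElement_eq_one_iff_mul_comm, ← mem_bot, ← h2]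
      exact commutator_mem_commutator trivial trivial
    letI : CommGroup U := { mul_comm := h3 }
    exact prod_card_fixed_dvd_of_irr hΓ φ fun T hT => or_iff_not_imp_left.2 (h T inferInstance hT)
  rw [Nat.dvd_iff_prime_pow_dvd_dvd]
  intro q k hq hk
  haveI := Fact.mk hq
  obtain ⟨Q, hQ⟩ := aut_exists_invariant_sylow φ hcop (Or.inl hs) q
  have h2 : (Q : Subgroup U) ≠ ⊤ := fun h2 => h1 ⟨q, hq, (h2 ▸ Q.isPGroup').of_equiv topEquiv⟩
  have h3 := ih Q (by rw [← card_top (G := U)]; exact card_lt_of_lt h2.lt_top)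
      (restrictAut φ Q hQ) (hU.coprime_dvd_left (Q : Subgroup U).card_subgroup_dvd_card)
  simp only [card_fixedSub_restrict] at h3
  simp only [← card_inf_mul_relIndex (Q : Subgroup U) (fixedSub φ (zpowers _)), mul_pow,
    Finset.prod_mul_distrib] at hk
  refine ((Nat.Coprime.dvd_of_dvd_mul_right (Nat.Coprime.pow_left k (Nat.Coprime.prod_right
    fun x _ => Nat.Coprime.pow_right p (hq.coprime_iff_not_dvd.2
      (not_dvd_relIndex_fixedSub φ hcop hs Q hQ _)))) hk).trans h3).trans ?_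
  exact mul_dvd_mul (pow_dvd_pow_of_dvd (Q : Subgroup U).card_subgroup_dvd_card _)
    (pow_dvd_pow_of_dvd (card_dvd_of_le inf_le_right) _)

end Cfsg.Agent.H6
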