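import Cfsg.Agent.H6.IrrConj
import Cfsg.Agent.H6.Kazarin
import Cfsg.Agent.H6.ClassLemmas
import Cfsg.Agent.H6.ZAction
import Cfsg.Agent.H7.ClassProd
import Cfsg.Agent.L.SimpleRed

/-!
Groups of automorphisms with orbits of prime power length: auxiliary results.
-/

set_option autoImplicit false

namespace Cfsg.Agent.H6

open Subgroup
open scoped Pointwise commutatorElement

section group

variable {H : Type*} [Group H]

theorem eq_bot_of_perfect [Group.IsSolvable H] {D : Subgroup H} (h : ⁅D, D⁆ = D) : D = ⊥ := by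
  by_contra h1
  exact (Group.IsSolvable.commutator_lt_of_ne_bot h1).ne h

theorem isSolvable_of_forall_perfect [Finite H] (h : ∀ D : Subgroup H, ⁅D, D⁆ = D → D = ⊥) :
    Group.IsSolvable H :=
  Group.isSolvable_iff_commutator_lt.2 fun D hD =>
    lt_of_le_of_ne (H1.commutator_le_of_le_normalizer le_normalizer) fun h1 => hD (h D h1)

theorem le_ker_of_perfect {K : Type*} [Group K] [Group.IsSolvable K] (f : H →* K)
    {D : Subgroup H} (h : ⁅D, D⁆ = D) : D ≤ f.ker :=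
  (Subgroup.map_eq_bot_iff _).1 (eq_bot_of_perfect (by rw [← map_commutator, h]))

theorem isSolvable_of_comm_of_index [Finite H] {p k : ℕ} (hp : p.Prime) (B : Subgroup H)
    (hB : ∀ a ∈ B, ∀ b ∈ B, a * b = b * a) (h : B.index = p ^ k) : Group.IsSolvable H := by
  haveI := Fact.mk hp
  have h1 : B ≤ solvableRadical H := fun b hb => by
    obtain ⟨j, -, hj⟩ := (Nat.dvd_prime_pow hp).1 (h ▸ index_dvd_of_le
      (show B ≤ centralizer {b} from fun a ha => mem_centralizer_singleton_iff.2 (hB a ha b hb)))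
    exact mem_solvableRadical_of_index_centralizer hp hj
  obtain ⟨j, -, hj⟩ := (Nat.dvd_prime_pow hp).1 (h ▸ index_dvd_of_le h1)
  exact L.isSolvable_of_normal_of_quotient (solvableRadical H) inferInstance
    (H1.isSolvable_of_isPGroup (IsPGroup.of_card hj))

theorem isPGroup_of_hasNPC [Finite H] {p : ℕ} [hp : Fact p.Prime] (h : HasNormalPComplement p H)
    (hO : pPrimeCore p H = ⊥) : IsPGroup p H := by
  obtain ⟨N, hN, h1, k, hk⟩ := H8.hasNPC_iff_exists.1 h
  rw [eq_bot_iff.2 ((L.le_pPrimeCore hN h1).trans hO.le), index_bot] at hk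
  exact IsPGroup.of_card hk

theorem isSolvable_of_isCyclic_sylow [Finite H] {p : ℕ} [hp : Fact p.Prime] (P : Sylow p H)
    (hP : IsCyclic (P : Subgroup H)) (hO : pPrimeCore p H = ⊥) (K : Subgroup H) [K.Normal]
    (hK : K ≠ ⊥) [Group.IsSolvable K] : Group.IsSolvable H := by
  obtain ⟨M, r, hM, -, hr, hMr⟩ := L.exists_isMinNormal_isElementaryAbelian_le K hK
  haveI := hM.1
  haveI := Fact.mk hr
  have hMr' : IsPGroup r M := fun x => ⟨1, Subtype.ext (by simpa using hMr.2 x x.2)⟩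
  obtain rfl : r = p := by
    by_contra h
    obtain ⟨k, hk⟩ := hMr'.exists_card_eq
    exact hM.2.1 (eq_bot_iff.2 ((L.le_pPrimeCore hM.1 (by
      rw [hk]; exact ((Nat.coprime_primes hr hp.1).2 h).pow_left k)).trans hO.le))
  have hMP : M ≤ P := hMr'.le_sylow_of_normal P
  haveI : IsCyclic M := isCyclic_of_le hMP
  set C := centralizer (M : Set H) with hC
  have hPC : (P : Subgroup H) ≤ C := fun x hx => mem_centralizer_iff.2 fun m hm =>
    congrArg Subtype.val (mul_comm' (⟨m, hMP hm⟩ : (P : Subgroup H)) ⟨x, hx⟩)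
  obtain ⟨⟨z, hz⟩, hz1⟩ := ne_bot_iff_exists_ne_one.1 hM.2.1
  have h1 : IsPGroup r C := isPGroup_of_hasNPC (hasNPC_of_isCyclic_of_central (P.subtype hPC)
    (isCyclic_of_surjective _ (subgroupOfEquivOfLe hPC).symm.surjective)
    (z := ⟨z, hPC (hMP hz)⟩) (by
      rw [← orderOf_coe]
      exact orderOf_eq_prime (hMr.2 z hz) fun h => hz1 (Subtype.ext h))
    (mem_center_iff.2 fun c => Subtype.ext (mem_centralizer_iff.1 c.2 z hz).symm)) (by
      rw [← Subgroup.map_eq_bot_iff_of_injective _ C.subtype_injective,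
        L.map_subtype_pPrimeCore hr, hO, bot_inf_eq])
  refine L.isSolvable_of_normal_of_quotient C (H1.isSolvable_of_isPGroup h1)
    (H1.isSolvable_of_isMulCommutative ⟨⟨fun a b => ?_⟩⟩)
  obtain ⟨a, rfl⟩ := QuotientGroup.mk'_surjective C a
  obtain ⟨b, rfl⟩ := QuotientGroup.mk'_surjective C b
  rw [← commutatorElement_eq_one_iff_mul_comm, ← map_commutatorElement, QuotientGroup.mk'_apply,
    QuotientGroup.eq_one_iff]
  exact commutatorElement_mem_centralizer_of_isCyclic (le_normalizer_of_normal (mem_top a))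
    (le_normalizer_of_normal (mem_top b))

end group

variable {H V : Type*} [Group H] [CommGroup V]

/-- The stabilizer of a vector. -/
def stab (φ : H →* MulAut V) (v : V) : Subgroup H := (MulAction.stabilizer (MulAut V) v).comap φ

theorem mem_stab {φ : H →* MulAut V} {v : V} {h : H} : h ∈ stab φ v ↔ φ h v = v := Iff.rfl

/-- The stabilizer of a subgroup. -/
def sstab (φ : H →* MulAut V) (W : Subgroup V) : Subgroup H :=
  (MulAction.stabilizer (MulAut V) W).comap φ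

theorem mem_sstab {φ : H →* MulAut V} {W : Subgroup V} {h : H} :
    h ∈ sstab φ W ↔ φ h • W = W := Iff.rfl

/-- A system of imprimitivity for `P`, which has the same orbits as `H`. -/
structure Blocks (φ : H →* MulAut V) (P : Subgroup H) (W T : Subgroup V) : Prop where
  tr : ∀ h v, ∃ x ∈ P, φ h v = φ x v
  ne : W ≠ ⊥
  st : ∀ x ∈ P, ∀ y ∈ P, φ y • W = W → φ y • φ x • W = φ x • W
  disj : W ⊓ T = ⊥
  le : ∀ y ∈ P, φ y • W ≠ W → φ y • W ≤ T

namespace Blocks

variable {φ : H →* MulAut V} {P : Subgroup H} {W T : Subgroup V}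

theorem uniq (hB : Blocks φ P W T) {x₁ x₂ x₃ x₄ : H} (h₁ : x₁ ∈ P) (h₂ : x₂ ∈ P) (h₃ : x₃ ∈ P)
    (h₄ : x₄ ∈ P) {a b c d : V} (ha : a ∈ φ x₁ • W) (hb : b ∈ φ x₂ • W) (hc : c ∈ φ x₃ • W)
    (hd : d ∈ φ x₄ • W) (ha1 : a ≠ 1) (h : a * b = c * d) (hne : φ x₂ • W ≠ φ x₁ • W) :
    φ x₃ • W = φ x₁ • W ∨ φ x₄ • W = φ x₁ • W := by
  by_contra hcon
  rw [not_or] at hcon
  have key : ∀ x ∈ P, φ x • W ≠ φ x₁ • W → ∀ u ∈ φ x • W, (φ x₁)⁻¹ u ∈ T := by
    intro x hx h1 u hu
    refine hB.le (x₁⁻¹ * x) (P.mul_mem (P.inv_mem h₁) hx) (fun h2 => h1 ?_) ?_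
    · rwa [map_mul, map_inv, mul_smul, inv_smul_eq_iff] at h2
    · rw [map_mul, map_inv, mul_smul]
      exact smul_mem_pointwise_smul _ _ _ hu
  have h1 : (φ x₁)⁻¹ a ∈ W ⊓ T := by
    refine ⟨mem_pointwise_smul_iff_inv_smul_mem.1 ha, ?_⟩
    rw [eq_mul_inv_of_mul_eq h, map_mul, map_mul, map_inv]
    exact T.mul_mem (T.mul_mem (key _ h₃ hcon.1 _ hc) (key _ h₄ hcon.2 _ hd))
      (T.inv_mem (key _ h₂ hne _ hb))
  rw [hB.disj, mem_bot, map_eq_one_iff _ (φ x₁)⁻¹.injective] at h1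
  exact ha1 h1

theorem eq_of_mem (hB : Blocks φ P W T) {x y : H} (hx : x ∈ P) (hy : y ∈ P) {a : V}
    (ha : a ∈ φ x • W) (ha' : a ∈ φ y • W) (ha1 : a ≠ 1) : φ y • W = φ x • W := by
  by_contra h
  exact (hB.uniq hx hy hy hy ha (one_mem _) ha' (one_mem _) ha1 rfl h).elim h h

theorem exists_smul_eq [Finite V] (hB : Blocks φ P W T) (h : H) :
    ∃ x ∈ P, φ h • W = φ x • W := by
  obtain ⟨⟨w, hw⟩, hw1⟩ := ne_bot_iff_exists_ne_one.1 hB.ne
  have hw1 : w ≠ 1 := fun h => hw1 (Subtype.ext h)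
  obtain ⟨x, hx, h1⟩ := hB.tr h w
  refine ⟨x, hx, H1.eq_of_le_of_card_le ?_ ?_⟩
  · rintro _ ⟨u, hu, rfl⟩
    change φ h u ∈ _
    obtain ⟨y, hy, h2⟩ := hB.tr h u
    obtain ⟨z, hz, h3⟩ := hB.tr h (w * u)
    have hb : φ y u ∈ φ y • W := smul_mem_pointwise_smul _ _ _ hu
    have ha : φ x w ∈ φ x • W := smul_mem_pointwise_smul _ _ _ hw
    have hc : φ z (w * u) ∈ φ z • W := smul_mem_pointwise_smul _ _ _ (W.mul_mem hw hu)
    rw [← h3, map_mul, h1, h2] at hc
    rw [h2]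
    by_cases h4 : φ y • W = φ x • W
    · exact h4 ▸ hb
    obtain h5 | h5 := hB.uniq hx hy hz hy ha hb hc (one_mem _)
      ((map_ne_one_iff _ (φ x).injective).2 hw1) (mul_one _).symm h4
    · rw [h5] at hc
      exact (mul_mem_cancel_left ha).1 hc
    · exact (h4 h5).elim
  · exact (Nat.card_congr ((equivSMul (φ x) W).symm.trans (equivSMul (φ h) W)).toEquiv).le

theorem stab_le [Finite V] (hB : Blocks φ P W T) {w : V} (hw : w ∈ W) (hw1 : w ≠ 1) :
    stab φ w ≤ sstab φ W := by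
  intro h hh
  obtain ⟨x, hx, h1⟩ := hB.exists_smul_eq h
  have h2 := hB.eq_of_mem P.one_mem hx (a := w) (by simpa using hw) (by
    rw [← h1, ← mem_stab.1 hh]; exact smul_mem_pointwise_smul _ _ _ hw) hw1
  rw [mem_sstab, h1, h2, map_one, one_smul]

theorem sq_smul [Finite V] (hB : Blocks φ P W T) {h : H} (hh : h ∈ sstab φ W) {x : H}
    (hx : x ∈ P) : φ (h ^ 2) • φ x • W = φ x • W := by
  rw [mem_sstab] at hh
  obtain ⟨⟨w, hw⟩, hw1⟩ := ne_bot_iff_exists_ne_one.1 hB.ne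
  have hw1 : w ≠ 1 := fun h => hw1 (Subtype.ext h)
  have key : ∀ x ∈ P, φ x • W ≠ W → φ h • φ x • W = φ x • W ∨
      ∃ s ∈ P, φ s • φ x • W = W ∧ φ s • W = φ h • φ x • W := by
    intro x hx hne
    obtain ⟨s, hs, h1⟩ := hB.tr h (w * φ x w)
    obtain ⟨y, hy, h2⟩ := hB.exists_smul_eq (h * x)
    have ha : φ h w ∈ φ 1 • W := by
      rw [map_one, one_smul, ← hh]; exact smul_mem_pointwise_smul _ _ _ hw
    have hb : φ h (φ x w) ∈ φ y • W := by
      rw [← h2, ← MulAut.mul_apply, ← map_mul]; exact smul_mem_pointwise_smul _ _ _ hw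
    have hc : φ s w ∈ φ s • W := smul_mem_pointwise_smul _ _ _ hw
    have hd : φ s (φ x w) ∈ φ (s * x) • W := by
      rw [← MulAut.mul_apply, ← map_mul]; exact smul_mem_pointwise_smul _ _ _ hw
    rw [map_mul, map_mul] at h1
    rw [map_mul, mul_smul] at h2
    have h3 : φ y • W ≠ φ 1 • W := by
      rw [map_one, one_smul, ← h2]
      intro h3
      exact hne (smul_left_cancel (φ h) (h3.trans hh.symm))
    have h4 := hB.uniq P.one_mem hy hs (P.mul_mem hs hx) ha hb hc hd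
      ((map_ne_one_iff _ (φ h).injective).2 hw1) h1 h3
    have h5 := hB.uniq hy P.one_mem hs (P.mul_mem hs hx) hb ha hc hd
      ((map_ne_one_iff _ (φ h).injective).2 ((map_ne_one_iff _ (φ x).injective).2 hw1))
      ((mul_comm _ _).trans h1) h3.symm
    rw [map_one, one_smul] at h3 h4
    rw [map_mul, mul_smul] at h4 h5
    obtain h4 | h4 := h4
    · left
      rw [h2, ← h5.resolve_left fun h6 => h3 (h6.symm.trans h4), hB.st x hx s hs h4]
    · exact Or.inr ⟨s, hs, h4, h2 ▸ h5.resolve_right fun h6 => h3 (h6.symm.trans h4)⟩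
  rw [pow_two, map_mul, mul_smul]
  by_cases hne : φ x • W = W
  · rw [hne, hh, hh]
  obtain h1 | ⟨s, hs, h1, h2⟩ := key x hx hne
  · rw [h1, h1]
  have hne' : φ s • W ≠ W := fun h3 => hne (smul_left_cancel (φ h) (h2.symm.trans
    (h3.trans hh.symm)))
  obtain h3 | ⟨t, ht, h3, h4⟩ := key s hs hne'
  · rw [← h2, h3, smul_left_cancel (φ h) (h3.trans h2)]
  · have h5 := hB.st x hx (t * s) (P.mul_mem ht hs) (by rwa [map_mul, mul_smul])
    rw [map_mul, mul_smul, h1] at h5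
    rw [← h2, ← h4, h5]

theorem isSolvable_quotient [Finite V] [Finite H] (hB : Blocks φ P W T) {p k : ℕ} (hp : p.Prime)
    (hk : (sstab φ W).index = p ^ k) : Group.IsSolvable (H ⧸ (sstab φ W).normalCore) := by
  refine isSolvable_of_primes_two 2 p fun r hr h => ?_
  by_contra hcon
  rw [not_or] at hcon
  haveI := Fact.mk hr
  obtain ⟨R⟩ : Nonempty (Sylow r H) := inferInstance
  refine R.not_dvd_index (h.trans (index_dvd_of_le fun g hg => ?_))
  obtain ⟨j, hj⟩ := IsPGroup.iff_orderOf.1 R.isPGroup' ⟨g, hg⟩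
  rw [← orderOf_coe] at hj
  obtain ⟨c, hc⟩ := H7.exists_conj_mem_of_not_dvd_index hj (C := sstab φ W) (by
    rw [hk]
    exact fun h1 => hcon.2 ((Nat.prime_dvd_prime_iff_eq hr hp).1 (hr.dvd_of_dvd_pow h1)))
  have h1 : (c * g * c⁻¹) ^ 2 ∈ (sstab φ W).normalCore := fun t => by
    obtain ⟨x, hx, h1⟩ := hB.exists_smul_eq t⁻¹
    rw [mem_sstab, map_mul, map_mul, mul_smul, mul_smul, h1, hB.sq_smul hc hx, ← h1, ← mul_smul,
      ← map_mul, mul_inv_cancel, map_one, one_smul]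
  have h2 : c * g * c⁻¹ ∈ (sstab φ W).normalCore := by
    refine zpowers_le.2 h1 (mem_zpowers_pow_iff.2 ?_)
    rw [show orderOf (c * g * c⁻¹) = orderOf g from (MulAut.conj c).orderOf_eq g, hj]
    exact ((Nat.coprime_primes Nat.prime_two hr).2 (Ne.symm hcon.1)).pow_right j
  simpa [mul_assoc] using (normalCore_normal _).conj_mem _ h2 c⁻¹

end Blocks

end Cfsg.Agent.H6
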