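import Cfsg.Agent.H6.HalfClass1
import Cfsg.Agent.P1.ZStar
import Cfsg.Agent.H6.ClassPi
import Cfsg.Agent.H6.PowOrbit1
import Cfsg.Agent.H2.Puig

/-! Groups in which the number of classes of `2`-elements is half the order of a Sylow
`2`-subgroup. -/

set_option autoImplicit false

namespace Cfsg.Agent.H6.Half

open Subgroup Cfsg Cfsg.Agent Finset
open scoped commutatorElement

universe u

variable {G : Type u} [Group G] [Finite G]

theorem two_mul_card_conjClasses_ne (hG : IsPGroup 2 G) :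
    2 * Nat.card (ConjClasses G) ≠ Nat.card G := by
  classical
  intro h
  haveI := Fintype.ofFinite G
  have h1 := sq_mul_card_conjClasses_le (G := G) (p := 2) fun r hr _ => hr.two_le
  have h2 := (commutator G).card_mul_index
  have h3 : Nat.card (commutator G) ≤ 2 := by
    obtain ⟨k, hk⟩ := (hG.to_subgroup (commutator G)).exists_card_eq
    have h4 : Nat.card (commutator G) ≤ 3 := by
      have hi : 0 < (commutator G).index := Nat.pos_of_ne_zero index_ne_zero_of_finite
      refine Nat.le_of_mul_le_mul_right ?_ hi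
      omega
    rw [hk] at h4 ⊢
    rcases k with _ | _ | k
    · norm_num
    · norm_num
    · have := Nat.pow_le_pow_right two_pos (show 2 ≤ k + 1 + 1 by omega)
      omega
  have h4 : ∀ x : G, (ConjClasses.mk x).carrier.toFinset.card ≤ 2 := fun x => by
    refine le_trans ?_ h3
    rw [← H3.card_filter_mem_subgroup]
    refine card_le_card_of_injOn (fun y => y * x⁻¹) (fun y hy => ?_) fun y _ z _ e =>
      mul_right_cancel e
    obtain ⟨g, rfl⟩ := isConj_iff.1 (ConjClasses.mk_eq_mk_iff_isConj.1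
      (ConjClasses.mem_carrier_iff_mk_eq.1 (Set.mem_toFinset.1 hy))).symm
    simp only [coe_filter, mem_univ, true_and, Set.mem_ofPred_eq]
    exact commutator_mem_commutator (mem_top g) (mem_top x)
  have h5 := sum_conjClasses_card_eq_card G
  have h6 : ∑ c : ConjClasses G, c.carrier.toFinset.card < ∑ _c : ConjClasses G, 2 := by
    refine sum_lt_sum (fun c _ => ?_) ⟨ConjClasses.mk 1, mem_univ _, ?_⟩
    · obtain ⟨x, rfl⟩ := ConjClasses.mk_surjective c
      exact h4 x
    · refine lt_of_le_of_lt (card_le_one.2 fun a ha b hb => ?_) one_lt_two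
      rw [Set.mem_toFinset, ConjClasses.mem_carrier_iff_mk_eq, ConjClasses.mk_eq_mk_iff_isConj,
        isConj_one_left] at ha hb
      rw [ha, hb]
  rw [h5, sum_const, card_univ, smul_eq_mul, ← Nat.card_eq_fintype_card,
    ← Nat.card_eq_fintype_card] at h6
  omega

theorem isPGroup_center (hO : pPrimeCore 2 G = ⊥) : IsPGroup 2 (center G) := by
  intro z
  obtain ⟨a, b, -, hb, hab, -, ⟨k, hk⟩, ho⟩ := H8.exists_pPart_pPrimePart Nat.prime_two (z : G)
  have h1 : zpowers b ≤ center G := zpowers_le.2 (zpowers_le.2 z.2 hb)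
  have h2 := eq_bot_of_coprime hO (⟨fun n hn g => by
    rwa [mem_center_iff.1 (h1 hn) g, mul_inv_cancel_right]⟩ : (zpowers b).Normal) (by rwa [Nat.card_zpowers])
  refine ⟨k, Subtype.ext ?_⟩
  rw [zpowers_eq_bot] at h2
  simp [hab, h2, ← hk]

theorem core_quot (hO : pPrimeCore 2 G = ⊥) : pPrimeCore 2 (G ⧸ center G) = ⊥ := by
  set M := pPrimeCore 2 (G ⧸ center G)
  haveI := L.pPrimeCore_characteristic (G := G ⧸ center G) Nat.prime_two
  haveI : M.Normal := inferInstance
  let N := M.comap (QuotientGroup.mk' (center G))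
  have h1 : Nat.card (N ⧸ (center G).subgroupOf N) = Nat.card M := by
    have := relIndex_comap (⊥ : Subgroup (G ⧸ center G)) (QuotientGroup.mk' (center G)) N
    rw [map_comap_eq_self_of_surjective (QuotientGroup.mk'_surjective _), relIndex_bot_left,
      MonoidHom.comap_bot, QuotientGroup.ker_mk'] at this
    exact this
  have h2 : HasNormalPComplement 2 N :=
    H8.hasNPC_of_quotient_central ((center G).subgroupOf N)
      (fun z hz => mem_center_iff.2 fun g => Subtype.ext (mem_center_iff.1 hz g))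
      (H8.hasNPC_of_coprime (h1 ▸ L.coprime_card_pPrimeCore 2))
  have h3 := (isPGroup_of_hasNPC h2 (Data.core_eq_bot hO N)).map (QuotientGroup.mk' (center G))
  rw [map_comap_eq_self_of_surjective (QuotientGroup.mk'_surjective _)] at h3
  exact card_eq_one.1 (h3.card_eq_or_dvd.resolve_right (L.not_dvd_card_pPrimeCore Nat.prime_two))

/-- `x` is conjugate to no other element of `P`. -/
def Iso (P : Sylow 2 G) (x : G) : Prop :=
  x ∈ (P : Subgroup G) ∧ ∀ g : G, g * x * g⁻¹ ∈ (P : Subgroup G) → g * x * g⁻¹ = x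

theorem Iso.pow {P : Sylow 2 G} {x : G} (h : Iso P x) (n : ℕ) : Iso P (x ^ n) := by
  have hc : ∀ u ∈ (P : Subgroup G), Commute u x := fun u hu =>
    mul_inv_eq_iff_eq_mul.1 (h.2 u (mul_mem (mul_mem hu h.1) (inv_mem hu)))
  refine ⟨pow_mem h.1 n, fun g hg => ?_⟩
  have h1 : (P : Subgroup G) ≤ centralizer ({x ^ n} : Set G) := fun u hu =>
    mem_centralizer_singleton_iff.2 ((hc u hu).pow_right n)
  have h2 : g⁻¹ * x * g⁻¹⁻¹ ∈ centralizer ({x ^ n} : Set G) := by
    rw [mem_centralizer_singleton_iff]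
    have := (hc _ hg).eq
    calc g⁻¹ * x * g⁻¹⁻¹ * x ^ n = g⁻¹ * (x * (g * x ^ n * g⁻¹)) * g := by group
      _ = x ^ n * (g⁻¹ * x * g⁻¹⁻¹) := by rw [← this]; group
  obtain ⟨k, hk⟩ := H8.exists_orderOf_eq_pow_of_mem P.isPGroup' h.1
  obtain ⟨c, hc1, hc2⟩ := H1.exists_conj_le_sylow P.isPGroup'
    (fun e => P.not_dvd_index (e.trans (relIndex_dvd_index_of_le h1))) (zpowers_le.2 h2)
    (H8.isPGroup_zpowers_of_orderOf (k := k) (by
      rw [← hk]; exact (H3.orderOf_eq_of_isConj (isConj_iff.2 ⟨_, rfl⟩)).symm))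
  have h3 := h.2 (c * g⁻¹) (by
    have := hc2 ⟨_, mem_zpowers _, rfl⟩
    simpa [mul_assoc] using this)
  have h4 : c * g⁻¹ * x ^ n * (c * g⁻¹)⁻¹ = x ^ n := by rw [← conj_pow, h3]
  have h5 := mem_centralizer_singleton_iff.1 hc1
  calc g * x ^ n * g⁻¹ = g * c⁻¹ * (c * x ^ n) * g⁻¹ := by group
    _ = g * c⁻¹ * (c * g⁻¹ * x ^ n * (c * g⁻¹)⁻¹ * c) * g⁻¹ := by rw [h4, h5]
    _ = x ^ n := by group

theorem Iso.mem_center_of_sq (hO : pPrimeCore 2 G = ⊥) {P : Sylow 2 G} {x : G} (h : Iso P x)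
    (h2 : x ^ 2 ∈ center G) : x ∈ center G := by
  by_contra hx
  have hZ : center G ≤ P := (isPGroup_center hO).le_sylow_of_normal P
  have hf := QuotientGroup.mk'_surjective (center G)
  have hm : ∀ y : G, QuotientGroup.mk' (center G) y ∈ P.mapSurjective hf → y ∈ (P : Subgroup G) :=
    fun y hy => by
      obtain ⟨w, hw, e⟩ := hy
      obtain ⟨z, hz, rfl⟩ := (QuotientGroup.mk'_eq_mk' _).1 e
      exact mul_mem hw (hZ hz)
  refine hx (mem_center_iff.2 fun g => mul_inv_eq_iff_eq_mul.1 (h.2 g (hm _ ?_)))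
  have := P1.zstar_sylow (P.mapSurjective hf) (t := QuotientGroup.mk' (center G) x)
    (orderOf_eq_prime (by rw [← map_pow]; exact (QuotientGroup.eq_one_iff _).2 h2)
      fun e => hx ((QuotientGroup.eq_one_iff _).1 e)) ⟨x, h.1, rfl⟩ (fun a ha => by
        obtain ⟨a, rfl⟩ := hf a
        rw [← map_inv, ← map_mul, ← map_mul] at ha ⊢
        rw [h.2 a (hm _ ha)]) (QuotientGroup.mk' (center G) g)
  rw [core_quot hO, mem_bot, commutatorElement_eq_one_iff_mul_comm] at this
  rw [map_mul, map_mul, map_inv, ← this, mul_inv_cancel_right]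
  exact ⟨x, h.1, rfl⟩

theorem Iso.mem_center (hO : pPrimeCore 2 G = ⊥) {P : Sylow 2 G} {x : G} (h : Iso P x) :
    x ∈ center G := by
  obtain ⟨k, hk⟩ := H8.exists_orderOf_eq_pow_of_mem P.isPGroup' h.1
  have h1 : x ^ 2 ^ k ∈ center G := by rw [← hk, pow_orderOf_eq_one]; exact one_mem _
  clear hk
  induction k generalizing x with
  | zero => simpa using h1
  | succ k ih => exact h.mem_center_of_sq hO (ih (h.pow 2) (by rwa [← pow_mul, ← pow_succ']))

theorem count (hO : pPrimeCore 2 G = ⊥) {P : Sylow 2 G}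
    (hk : 2 * H3.kcl (fun x : G => ∃ k : ℕ, orderOf x = 2 ^ k) = Nat.card (P : Subgroup G))
    {R : Subgroup G} (hRP : R ≤ P) (hZ : center G ≤ R) {t : G} (htN : t ∈ normalizer (R : Set G))
    (hodd : Odd (orderOf t)) (htC : t ∉ centralizer (R : Set G)) :
    Nat.card R = 4 * Nat.card (center G) ∧ R ⊓ centralizer ({t} : Set G) = center G ∧
      ∀ x ∈ R, x ∉ center G → ∀ g : G, g * x * g⁻¹ ∈ (P : Subgroup G) →
        g * x * g⁻¹ = x ∨ g * x * g⁻¹ = t * x * t⁻¹ ∨ g * x * g⁻¹ = t⁻¹ * x * t⁻¹⁻¹ := by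
  classical
  haveI := Fintype.ofFinite G
  have hto := Nat.coprime_two_right.2 hodd
  have h4 := H3.four_mul_card_inf_centralizer_le (P.isPGroup'.to_le hRP) htN hodd htC
  set C : Subgroup G := R ⊓ centralizer ({t} : Set G) with hC
  have hZC : center G ≤ C := le_inf hZ (center_le_centralizer _)
  have h1 := H3.kcl_eq_sum_sylow P
  have hmem : ∀ x g : G, g * x * g⁻¹ ∈ (P : Subgroup G) →
      g * x * g⁻¹ ∈ univ.filter fun y => y ∈ (P : Subgroup G) ∧ IsConj y x := fun x g hg =>
    mem_filter.mpr ⟨mem_univ _, hg, (isConj_iff.mpr ⟨g, rfl⟩).symm⟩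
  have hmem1 : ∀ x ∈ (P : Subgroup G), x ∈ univ.filter fun y => y ∈ (P : Subgroup G) ∧ IsConj y x :=
    fun x hxP => mem_filter.mpr ⟨mem_univ x, hxP, IsConj.refl x⟩
  have h3 : ∀ x ∈ R, x ∉ C → ({x, t * x * t⁻¹, t⁻¹ * x * t⁻¹⁻¹} : Finset G).card = 3 ∧
      {x, t * x * t⁻¹, t⁻¹ * x * t⁻¹⁻¹} ⊆
        univ.filter fun y => y ∈ (P : Subgroup G) ∧ IsConj y x := by
    intro x hxR hxC
    have hne : t * x * t⁻¹ ≠ x := fun h => hxC ⟨hxR, mem_centralizer_singleton_iff.mpr (by
      rw [mul_inv_eq_iff_eq_mul] at h; exact h.symm)⟩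
    refine ⟨card_eq_three.2 ⟨_, _, _, hne.symm, ?_, ?_, rfl⟩, ?_⟩
    · intro h
      apply hne
      nth_rewrite 1 [h]
      group
    · intro h
      apply hne
      rw [← H3.mem_centralizer_singleton_iff_conj']
      apply H8.mem_of_pow_mem_of_coprime hto
      rw [H3.mem_centralizer_singleton_iff_conj']
      calc t ^ 2 * x * (t ^ 2)⁻¹ = t * (t * x * t⁻¹) * t⁻¹ := by rw [sq]; group
        _ = x := by rw [h]; group
    · intro y hy
      simp only [mem_insert, Finset.mem_singleton] at hy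
      rcases hy with rfl | rfl | rfl
      · exact hmem1 _ (hRP hxR)
      · exact hmem _ _ (hRP ((mem_normalizer_iff.mp htN x).mp hxR))
      · exact hmem _ _ (hRP ((mem_normalizer_iff.mp (inv_mem htN) x).mp hxR))
  have h2 : ∀ x ∈ univ.filter (· ∈ (P : Subgroup G)),
      (((univ.filter fun y => y ∈ (P : Subgroup G) ∧ IsConj y x).card : ℚ))⁻¹ ≤
        (1 / 2 + (if x ∈ center G then 1 / 2 else 0) + (if x ∈ C then 1 / 6 else 0) -
          (if x ∈ R then 1 / 6 else 0) : ℚ) := by
    intro x hx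
    have hxP := (mem_filter.mp hx).2
    by_cases hxZ : x ∈ center G
    · have : (1 : ℚ) ≤ (univ.filter fun y => y ∈ (P : Subgroup G) ∧ IsConj y x).card := by
        exact_mod_cast card_pos.mpr ⟨x, hmem1 x hxP⟩
      rw [if_pos hxZ, if_pos (hZC hxZ), if_pos (hZ hxZ)]
      exact (inv_anti₀ one_pos this).trans (by norm_num)
    have a2 : (2 : ℚ) ≤ (univ.filter fun y => y ∈ (P : Subgroup G) ∧ IsConj y x).card := by
      have : ¬ ∀ g : G, g * x * g⁻¹ ∈ (P : Subgroup G) → g * x * g⁻¹ = x :=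
        fun h => hxZ (Iso.mem_center hO ⟨hxP, h⟩)
      push Not at this
      obtain ⟨g, hg1, hg2⟩ := this
      exact_mod_cast one_lt_card.mpr ⟨_, hmem x g hg1, x, hmem1 x hxP, hg2⟩
    rw [if_neg hxZ]
    by_cases hxC : x ∈ C
    · rw [if_pos hxC, if_pos (show x ∈ R from hxC.1)]
      exact (inv_anti₀ two_pos a2).trans (by norm_num)
    by_cases hxR : x ∈ R
    · have : (3 : ℚ) ≤ (univ.filter fun y => y ∈ (P : Subgroup G) ∧ IsConj y x).card := by
        exact_mod_cast (h3 x hxR hxC).1.ge.trans (card_le_card (h3 x hxR hxC).2)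
      rw [if_neg hxC, if_pos hxR]
      exact (inv_anti₀ three_pos this).trans (by norm_num)
    · rw [if_neg hxC, if_neg hxR]
      exact (inv_anti₀ two_pos a2).trans (by norm_num)
  have h5 : ∀ (H : Subgroup G) [DecidablePred (· ∈ H)], H ≤ P →
      ((univ.filter (· ∈ (P : Subgroup G))).filter (· ∈ H)).card = Nat.card H := by
    intro H _ hH
    rw [← H3.card_filter_mem_subgroup, filter_filter]
    congr 1
    ext x
    simp only [mem_filter, mem_univ, true_and]
    exact ⟨fun h => h.2, fun h => ⟨hH h, h⟩⟩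
  have h6 : ∑ x ∈ univ.filter (· ∈ (P : Subgroup G)),
      (1 / 2 + (if x ∈ center G then 1 / 2 else 0) + (if x ∈ C then 1 / 6 else 0) -
          (if x ∈ R then 1 / 6 else 0) : ℚ) = Nat.card (P : Subgroup G) * (1 / 2) +
        Nat.card (center G) * (1 / 2) + Nat.card C * (1 / 6) - Nat.card R * (1 / 6) := by
    rw [sum_sub_distrib, sum_add_distrib, sum_add_distrib, sum_const, H3.card_filter_mem_subgroup,
      ← sum_filter, ← sum_filter, ← sum_filter, sum_const, sum_const, sum_const, h5 R hRP,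
      h5 C (inf_le_left.trans hRP), h5 _ (hZ.trans hRP), nsmul_eq_mul, nsmul_eq_mul, nsmul_eq_mul,
      nsmul_eq_mul]
  have h7 := sum_le_sum h2
  have b1 : (4 * Nat.card C : ℚ) ≤ Nat.card R := by exact_mod_cast h4
  have b2 : (Nat.card (center G) : ℚ) ≤ Nat.card C := by exact_mod_cast card_le_of_le hZC
  have b3 : (2 * H3.kcl (fun x : G => ∃ k : ℕ, orderOf x = 2 ^ k) : ℚ) =
      Nat.card (P : Subgroup G) := by exact_mod_cast hk
  have h8 := (sum_eq_sum_iff_of_le h2).1 (le_antisymm h7 (by rw [h6, ← h1]; linarith))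
  rw [h6, ← h1] at h7
  have b4 : center G = C := H1.eq_of_le_of_card_le hZC (by
    have : (Nat.card C : ℚ) ≤ Nat.card (center G) := by linarith
    exact_mod_cast this)
  refine ⟨?_, b4.symm, fun x hxR hxZ g hg => ?_⟩
  · have : (Nat.card R : ℚ) = 4 * Nat.card (center G) := by linarith
    exact_mod_cast this
  · have hxC : x ∉ C := b4 ▸ hxZ
    have a1 := h8 x (mem_filter.2 ⟨mem_univ _, hRP hxR⟩)
    rw [if_neg hxZ, if_neg hxC, if_pos hxR] at a1
    have a2 : ((univ.filter fun y => y ∈ (P : Subgroup G) ∧ IsConj y x).card : ℚ) = 3 := by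
      rw [← inv_inj, a1]; norm_num
    have a3 := eq_of_subset_of_card_le (h3 x hxR hxC).2 (by
      rw [(h3 x hxR hxC).1]; exact_mod_cast a2.le)
    have a4 := hmem x g hg
    rw [← a3] at a4
    simpa only [mem_insert, Finset.mem_singleton] using a4

theorem eq_of_mul_center {t x z : G} (hO : pPrimeCore 2 G = ⊥) (hodd : Odd (orderOf t))
    (hz : z ∈ center G) (h : t * x * t⁻¹ = x * z) : t * x * t⁻¹ = x := by
  have h1 : ∀ n : ℕ, t ^ n * x * (t ^ n)⁻¹ = x * z ^ n := by
    intro n
    induction n with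
    | zero => simp
    | succ n ih =>
      have e := mem_center_iff.1 (pow_mem hz n) t⁻¹
      calc t ^ (n + 1) * x * (t ^ (n + 1))⁻¹ = t * (t ^ n * x * (t ^ n)⁻¹) * t⁻¹ := by group
        _ = t * x * (z ^ n * t⁻¹) := by rw [ih]; group
        _ = t * x * t⁻¹ * z ^ n := by rw [← e]; group
        _ = x * z ^ (n + 1) := by rw [h]; group
  have h2 := h1 (orderOf t)
  rw [pow_orderOf_eq_one, one_mul, inv_one, mul_one, left_eq_mul] at h2
  obtain ⟨k, hk⟩ := H8.exists_orderOf_eq_pow_of_mem (isPGroup_center hO) hz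
  rw [h, H8.eq_one_of_orderOf_pow_of_coprime hk (Nat.Coprime.coprime_dvd_left
    (orderOf_dvd_of_pow_eq_one h2) (Nat.coprime_two_right.mpr hodd)), mul_one]

theorem exists_data (hO : pPrimeCore 2 G = ⊥) (P : Sylow 2 G)
    (hk : 2 * H3.kcl (fun x : G => ∃ k : ℕ, orderOf x = 2 ^ k) = Nat.card (P : Subgroup G)) :
    ∃ (V : Subgroup (G ⧸ center G)) (t : G ⧸ center G),
      Data (P.mapSurjective (QuotientGroup.mk'_surjective (center G))) V t := by
  have hnc : ¬ HasNormalPComplement 2 G := fun h => by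
    rw [H3.kcl_eq_card_conjClasses_sylow P h] at hk
    exact two_mul_card_conjClasses_ne P.isPGroup' hk
  obtain ⟨X, hXP, -, t, htX, q, k, hq, hq2, hto, htC⟩ := H8.exists_primePow_not_centralizes hnc P
  have hodd : Odd (orderOf t) := hto ▸ (hq.odd_of_ne_two hq2).pow
  have hZ : center G ≤ P := (isPGroup_center hO).le_sylow_of_normal P
  set R := X ⊔ center G with hR
  have hRP : R ≤ P := sup_le hXP hZ
  have hZR : center G ≤ R := le_sup_right
  have htN : t ∈ normalizer (R : Set G) :=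
    H1.le_normalizer_sup le_rfl le_normalizer_of_normal htX
  have htR : t ∉ centralizer (R : Set G) := fun h =>
    htC (centralizer_le (show X ≤ R from le_sup_left) h)
  clear_value R
  obtain ⟨c1, c2, c3⟩ := count hO hk hRP hZR htN hodd htR
  have hf := QuotientGroup.mk'_surjective (center G)
  set f := QuotientGroup.mk' (center G) with hfd
  have hm : ∀ {H : Subgroup G}, center G ≤ H → ∀ y : G, f y ∈ H.map f → y ∈ H :=
    fun hH y hy => by
      obtain ⟨w, hw, e⟩ := hy
      obtain ⟨z, hz, rfl⟩ := (QuotientGroup.mk'_eq_mk' _).1 e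
      exact mul_mem hw (hH hz)
  have closed : ∀ x ∈ R, ∀ g : G, g * x * g⁻¹ ∈ (P : Subgroup G) → g * x * g⁻¹ ∈ R := by
    intro x hx g hg
    by_cases hxZ : x ∈ center G
    · rwa [mem_center_iff.1 hxZ g, mul_inv_cancel_right]
    rcases c3 x hx hxZ g hg with e | e | e <;> rw [e]
    · exact hx
    · exact (mem_normalizer_iff.mp htN x).mp hx
    · exact (mem_normalizer_iff.mp (inv_mem htN) x).mp hx
  have key : ∀ x ∈ R, ∀ g : G, f (g * x * g⁻¹) = f x → g * x * g⁻¹ = x := by
    intro x hx g e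
    obtain ⟨z, hz, e⟩ := (QuotientGroup.mk'_eq_mk' _).1 e.symm
    by_cases hxZ : x ∈ center G
    · rw [mem_center_iff.1 hxZ g, mul_inv_cancel_right]
    rcases c3 x hx hxZ g (e ▸ mul_mem (hRP hx) (hZ hz)) with e' | e' | e'
    · exact e'
    · exact e'.trans (eq_of_mul_center hO hodd hz (e'.symm.trans e.symm))
    · exact e'.trans (eq_of_mul_center hO (by rwa [orderOf_inv]) hz (e'.symm.trans e.symm))
  have key' : ∀ g : G, f g ∈ centralizer (R.map f : Set (G ⧸ center G)) →
      g ∈ centralizer (R : Set G) := fun g hg x hx => by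
    have := key x hx g (by
      rw [map_mul, map_mul, map_inv, ← hg _ ⟨x, hx, rfl⟩, mul_inv_cancel_right])
    exact (mul_inv_eq_iff_eq_mul.1 this).symm
  have hcard : Nat.card (R.map f) = 4 := by
    have h1 := relIndex_comap (⊥ : Subgroup (G ⧸ center G)) f R
    rw [relIndex_bot_left, MonoidHom.comap_bot, QuotientGroup.ker_mk'] at h1
    have h2 := H1.card_mul_relIndex hZR
    rw [h1, c1, mul_comm] at h2
    exact Nat.eq_of_mul_eq_mul_right Nat.card_pos h2
  have hab : R ≤ centralizer (R : Set G) := fun x hx => key' x (by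
    haveI := P5.isMulComm_of_dvd_four (P := R.map f) (by rw [hcard])
    exact le_centralizer (R.map f) ⟨x, hx, rfl⟩)
  have hPN : (P : Subgroup G) ≤ normalizer (R : Set G) := fun g hg =>
    mem_normalizer_fintype fun x hx =>
      closed x hx g (mul_mem (mul_mem hg (hRP hx)) (inv_mem hg))
  have hself : (P : Subgroup G) ⊓ centralizer (R : Set G) ≤ R := by
    set D := centralizer (R : Set G) with hD
    have hND : normalizer (R : Set G) ≤ normalizer (D : Set G) := H1.le_normalizer_centralizer le_rfl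
    have hRS : R ≤ (P : Subgroup G) ⊓ D := le_inf hRP hab
    obtain ⟨d, hd, hdt⟩ := H1.frattini_argument (inf_le_right : (P : Subgroup G) ⊓ D ≤ D)
      P.isPGroup'.to_inf_left (H2.not_dvd_relIndex_inf (U := ⊤)
        (by rw [relIndex_top_right]; exact P.not_dvd_index) le_top le_top (hPN.trans hND)) (hND htN)
    obtain ⟨a, b, ha, hb, hab, hcomm, ⟨m, hm⟩, hbp⟩ :=
      H8.exists_pPart_pPrimePart Nat.prime_two (d * t)
    have hbC : b ∉ centralizer (((P : Subgroup G) ⊓ D : Subgroup G) : Set G) := by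
      intro hbC
      have hbD : b ∈ D := centralizer_le hRS hbC
      apply htR
      apply H8.mem_of_pow_mem_of_coprime ((Nat.coprime_two_right.2 hodd).pow_right m)
      have haN : a ∈ normalizer (D : Set G) :=
        zpowers_le.mpr (mul_mem (le_normalizer hd) (hND htN)) ha
      have : ∀ n : ℕ, (a ^ n)⁻¹ * t ^ n ∈ D := by
        intro n
        induction n with
        | zero => simp
        | succ n ih =>
          have h1 : a⁻¹ * ((a ^ n)⁻¹ * t ^ n * d⁻¹) * a⁻¹⁻¹ ∈ D :=
            (mem_normalizer_iff.mp (inv_mem haN) _).mp (mul_mem ih (inv_mem hd))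
          have h2 : t = d⁻¹ * (a * b) := by rw [← hab]; group
          have h3 := mul_mem h1 hbD
          convert h3 using 1
          rw [pow_succ t, pow_succ a]
          nth_rewrite 2 [h2]
          group
      have h4 := this (2 ^ m)
      rwa [← hm, pow_orderOf_eq_one, inv_one, one_mul, hm] at h4
    have h5 := (count hO hk inf_le_left (hZR.trans hRS) (zpowers_le.mpr hdt hb)
      (Nat.coprime_two_right.1 hbp) hbC).1
    exact (H1.eq_of_le_of_card_le hRS (h5.trans c1.symm).le).ge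
  refine ⟨R.map f, f t, map_mono hRP, hcard, ?_, ?_, ?_, ?_, fun h => htR (key' t h)⟩
  · rintro _ ⟨g, hg, rfl⟩ hc
    exact ⟨g, hself ⟨hg, key' g hc⟩, rfl⟩
  · rintro _ ⟨x, hx, rfl⟩ g hg
    obtain ⟨g, rfl⟩ := hf g
    rw [← map_inv, ← map_mul, ← map_mul] at hg ⊢
    exact ⟨_, closed x hx g (hm hZ _ hg), rfl⟩
  · exact hodd.of_dvd_nat (orderOf_map_dvd f t)
  · exact le_normalizer_map f ⟨t, htN, rfl⟩

end Cfsg.Agent.H6.Half
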