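import Cfsg.Agent.H1.EAMod
import Cfsg.Agent.H2.IrrCyclic
import Cfsg.Agent.H1.NumTh

/-!
An automorphism normalizing an irreducible cyclic group acts as a power of the Frobenius map.
-/

set_option autoImplicit false

namespace Cfsg.Agent.H6

open Subgroup H1 Polynomial

theorem exists_pow_eq_pow_of_irr {V : Type*} [CommGroup V] [Finite V] [Nontrivial V] {q : ℕ}
    (hq : q.Prime) (hV : ∀ v : V, v ^ q = 1) {σ τ : MulAut V} {e : ℕ}
    (h : τ * σ * τ⁻¹ = σ ^ e)
    (hirr : ∀ U : Subgroup V, (∀ u ∈ U, σ u ∈ U) → U = ⊥ ∨ U = ⊤) :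
    ∃ j : ℕ, σ ^ e = σ ^ q ^ j := by
  haveI := Fact.mk hq
  set ρ := autRep hV (MonoidHom.id (MulAut V)) with hρ
  haveI : Nontrivial (EA V hV) := (eaOf hV).symm.nontrivial
  have hint : IsIntegral (ZMod q) (ρ σ) := Algebra.IsIntegral.isIntegral _
  set μ := minpoly (ZMod q) (ρ σ) with hμ
  have hirr' : Irreducible μ := by
    refine ⟨minpoly.not_isUnit _ _, fun f g hfg => ?_⟩
    have h0 : aeval (ρ σ) f * aeval (ρ σ) g = 0 := by rw [← map_mul, ← hfg, minpoly.aeval]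
    have hμ0 : μ ≠ 0 := minpoly.ne_zero hint
    obtain h1 | h1 := hirr (eaSubgroup hV (LinearMap.ker (aeval (ρ σ) f))) (fun u hu => by
      rw [mem_eaSubgroup, LinearMap.mem_ker] at hu ⊢
      have h2 : aeval (ρ σ) f * ρ σ = ρ σ * aeval (ρ σ) f := by
        have := congrArg (aeval (ρ σ)) (mul_comm f X)
        rwa [map_mul, map_mul, aeval_X] at this
      have := LinearMap.congr_fun h2 (eaOf hV u)
      rwa [Module.End.mul_apply, Module.End.mul_apply, hu, map_zero] at this)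
    · left
      have h2 : aeval (ρ σ) g = 0 := by
        ext v
        obtain ⟨w, hw⟩ := (eaOf hV).surjective (aeval (ρ σ) g v)
        have h3 : w ∈ eaSubgroup hV (LinearMap.ker (aeval (ρ σ) f)) := by
          rw [mem_eaSubgroup, LinearMap.mem_ker, hw]
          exact LinearMap.congr_fun h0 v
        rw [h1, mem_bot] at h3
        rw [← hw, h3]; rfl
      obtain ⟨c, hc⟩ := minpoly.dvd _ _ h2
      refine IsUnit.of_mul_eq_one c (mul_left_cancel₀ hμ0 ?_)
      conv_rhs => rw [mul_one, hfg, hc]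
      ring
    · right
      have h2 : aeval (ρ σ) f = 0 := by
        ext v
        obtain ⟨w, rfl⟩ := (eaOf hV).surjective v
        exact (mem_eaSubgroup hV).1 (h1 ▸ mem_top w)
      obtain ⟨c, hc⟩ := minpoly.dvd _ _ h2
      refine IsUnit.of_mul_eq_one c (mul_left_cancel₀ hμ0 ?_)
      conv_rhs => rw [mul_one, hfg, hc]
      ring
  haveI := Fact.mk hirr'
  have hconj : ∀ f : (ZMod q)[X], aeval (ρ σ ^ e) f * ρ τ = ρ τ * aeval (ρ σ) f := by
    have h1 : ρ σ ^ e * ρ τ = ρ τ * ρ σ := by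
      rw [← map_pow, ← h, ← map_mul, ← map_mul, inv_mul_cancel_right]
    intro f
    induction f using Polynomial.induction_on with
    | C a => simp [Algebra.commutes]
    | add f g hf hg => simp [add_mul, mul_add, hf, hg]
    | monomial n a ih =>
      rw [pow_succ', ← mul_assoc, mul_comm (C a) X, mul_assoc, map_mul, aeval_X, mul_assoc, ih,
        ← mul_assoc, h1, map_mul (aeval (ρ σ)) X, aeval_X, mul_assoc]
  have h1 : aeval (ρ σ ^ e) μ = 0 := by
    have h2 := hconj μ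
    rw [minpoly.aeval, mul_zero] at h2
    have h3 : ρ τ * ρ τ⁻¹ = 1 := by rw [← map_mul, mul_inv_cancel, map_one]
    rw [← mul_one (aeval _ μ), ← h3, ← mul_assoc, h2, zero_mul]
  have h2 : μ ∣ aeval (X ^ e : (ZMod q)[X]) μ := minpoly.dvd _ _ (by
    rw [← aeval_algHom_apply, map_pow, aeval_X, h1])
  have h3 : aeval (AdjoinRoot.root μ ^ e) μ = 0 := by
    have := AdjoinRoot.mk_eq_zero.2 h2
    rwa [← AdjoinRoot.aeval_eq, ← aeval_algHom_apply, map_pow, aeval_X] at this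
  haveI : Module.Finite (ZMod q) (AdjoinRoot μ) :=
    (AdjoinRoot.powerBasis hirr'.ne_zero).finite
  haveI : Finite (AdjoinRoot μ) := Module.finite_of_finite (ZMod q)
  let θ : AdjoinRoot μ →ₐ[ZMod q] AdjoinRoot μ :=
    AdjoinRoot.liftAlgHom μ (Algebra.ofId _ _) _ h3
  obtain ⟨j, hj⟩ := FiniteField.exists_forall_apply_eq_pow (ZMod q) q (AdjoinRoot μ)
    (AlgEquiv.ofBijective θ (Finite.injective_iff_bijective.1 θ.injective))
  have h4 := hj (AdjoinRoot.root μ)
  rw [AlgEquiv.ofBijective_apply, show θ (AdjoinRoot.root μ) = AdjoinRoot.root μ ^ e from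
    AdjoinRoot.liftAlgHom_root _ _ _ _, Nat.card_zmod] at h4
  have h5 : μ ∣ X ^ e - X ^ q ^ j := AdjoinRoot.mk_eq_zero.1 (by simp [h4])
  obtain ⟨c, hc⟩ := h5
  have h6 := congrArg (aeval (ρ σ)) hc
  rw [map_mul, minpoly.aeval, zero_mul, map_sub, map_pow, map_pow, aeval_X, sub_eq_zero,
    ← map_pow, ← map_pow] at h6
  refine ⟨j, MulEquiv.ext fun v => (eaOf hV).injective ?_⟩
  exact LinearMap.congr_fun h6 (eaOf hV v)

theorem two_pow_dvd_sq_sub_one {q n j : ℕ} (hq : Odd q) (hn : 2 ≤ n)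
    (h : 2 ^ (n - 1) ∣ q ^ j + 1) : 2 ^ n ∣ q ^ 2 - 1 := by
  obtain ⟨n, rfl⟩ : ∃ m, n = m + 1 := ⟨n - 1, by omega⟩
  rw [Nat.add_sub_cancel] at h
  have h1 : q ^ 2 - 1 = (q + 1) * (q - 1) := by
    rw [← Nat.sq_sub_sq, one_pow]
  have h2 : 2 ∣ q - 1 := (Nat.Odd.sub_odd hq odd_one).two_dvd
  rw [h1, pow_succ]
  refine mul_dvd_mul ?_ h2
  obtain hj | hj := Nat.even_or_odd j
  · obtain ⟨i, rfl⟩ := hj
    obtain ⟨t, ht⟩ := hq.pow (n := i)
    rw [pow_add, ht] at h
    obtain rfl : n = 1 := by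
      by_contra h3
      have h4 := (pow_dvd_pow 2 (show 2 ≤ n by omega)).trans h
      have : (2 * t + 1) * (2 * t + 1) + 1 = 2 ^ 2 * (t * t + t) + 2 := by ring
      rw [this, Nat.dvd_add_right (dvd_mul_right _ _)] at h4
      omega
    exact (hq.add_one).two_dvd
  · have h3 : ((q : ℤ) + 1) * ∑ i ∈ Finset.range j, (-(q : ℤ)) ^ i = q ^ j + 1 := by
      have := mul_geom_sum (-(q : ℤ)) j
      rw [hj.neg_pow] at this
      linear_combination -this
    have h4 := odd_geom_sum (x := -(q : ℤ)) (by exact_mod_cast (Odd.natCast hq).neg) hj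
    have h5 : ((2 : ℤ) ^ n) ∣ ((q : ℤ) + 1) * ∑ i ∈ Finset.range j, (-(q : ℤ)) ^ i := by
      rw [h3]; exact_mod_cast h
    have h6 := (IsCoprime.pow_left (m := n) (Int.isCoprime_two_left.2 h4)).dvd_of_dvd_mul_right h5
    exact_mod_cast h6

end Cfsg.Agent.H6
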