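import Mathlib.GroupTheory.GroupAction.Jordan
import Mathlib.GroupTheory.SpecificGroups.Alternating.Simple
import Cfsg.Agent.H6.ZAction
import Cfsg.Agent.H8.PComplement
import Cfsg.Agent.H9.ClassSize

/-!
Jordan's theorem on primitive permutation groups containing a cycle of prime length.
-/

set_option autoImplicit false
set_option linter.style.haveILetI false

namespace Cfsg.Agent.H6

open Subgroup Equiv Equiv.Perm MulAction
open scoped commutatorElement

variable {α : Type*} [Fintype α] [DecidableEq α]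

theorem mem_fix {s : Set α} {g : Perm α} :
    g ∈ fixingSubgroup (Perm α) s ↔ ∀ a ∈ s, g a = a := mem_fixingSubgroup_iff (Perm α)

theorem exists_mem_agree {G : Subgroup (Perm α)} {k : ℕ} (hG : IsMultiplyPretransitive G α k)
    (F : Finset α) (hF : F.card = k) (σ : Perm α) : ∃ g ∈ G, ∀ a ∈ F, g a = σ a := by
  subst hF
  let e : Fin F.card ↪ α := F.equivFin.symm.toEmbedding.trans (Function.Embedding.subtype _)
  obtain ⟨g, hg⟩ := isMultiplyPretransitive_iff.mp hG e (e.trans σ.toEmbedding)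
  refine ⟨g, g.2, fun a ha => ?_⟩
  have := DFunLike.congr_fun hg (F.equivFin ⟨a, ha⟩)
  simpa [e, Function.Embedding.smul_apply, Subgroup.smul_def] using this

theorem card_support_cycleOf_of_prime {x : Perm α} {l : ℕ} (hl : l.Prime) (hx : orderOf x = l)
    {a : α} (ha : a ∈ x.support) : (x.cycleOf a).support.card = l := by
  have h1 := x.isCycle_cycleOf (mem_support.mp ha)
  rw [← h1.orderOf]
  refine ((Nat.dvd_prime hl).mp (hx ▸ orderOf_cycleOf_dvd_orderOf x a)).resolve_left fun h => ?_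
  exact h1.ne_one (orderOf_eq_one_iff.mp h)

theorem le_card_support_of_prime {x : Perm α} {l : ℕ} (hl : l.Prime) (hx : orderOf x = l) :
    ∃ n : ℕ, x.support.card = (n + 1) * l := by
  obtain ⟨n, hn⟩ := cycleType_prime_order (σ := x) (hx ▸ hl)
  exact ⟨n, by rw [← sum_cycleType, hn, hx, Multiset.sum_replicate, smul_eq_mul]⟩

omit [Fintype α] [DecidableEq α] in
theorem sameCycle_apply_of_commute {x c : Perm α} (h : Commute x c) {a b : α}
    (hab : x.SameCycle a b) : x.SameCycle (c a) (c b) := by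
  obtain ⟨i, rfl⟩ := hab
  exact ⟨i, by rw [← mul_apply, (h.zpow_left i).eq, mul_apply]⟩

theorem apply_mem_support_of_commute {x c : Perm α} (h : Commute x c) {a : α}
    (ha : a ∈ x.support) : c a ∈ x.support := by
  rw [mem_support] at ha ⊢
  rw [← mul_apply, h.eq, mul_apply]
  exact fun h => ha (c.injective h)

theorem pow_apply_eq_of_commute {x c : Perm α} {l : ℕ} (hl : l.Prime) (hx : orderOf x = l)
    (hs : x.support.card < 3 * l) (h : Commute x c) {a : α} (ha : a ∈ x.support) :
    (c ^ (2 * l)) a = a := by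
  have h1 : x.SameCycle a (c (c a)) := by
    by_contra h3
    have h4 : ¬ x.SameCycle a (c a) := fun h4 => h3 (h4.trans (sameCycle_apply_of_commute h h4))
    have h5 : ¬ x.SameCycle (c a) (c (c a)) := fun h5 => h4 (by
      simpa using sameCycle_apply_of_commute h.inv_right h5)
    have ha1 := apply_mem_support_of_commute h ha
    have ha2 := apply_mem_support_of_commute h ha1
    have hd : ∀ u v, ¬ x.SameCycle u v →
        Disjoint (x.cycleOf u).support (x.cycleOf v).support := fun u v huv => by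
      rw [Finset.disjoint_left]
      intro w h1 h2
      exact huv ((mem_support_cycleOf_iff.mp h1).1.trans (mem_support_cycleOf_iff.mp h2).1.symm)
    have h6 : (x.cycleOf a).support ∪ (x.cycleOf (c a)).support ∪ (x.cycleOf (c (c a))).support ⊆
        x.support := Finset.union_subset (Finset.union_subset (support_cycleOf_le _ _)
          (support_cycleOf_le _ _)) (support_cycleOf_le _ _)
    have h7 := Finset.card_le_card h6
    rw [Finset.card_union_of_disjoint (Finset.disjoint_union_left.mpr ⟨hd _ _ h3, hd _ _ h5⟩),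
      Finset.card_union_of_disjoint (hd _ _ h4), card_support_cycleOf_of_prime hl hx ha,
      card_support_cycleOf_of_prime hl hx ha1, card_support_cycleOf_of_prime hl hx ha2] at h7
    omega
  obtain ⟨i, hi⟩ := h1
  have h2 : ∀ n : ℕ, (c ^ (2 * n)) a = ((x ^ i) ^ n) a := by
    intro n
    induction n with
    | zero => simp
    | succ n ih =>
      have h3 : Commute ((x ^ i) ^ n) (c ^ 2) := ((h.zpow_left i).pow_left n).pow_right 2
      rw [Nat.mul_succ, add_comm, pow_add, mul_apply, ih, ← mul_apply, ← h3.eq, mul_apply,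
        pow_succ (x ^ i), mul_apply, hi, sq, mul_apply]
  rw [h2, ← zpow_natCast, ← zpow_mul, mul_comm, zpow_mul, zpow_natCast, ← hx, pow_orderOf_eq_one,
    one_zpow, one_apply]

theorem exists_normalizer_agree {G : Subgroup (Perm α)} {x : Perm α} (hxG : x ∈ G) {l : ℕ}
    (hl : l.Prime) (hx : orderOf x = l)
    (hS : ¬ l ∣ (zpowers x).relIndex (G ⊓ fixingSubgroup (Perm α) ((x.supportᶜ : Finset α) : Set α)))
    {g : Perm α} (hg : g ∈ G) (hgF : ∀ a ∈ x.supportᶜ, g a ∈ x.supportᶜ ∧ g⁻¹ a ∈ x.supportᶜ) :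
    ∃ g' ∈ G, g' ∈ normalizer (zpowers x : Set (Perm α)) ∧ ∀ a ∈ x.supportᶜ, g' a = g a := by
  haveI := Fact.mk hl
  have h1 : zpowers x ≤ G ⊓ fixingSubgroup (Perm α) ((x.supportᶜ : Finset α) : Set α) :=
    zpowers_le.mpr ⟨hxG, mem_fix.mpr fun a ha => by simpa using ha⟩
  obtain ⟨h, hh, hhg⟩ := H1.frattini_argument h1
    (H8.isPGroup_zpowers_of_orderOf (k := 1) (by rw [hx, pow_one])) hS (x := g)
    (mem_normalizer_fintype fun n hn => ⟨G.mul_mem (G.mul_mem hg hn.1) (G.inv_mem hg),
      mem_fix.mpr fun a ha => by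
        rw [mul_apply, mul_apply, mem_fix.mp hn.2 _ (hgF a ha).2]
        simp⟩)
  exact ⟨h * g, G.mul_mem hh.1 hg, hhg, fun a ha => mem_fix.mp hh.2 _ (hgF a ha).1⟩

theorem exists_normalizer_agree_swap {G : Subgroup (Perm α)} {x : Perm α} (hxG : x ∈ G) {l : ℕ}
    (hl : l.Prime) (hx : orderOf x = l)
    (hS : ¬ l ∣ (zpowers x).relIndex (G ⊓ fixingSubgroup (Perm α) ((x.supportᶜ : Finset α) : Set α)))
    (hG : IsMultiplyPretransitive G α x.supportᶜ.card) {a b : α} (ha : a ∈ x.supportᶜ)
    (hb : b ∈ x.supportᶜ) :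
    ∃ g ∈ G, g ∈ normalizer (zpowers x : Set (Perm α)) ∧ ∀ c ∈ x.supportᶜ, g c = swap a b c := by
  obtain ⟨g, hg, hg'⟩ := exists_mem_agree hG _ rfl (swap a b)
  have h1 : ∀ c ∈ x.supportᶜ, swap a b c ∈ x.supportᶜ := fun c hc => by
    rw [swap_apply_def]
    split_ifs <;> assumption
  obtain ⟨g', h2, h3, h4⟩ := exists_normalizer_agree hxG hl hx hS hg fun c hc =>
    ⟨hg' c hc ▸ h1 c hc, by
      have := hg' _ (h1 c hc)
      rw [swap_apply_self, ← eq_inv_iff_eq] at this
      exact this ▸ h1 c hc⟩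
  exact ⟨g', h2, h3, fun c hc => (h4 c hc).trans (hg' c hc)⟩

/-- The main step in Jordan's argument. -/
theorem exists_isThreeCycle_of_sylow {G : Subgroup (Perm α)} {x : Perm α} (hxG : x ∈ G) {l : ℕ}
    (hl : l.Prime) (hl3 : l ≠ 3) (hx : orderOf x = l) (hs : x.support.card < 3 * l)
    (hF : 3 ≤ x.supportᶜ.card)
    (hS : ¬ l ∣ (zpowers x).relIndex (G ⊓ fixingSubgroup (Perm α) ((x.supportᶜ : Finset α) : Set α)))
    (hG : IsMultiplyPretransitive G α x.supportᶜ.card) : ∃ τ ∈ G, IsThreeCycle τ := by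
  obtain ⟨a, b, c, ha, hb, hc, hab, hac, hbc⟩ := Finset.two_lt_card_iff.mp hF
  obtain ⟨g₁, hg₁, hN₁, h₁⟩ := exists_normalizer_agree_swap hxG hl hx hS hG ha hb
  obtain ⟨g₂, hg₂, hN₂, h₂⟩ := exists_normalizer_agree_swap hxG hl hx hS hG ha hc
  have hs₁ : ∀ d ∈ x.supportᶜ, swap a b d ∈ x.supportᶜ := fun d hd => by
    rw [swap_apply_def]
    split_ifs <;> assumption
  have hs₂ : ∀ d ∈ x.supportᶜ, swap a c d ∈ x.supportᶜ := fun d hd => by
    rw [swap_apply_def]
    split_ifs <;> assumption
  have h₁' : ∀ d ∈ x.supportᶜ, g₁⁻¹ d = swap a b d := fun d hd => by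
    rw [inv_eq_iff_eq, h₁ _ (hs₁ d hd), swap_apply_self]
  have h₂' : ∀ d ∈ x.supportᶜ, g₂⁻¹ d = swap a c d := fun d hd => by
    rw [inv_eq_iff_eq, h₂ _ (hs₂ d hd), swap_apply_self]
  have hk : Commute x ⁅g₁, g₂⁆ :=
    commutatorElement_mem_centralizer_of_isCyclic hN₁ hN₂ x (mem_zpowers x)
  let τ := (swap a b * swap a c) * (swap a b * swap a c)
  have hτ : IsThreeCycle τ := (isThreeCycle_swap_mul_swap_same hab hac hbc).isThreeCycle_sq
  have hτF : ∀ d ∈ x.supportᶜ, τ d ∈ x.supportᶜ := fun d hd => hs₁ _ (hs₂ _ (hs₁ _ (hs₂ _ hd)))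
  have hkτ : ∀ d ∈ x.supportᶜ, ⁅g₁, g₂⁆ d = τ d := fun d hd => by
    simp only [commutatorElement_def, mul_apply, τ]
    rw [h₂' d hd, h₁' _ (hs₂ d hd), h₂ _ (hs₁ _ (hs₂ d hd)), h₁ _ (hs₂ _ (hs₁ _ (hs₂ d hd)))]
  have hpow : ∀ n : ℕ, ∀ d ∈ x.supportᶜ, (⁅g₁, g₂⁆ ^ n) d = (τ ^ n) d := by
    intro n
    induction n with
    | zero => simp
    | succ n ih => intro d hd; rw [pow_succ, pow_succ, mul_apply, mul_apply, hkτ d hd, ih _ (hτF d hd)]
  have heq : ⁅g₁, g₂⁆ ^ (2 * l) = τ ^ (2 * l) := by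
    ext d
    by_cases hd : d ∈ x.support
    · rw [pow_apply_eq_of_commute hl hx hs hk hd, eq_comm]
      have h3 : ∀ e ∈ x.supportᶜ, d ≠ e := fun e he h => Finset.mem_compl.mp he (h ▸ hd)
      refine pow_apply_eq_self_of_apply_eq_self ?_ _
      simp only [τ, mul_apply]
      simp only [swap_apply_of_ne_of_ne (h3 a ha) (h3 b hb), swap_apply_of_ne_of_ne (h3 a ha) (h3 c hc)]
    · exact hpow _ d (Finset.mem_compl.mpr hd)
  refine ⟨τ ^ (2 * l), heq ▸ G.pow_mem (G.mul_mem (G.mul_mem (G.mul_mem hg₁ hg₂)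
    (G.inv_mem hg₁)) (G.inv_mem hg₂)) _, ?_⟩
  rw [← card_support_eq_three_iff, support_pow_coprime, hτ.card_support]
  rw [hτ.orderOf]
  exact Nat.Coprime.mul_left (by norm_num) ((Nat.coprime_primes hl Nat.prime_three).mpr hl3)

theorem exists_support_ssubset {G : Subgroup (Perm α)} {x : Perm α} (hxG : x ∈ G) {l : ℕ}
    (hl : l.Prime) (hx : orderOf x = l) (hs : x.support.card < l ^ 2)
    (hS : l ∣ (zpowers x).relIndex (G ⊓ fixingSubgroup (Perm α) ((x.supportᶜ : Finset α) : Set α))) :
    ∃ z ∈ G, orderOf z = l ∧ z.support ⊂ x.support := by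
  haveI := Fact.mk hl
  set H := G ⊓ fixingSubgroup (Perm α) ((x.supportᶜ : Finset α) : Set α) with hH
  have h1 : zpowers x ≤ H := zpowers_le.mpr ⟨hxG, mem_fix.mpr fun a ha => by simpa using ha⟩
  have hsupp : ∀ h ∈ H, h.support ⊆ x.support := fun h hh a ha => by
    by_contra h2
    exact mem_support.mp ha (mem_fix.mp hh.2 a (Finset.mem_compl.mpr h2))
  have h2 : l ^ 2 ∣ Nat.card H := by
    rw [← H1.card_mul_relIndex h1, Nat.card_zpowers, hx, sq]
    exact Nat.mul_dvd_mul_left _ hS
  obtain ⟨S, hS⟩ := Sylow.exists_subgroup_card_pow_prime l h2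
  obtain ⟨a, ha⟩ : x.support.Nonempty := by
    obtain ⟨n, hn⟩ := le_card_support_of_prime hl hx
    rw [← Finset.card_pos, hn]
    exact Nat.mul_pos (Nat.succ_pos n) hl.pos
  have h3 : (stabilizer S a).index < l ^ 2 := by
    rw [index_stabilizer]
    refine lt_of_le_of_lt ?_ hs
    rw [← Set.ncard_coe_finset]
    refine Set.ncard_le_ncard ?_
    rintro _ ⟨s, rfl⟩
    by_cases h : ((s : H) : Perm α) a = a
    · change ((s : H) : Perm α) a ∈ _
      rwa [h]
    · exact hsupp _ (s : H).2 (apply_mem_support.mpr (mem_support.mpr h))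
  have h4 : l ∣ Nat.card (stabilizer S a) := by
    by_contra h4
    have h5 := (stabilizer S a).card_mul_index
    rw [hS] at h5
    have h6 := (((Nat.Prime.coprime_iff_not_dvd hl).mpr h4).pow_left 2).dvd_of_dvd_mul_left h5.symm.dvd
    exact absurd (Nat.le_of_dvd (Nat.pos_of_ne_zero index_ne_zero_of_finite) h6) (not_le.mpr h3)
  obtain ⟨z, hz⟩ := exists_prime_orderOf_dvd_card' l h4
  refine ⟨((z : S) : H), ((z : S) : H).2.1, by simpa using hz, hsupp _ ((z : S) : H).2, fun h => ?_⟩
  exact mem_support.mp (h ha) z.2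

theorem isMultiplyPretransitive_of_isCycle {G : Subgroup (Perm α)} (hG : IsPreprimitive G α)
    {x : Perm α} (hxG : x ∈ G) (hxc : x.IsCycle) (hp : x.support.card.Prime)
    (hlt : x.support.card < Fintype.card α) :
    IsMultiplyPretransitive G α (x.supportᶜ.card + 1) := by
  classical
  have h1 := Finset.card_add_card_compl x.support
  obtain ⟨n, hn⟩ : ∃ n, x.supportᶜ.card = n + 1 := ⟨x.supportᶜ.card - 1, by omega⟩
  rw [hn]
  suffices IsMultiplyPreprimitive G α (n + 2) from
    IsMultiplyPreprimitive.isMultiplyPretransitive ..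
  apply hG.isMultiplyPreprimitive (s := (x.supportᶜ : Set α))
  · rw [← hn, ← Set.ncard_coe_finset, Finset.coe_compl]
  · have := hp.two_le
    rw [Nat.card_eq_fintype_card]
    omega
  have := isPretransitive_of_isCycle_mem hxc hxG
  apply IsPreprimitive.of_prime_card
  convert! hp
  rw [Nat.card_eq_fintype_card, Fintype.card_subtype]
  apply congr_arg
  ext x
  simp [SubMulAction.mem_ofFixingSubgroup_iff]

theorem isMultiplyPretransitive_of_isCycle' {G : Subgroup (Perm α)} (hG : IsPreprimitive G α)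
    {x : Perm α} (hxG : x ∈ G) (hxc : x.IsCycle) (hp : x.support.card.Prime)
    (hlt : x.support.card < Fintype.card α) {k : ℕ} (hk : k ≤ x.supportᶜ.card + 1) :
    IsMultiplyPretransitive G α k := by
  haveI := isMultiplyPretransitive_of_isCycle hG hxG hxc hp hlt
  refine isMultiplyPretransitive_of_le hk ?_
  have h1 := Finset.card_add_card_compl x.support
  have := hp.two_le
  rw [Nat.card_eq_fintype_card]
  omega

/-- **Jordan's theorem**: a primitive group containing a cycle of prime length with at least three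
fixed points contains the alternating group. -/
theorem alternatingGroup_le_of_isCycle {G : Subgroup (Perm α)} (hG : IsPreprimitive G α)
    {x : Perm α} (hxG : x ∈ G) (hxc : x.IsCycle) (hp : x.support.card.Prime)
    (hlt : x.support.card + 3 ≤ Fintype.card α) : alternatingGroup α ≤ G := by
  by_cases h3 : x.support.card = 3
  · exact alternatingGroup_le_of_isPreprimitive_of_isThreeCycle_mem hG
      (card_support_eq_three_iff.mp h3) hxG
  have h1 := Finset.card_add_card_compl x.support
  have h2 := hp.two_le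
  obtain ⟨τ, hτ, hτ3⟩ := exists_isThreeCycle_of_sylow hxG hp h3 hxc.orderOf (by omega) (by omega)
    (fun h => by
      obtain ⟨z, -, hz, hz'⟩ := exists_support_ssubset hxG hp hxc.orderOf (by nlinarith) h
      obtain ⟨n, hn⟩ := le_card_support_of_prime hp hz
      have := Finset.card_lt_card hz'
      nlinarith)
    (isMultiplyPretransitive_of_isCycle' hG hxG hxc hp (by omega) (Nat.le_succ _))
  exact alternatingGroup_le_of_isPreprimitive_of_isThreeCycle_mem hG hτ3 hτ

theorem isPreprimitive_of_isCycle {G : Subgroup (Perm α)} [IsPretransitive G α]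
    {x : Perm α} (hxG : x ∈ G) (hxc : x.IsCycle) (hp : x.support.card.Prime)
    (hlt : Fintype.card α < 2 * x.support.card) : IsPreprimitive G α := by
  classical
  have := isPretransitive_of_isCycle_mem hxc hxG
  have hcard : Nat.card (SubMulAction.ofFixingSubgroup G (x.support : Set α)ᶜ) =
      x.support.card := by
    rw [Nat.card_eq_fintype_card, Fintype.card_subtype]
    apply congr_arg
    ext x
    simp [SubMulAction.mem_ofFixingSubgroup_iff]
  haveI : IsPreprimitive (fixingSubgroup G (x.support : Set α)ᶜ)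
      (SubMulAction.ofFixingSubgroup G (x.support : Set α)ᶜ) :=
    IsPreprimitive.of_prime_card (hcard ▸ hp)
  refine IsPreprimitive.of_card_lt
    (f := SubMulAction.ofFixingSubgroup_equivariantMap G (x.support : Set α)ᶜ) ?_
  rw [Set.ncard_range_of_injective SubMulAction.ofFixingSubgroup_equivariantMap_injective, hcard,
    Nat.card_eq_fintype_card]
  exact hlt

end Cfsg.Agent.H6
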