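import Cfsg.Agent.H6.ClassPi

/-!
Groups with many classes of `π`-elements have a nilpotent Hall `π`-subgroup.
-/

set_option autoImplicit false
set_option linter.style.haveILetI false

namespace Cfsg.Agent.H6

open Subgroup

universe u

variable {G : Type*} [Group G]

theorem factorization_piPart {π : Finset ℕ} (hπ : ∀ r ∈ π, r.Prime) (n q : ℕ) :
    (H3.piPart π n).factorization q = if q ∈ π then n.factorization q else 0 := by
  rw [H3.piPart, Nat.factorization_prod fun r hr => pow_ne_zero _ (hπ r hr).ne_zero,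
    Finsupp.finsetSum_apply]
  rw [Finset.sum_congr rfl (g := fun r => if q = r then n.factorization r else 0)]
  · simp
  · intro r hr
    rw [(hπ r hr).factorization_pow, Finsupp.single_apply]
    simp only [eq_comm]

theorem eq_piPart {π : Finset ℕ} (hπ : ∀ r ∈ π, r.Prime) {m k : ℕ} (h0 : m * k ≠ 0)
    (hm : L.IsPiNum π m) (hk : ∀ r ∈ π, ¬ r ∣ k) : m = H3.piPart π (m * k) := by
  refine Nat.eq_of_factorization_eq (left_ne_zero_of_mul h0) (H3.piPart_pos hπ _).ne' fun q => ?_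
  rw [factorization_piPart hπ]
  split_ifs with hq
  · rw [Nat.factorization_mul (left_ne_zero_of_mul h0) (right_ne_zero_of_mul h0),
      Finsupp.add_apply, Nat.factorization_eq_zero_of_not_dvd (hk q hq), add_zero]
  · by_cases hqp : q.Prime
    · exact Nat.factorization_eq_zero_of_not_dvd fun h => hq (hm q hqp h)
    · exact Nat.factorization_eq_zero_of_not_prime _ hqp

theorem card_eq_piPart [Finite G] {π : Finset ℕ} (hπ : ∀ r ∈ π, r.Prime) {H : Subgroup G}
    (hH : IsPiHall π H) : Nat.card H = H3.piPart π (Nat.card G) := by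
  rw [← H.card_mul_index]
  exact eq_piPart hπ (by rw [H.card_mul_index]; exact Nat.card_pos.ne') hH.1
    fun r hr => hH.2 r (hπ r hr) hr

theorem piPart_dvd_of_dvd {π : Finset ℕ} {m n : ℕ} (hn : n ≠ 0) (h : m ∣ n) :
    H3.piPart π m ∣ H3.piPart π n :=
  Finset.prod_dvd_prod_of_dvd _ _ fun r _ => pow_dvd_pow r
    ((Nat.factorization_le_iff_dvd (ne_zero_of_dvd_ne_zero hn h) hn).mpr h r)

theorem isPiNum_piPart {π : Finset ℕ} (hπ : ∀ r ∈ π, r.Prime) (n : ℕ) :
    L.IsPiNum π (H3.piPart π n) := by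
  intro q hq h
  by_contra hqπ
  have := factorization_piPart hπ n q
  rw [if_neg (by simpa using hqπ)] at this
  exact (hq.factorization_pos_of_dvd (H3.piPart_pos hπ n).ne' h).ne' this

theorem le_of_isPiNum_of_ne_one {π : Set ℕ} {q n : ℕ} (hq : ∀ r ∈ π, q ≤ r) (hn : L.IsPiNum π n)
    (h0 : n ≠ 0) (h1 : n ≠ 1) : q ≤ n :=
  (hq _ (hn _ (Nat.minFac_prime h1) (Nat.minFac_dvd n))).trans (Nat.minFac_le (Nat.pos_of_ne_zero h0))

theorem isPiHall_sup [Finite G] {σ τ : Set ℕ} {A B : Subgroup G} (hA : IsPiHall τ A)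
    (hB : IsPiHall σ B) (h : A ≤ normalizer (B : Set G)) : IsPiHall (σ ∪ τ) (A ⊔ B) := by
  refine ⟨fun r hr hd => ?_, fun r hr hrπ hd => ?_⟩
  · rcases hr.dvd_mul.mp (hd.trans (H1.card_sup_dvd h)) with h1 | h1
    · exact Or.inr (hA.1 r hr h1)
    · exact Or.inl (hB.1 r hr h1)
  · rcases hrπ with h1 | h1
    · exact hB.2 r hr h1 (hd.trans (index_dvd_of_le le_sup_right))
    · exact hA.2 r hr h1 (hd.trans (index_dvd_of_le le_sup_left))

theorem isPiHall_sylow [Finite G] {p : ℕ} [hp : Fact p.Prime] (P : Sylow p G) :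
    IsPiHall {p} (P : Subgroup G) :=
  ⟨(L.isPiSubgroup_singleton_iff hp.out).mpr P.isPGroup', fun r _ hr => hr ▸ P.not_dvd_index⟩

theorem kpi_le_card_conjClasses [Finite G] {π : Set ℕ} {W : Subgroup G}
    (h : ∀ z : G, L.IsPiNum π (orderOf z) → ∃ g, g * z * g⁻¹ ∈ W) :
    H3.kpi π G ≤ Nat.card (ConjClasses W) := by
  rw [kpi_eq_ncl]
  refine (ncl_le_of_conj fun z hz => ?_).trans (ncl_le_card_conjClasses W)
  obtain ⟨g, hg⟩ := h z hz
  exact ⟨_, hg, isConj_iff.mpr ⟨g, rfl⟩⟩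

theorem kpi_le_card_conjClasses_of_nilpotent [Finite G] {π : Set ℕ} {W : Subgroup G}
    (hL : IsPiHall π W) (hLn : Group.IsNilpotent W) : H3.kpi π G ≤ Nat.card (ConjClasses W) :=
  kpi_le_card_conjClasses fun z hz => by
    obtain ⟨g, -, hg⟩ := exists_conj_elem_mem_of_nilpotent_hall (H1.isPiHallOf_top_iff.mpr hL) hLn
      (mem_top z) hz
    exact ⟨g, hg⟩

theorem conj_mem_centralizer_of_commute {x y : G} (h : Commute x y) (g : G) :
    g * y * g⁻¹ ∈ centralizer ({g * x * g⁻¹} : Set G) := by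
  rw [mem_centralizer_singleton_iff]
  calc g * y * g⁻¹ * (g * x * g⁻¹) = g * (y * x) * g⁻¹ := by group
    _ = _ := by rw [← h.eq]; group

theorem centralizer_zpowers (x : G) :
    centralizer ((zpowers x : Subgroup G) : Set G) = centralizer ({x} : Set G) := by
  rw [zpowers_eq_closure, centralizer_closure]

theorem orderOf_conj' (g x : G) : orderOf (g * x * g⁻¹) = orderOf x :=
  (H3.orderOf_eq_of_isConj (isConj_iff.mpr ⟨g, rfl⟩)).symm

/-- Gluing two nilpotent Hall subgroups along a normal complement. -/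
theorem exists_hall_of_normal_complement [Finite G] {σ τ : Set ℕ} (hστ : ∀ r ∈ σ, r ∉ τ)
    {A B : Subgroup G} (K : Subgroup G) [K.Normal] (hA : IsPiHall τ A) (hAn : Group.IsNilpotent A)
    (hK1 : L.IsPiNum τᶜ (Nat.card K)) (hK2 : L.IsPiNum τ K.index) (hB : IsPiHallOf σ B K)
    (hBn : Group.IsNilpotent B) :
    ∃ W : Subgroup G, IsPiHall (σ ∪ τ) W ∧ ∀ x y : G, Commute x y → L.IsPiNum τ (orderOf x) →
      L.IsPiNum σ (orderOf y) → ∃ g, g * (x * y) * g⁻¹ ∈ W := by
  have hcop : (Nat.card A).Coprime (Nat.card K) := L.IsPiNum.coprime hA.1 hK1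
  obtain ⟨g, hg, hAB⟩ := H1.exists_conj_invariant (A := A) (G := K) le_normalizer_of_normal hcop
    (Or.inl inferInstance) B fun a _ => by
      obtain ⟨g, hg, h⟩ := exists_conj_eq_of_nilpotent_hall
        (H1.isPiHallOf_map_conj hB (g := a) (le_normalizer_of_normal (mem_top a)))
        (L.isNilpotent_map _ _) hB hBn
      exact ⟨g, hg, h.symm⟩
  have hB1 := H1.isPiHallOf_map_conj hB (g := g) (le_normalizer_of_normal (mem_top g))
  have hB1n : Group.IsNilpotent (B.map (MulAut.conj g).toMonoidHom) := L.isNilpotent_map _ _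
  generalize B.map (MulAut.conj g).toMonoidHom = B1 at *
  have hB2 : IsPiHall σ B1 := by
    refine ⟨hB1.2.1, fun r hr hrσ h => ?_⟩
    rw [← relIndex_mul_index hB1.1] at h
    exact (hr.dvd_mul.mp h).elim (hB1.2.2 r hr hrσ) fun h => hστ r hrσ (hK2 r hr h)
  refine ⟨A ⊔ B1, isPiHall_sup hA hB2 hAB, fun x y hxy hx hy => ?_⟩
  obtain ⟨u, -, hu⟩ := exists_conj_elem_mem_of_nilpotent_hall (H1.isPiHallOf_top_iff.mpr hA) hAn
    (mem_top x) hx
  have hxA : zpowers (u * x * u⁻¹) ≤ A := zpowers_le.mpr hu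
  have h1 := isPiHallOf_inf_centralizer_of_nilpotent (A := zpowers (u * x * u⁻¹))
    le_normalizer_of_normal (H1.coprime_of_le hcop hxA le_rfl)
    (Or.inl (H1.isSolvable_of_isMulCommutative inferInstance)) hB1 hB1n (hxA.trans hAB)
  rw [centralizer_zpowers] at h1
  haveI := hB1n
  obtain ⟨c, hc, hc'⟩ := exists_conj_elem_mem_of_nilpotent_hall h1
    (L.isNilpotent_of_le inf_le_left) (x := u * y * u⁻¹)
    ⟨H8.mem_of_coprime_index (by
      rw [orderOf_conj']
      exact (L.IsPiNum.coprime hK2 fun r hr h => hστ r (hy r hr h)).symm),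
      conj_mem_centralizer_of_commute hxy u⟩ (by rwa [orderOf_conj'])
  refine ⟨c * u, ?_⟩
  have h2 : c * u * (x * y) * (c * u)⁻¹ = (u * x * u⁻¹) * (c * (u * y * u⁻¹) * c⁻¹) := by
    calc c * u * (x * y) * (c * u)⁻¹ = (c * (u * x * u⁻¹)) * (u * y * u⁻¹) * c⁻¹ := by group
      _ = _ := by rw [mem_centralizer_singleton_iff.mp hc.2]; group
  rw [h2]
  exact mul_mem (mem_sup_left hu) (mem_sup_right hc'.1)

/-- Splitting off the `p`-part of a `π`-element. -/
theorem exists_decomp_insert [Finite G] {p : ℕ} (hp : p.Prime) {μ : Set ℕ} {z : G}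
    (hz : L.IsPiNum (insert p μ) (orderOf z)) :
    ∃ x y : G, Commute x y ∧ L.IsPiNum {p} (orderOf x) ∧ L.IsPiNum μ (orderOf y) ∧ z = x * y := by
  obtain ⟨a, b, -, hb, hab, hcomm, ⟨k, ha⟩, hbr⟩ := H8.exists_pPart_pPrimePart hp z
  refine ⟨a, b, hcomm, (L.isPiNum_singleton_iff hp (orderOf_pos a).ne').mpr ⟨k, ha⟩,
    fun r hr h => ?_, hab⟩
  rcases hz r hr (h.trans (orderOf_dvd_of_mem_zpowers hb)) with rfl | h1
  · exact absurd h ((Nat.Prime.coprime_iff_not_dvd hr).mp hbr.symm)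
  · exact h1

/-- Burnside's argument for an abelian Hall subgroup lying in the centre of its normalizer. -/
theorem hasNPC_of_abelian_hall [Finite G] {μ : Set ℕ} {H : Subgroup G} (hH : IsPiHall μ H)
    [IsMulCommutative H] (hN : normalizer (H : Set G) ≤ centralizer (H : Set G)) {q : ℕ}
    (hq : q.Prime) (hqμ : q ∈ μ) : HasNormalPComplement q G := by
  haveI := Fact.mk hq
  obtain ⟨Q, hQH, hQ, hQi⟩ := H1.exists_sylow_le q H
  have hQi' : ¬ q ∣ Q.index := by
    rw [← relIndex_mul_index hQH]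
    exact fun h => (hq.dvd_mul.mp h).elim hQi (hH.2 q hq hqμ)
  refine H8.hasNPC_of_normalizer_le_centralizer (hQ.toSylow hQi') fun g hg => ?_
  change g ∈ normalizer (Q : Set G) at hg
  change g ∈ centralizer (Q : Set G)
  have hHC : H ≤ centralizer (Q : Set G) := (le_centralizer H).trans (centralizer_le hQH)
  have h1 : IsPiHallOf μ H (centralizer (Q : Set G)) :=
    H1.isPiHallOf_of_le (H1.isPiHallOf_top_iff.mpr hH) hHC le_top
  haveI : Group.IsNilpotent H := L.isNilpotent_of_isMulCommutative H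
  obtain ⟨c, hc, hc'⟩ := exists_conj_eq_of_nilpotent_hall h1 inferInstance
    (H1.isPiHallOf_map_conj h1 (H1.normalizer_le_normalizer_centralizer Q hg))
    (L.isNilpotent_map _ _)
  rw [H1.map_conj_map_conj, H1.map_conj_eq_self_iff] at hc'
  exact (mul_mem_cancel_left hc).mp (centralizer_le hQH (hN hc'))

theorem exists_nilpotent_hall_of_lt_mul_kpi (π : Finset ℕ) :
    ∀ (G : Type u) [Group G] [Finite G] (p : ℕ), (∀ r ∈ π, r.Prime ∧ p ≤ r) →
      H3.piPart π (Nat.card G) < p * H3.kpi π G →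
      ∃ W : Subgroup G, IsPiHall π W ∧ Group.IsNilpotent W := by
  induction π using Finset.induction_on_min with
  | empty =>
    intro G _ _ p _ _
    exact ⟨⊥, ⟨L.isPiSubgroup_bot _, fun r _ hr => by simp at hr⟩, inferInstance⟩
  | insert p μ hpμ ih =>
  intro G _ _ p' hπ hlt'
  have hp : p.Prime := (hπ p (Finset.mem_insert_self _ _)).1
  haveI := Fact.mk hp
  have hπ' : ∀ r ∈ insert p μ, r.Prime := fun r hr => (hπ r hr).1
  have hμ : ∀ r ∈ μ, r.Prime := fun r hr => hπ' r (Finset.mem_insert_of_mem hr)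
  have hpμ' : p ∉ μ := fun h => lt_irrefl _ (hpμ p h)
  have hlt : H3.piPart (insert p μ) (Nat.card G) < p * H3.kpi (insert p μ : Finset ℕ) G :=
    hlt'.trans_le (Nat.mul_le_mul_right _ (hπ p (Finset.mem_insert_self _ _)).2)
  clear hlt' hπ p'
  have hfin : ∀ W : Subgroup G, IsPiHall (insert p μ : Finset ℕ) W →
      (∀ x y : G, Commute x y → L.IsPiNum {p} (orderOf x) → L.IsPiNum μ (orderOf y) →
        ∃ g, g * (x * y) * g⁻¹ ∈ W) → ∃ W : Subgroup G, IsPiHall (insert p μ : Finset ℕ) W ∧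
        Group.IsNilpotent W := by
    intro W hL hD
    have h1 : H3.kpi (insert p μ : Finset ℕ) G ≤ Nat.card (ConjClasses W) := by
      refine kpi_le_card_conjClasses fun z hz => ?_
      rw [Finset.coe_insert] at hz
      obtain ⟨x, y, hxy, hx, hy, rfl⟩ := exists_decomp_insert hp hz
      exact hD x y hxy hx hy
    have h2 : ∀ r : ℕ, r.Prime → r ∣ Nat.card W → p ≤ r := fun r hr h => by
      rcases Finset.mem_insert.mp (hL.1 r hr h) with rfl | h
      exacts [le_rfl, (hpμ r h).le]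
    refine ⟨W, hL, isNilpotent_of_card_commutator_le h2 (card_commutator_le_of_lt_mul h2 ?_)⟩
    rw [card_eq_piPart hπ' hL]
    exact hlt.trans_le (Nat.mul_le_mul_left _ h1)
  have hsplit : H3.piPart (insert p μ) (Nat.card G) =
      p ^ (Nat.card G).factorization p * H3.piPart μ (Nat.card G) := Finset.prod_insert hpμ'
  have hK1 : H3.kpi (insert p μ : Finset ℕ) G ≤
      H3.kpi μ G * p ^ (Nat.card G).factorization p := by
    rw [kpi_eq_ncl, kpi_eq_ncl]
    refine ncl_le_mul _ _ (L.IsPiNum {p}) _ (fun x hx g => ?_) (fun z hz => ?_) fun x _ => ?_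
    · change L.IsPiNum _ _
      rwa [orderOf_conj']
    · change L.IsPiNum _ _ at hz
      rw [Finset.coe_insert] at hz
      obtain ⟨x, y, hxy, hx, hy, rfl⟩ := exists_decomp_insert hp hz
      exact ⟨y, hy, x, hxy.symm, hx, hxy.eq⟩
    · rw [← kpi_eq_ncl, ← Finset.coe_singleton]
      have h1 : ∀ r ∈ ({p} : Finset ℕ), r.Prime := by simpa using hp
      refine (H3.kpi_le_piPart _ h1 _).trans ((H3.piPart_le_of_dvd h1 Nat.card_pos.ne'
        (card_subgroup_dvd_card _)).trans ?_)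
      simp [H3.piPart]
  have hμlt : H3.piPart μ (Nat.card G) < p * H3.kpi μ G := by
    refine lt_of_mul_lt_mul_left (a := p ^ (Nat.card G).factorization p) ?_ (Nat.zero_le _)
    rw [← hsplit]
    refine hlt.trans_le ((Nat.mul_le_mul_left _ hK1).trans (le_of_eq (by ring)))
  obtain ⟨H, hH, hHn⟩ := ih G p (fun r hr => ⟨hμ r hr, (hpμ r hr).le⟩) hμlt
  have hcH := card_eq_piPart hμ hH
  haveI hHa : IsMulCommutative H := by
    rw [← _root_.commutator_eq_bot_iff, ← Subgroup.card_eq_one]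
    by_contra hne
    have h1 := card_commutator_le_of_lt_mul (G := H) (p := p)
      (fun r hr h => (hpμ r (hH.1 r hr h)).le)
      (hcH ▸ hμlt.trans_le (Nat.mul_le_mul_left _ (kpi_le_card_conjClasses_of_nilpotent hH hHn)))
    have h2 := le_of_isPiNum_of_ne_one (π := μ) (q := p + 1) (fun r hr => hpμ r hr)
      (L.IsPiNum.of_dvd hH.1 (card_subgroup_dvd_card (commutator H))) Nat.card_pos.ne' hne
    omega
  by_cases hN : normalizer (H : Set G) ≤ centralizer (H : Set G)
  · obtain ⟨K, hK, hK1, hK2, -⟩ := H3.exists_normal_piComplement (G := G) (μ : Set ℕ)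
      fun r hr hrp => hasNPC_of_abelian_hall hH hN hrp hr
    obtain ⟨B, hBK, hB, hBi⟩ := H1.exists_sylow_le p K
    obtain ⟨W, hL, hD⟩ := exists_hall_of_normal_complement (σ := {p}) (τ := μ)
      (fun r hr => hr ▸ hpμ') K hH hHn hK1 hK2
      ⟨hBK, (L.isPiSubgroup_singleton_iff hp).mpr hB, fun r _ hr => hr ▸ hBi⟩ hB.isNilpotent
    refine hfin W (by rwa [Finset.coe_insert]) fun x y hxy hx hy => ?_
    rw [hxy.eq]
    exact hD y x hxy.symm hy hx
  by_cases hNPC : HasNormalPComplement p G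
  · obtain ⟨K, hK, hK1, k, hK2⟩ := H8.hasNPC_iff_exists.mp hNPC
    obtain ⟨P⟩ : Nonempty (Sylow p G) := inferInstance
    have hK3 : L.IsPiNum {p} K.index :=
      (L.isPiNum_singleton_iff hp index_ne_zero_of_finite).mpr ⟨k, hK2⟩
    have hHK : H ≤ K := fun x hx => H8.mem_of_coprime_index
      (L.IsPiNum.coprime hK3 fun r hr h => by
        rintro rfl
        exact hpμ' (hH.1 r hr (h.trans (orderOf_dvd_natCard _ hx)))).symm
    obtain ⟨W, hL, hD⟩ := exists_hall_of_normal_complement (σ := μ) (τ := {p})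
      (fun r hr h => hpμ' (h ▸ hr)) K (isPiHall_sylow P) P.isPGroup'.isNilpotent
      ((L.isPiNum_compl_singleton_iff hp).mpr hK1) hK3
      (H1.isPiHallOf_of_le (H1.isPiHallOf_top_iff.mpr hH) hHK le_top) hHn
    exact hfin W (by rwa [Finset.coe_insert, Set.insert_eq, Set.union_comm]) hD
  obtain ⟨P₀, hP₀C, hP₀, hP₀i⟩ := H1.exists_sylow_le p (centralizer (H : Set G))
  obtain ⟨P, hP⟩ := hP₀.exists_le_sylow
  have hP₀N : P₀ ≤ normalizer (H : Set G) := H1.le_normalizer_of_le_centralizer hP₀C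
  by_cases hPP : P₀ = P
  · refine ⟨P₀ ⊔ H, ?_, H2.isNilpotent_sup_of_le_normalizer hP₀N
      (H1.le_normalizer_of_le_centralizer (le_centralizer_iff.mp hP₀C)) hP₀.isNilpotent hHn⟩
    rw [Finset.coe_insert, Set.insert_eq, Set.union_comm]
    exact isPiHall_sup (hPP ▸ isPiHall_sylow P) hH hP₀N
  exfalso
  have hn : Nat.card P = p ^ (Nat.card G).factorization p := P.card_eq_multiplicity
  have hn₀ : p * Nat.card P₀ ≤ Nat.card P := by
    rw [← relIndex_mul_card_eq hP]
    refine Nat.mul_le_mul_right _ (le_of_isPiNum_of_ne_one (π := {p}) (fun r hr => hr ▸ le_rfl)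
      (L.IsPiNum.of_dvd (isPiHall_sylow P).1 (relIndex_dvd_card _ _)) (L.relIndex_ne_zero _ _)
      fun h => hPP (le_antisymm hP (relIndex_eq_one.mp h)))
  -- the bound for the primes in `μ`
  obtain ⟨q, hq, hq'⟩ : ∃ q : ℕ, (∀ r ∈ μ, q ≤ r) ∧ ((p = 2 ∧ q = 3) ∨ q = p + 2) := by
    rcases hp.eq_two_or_odd' with h2 | h2
    · exact ⟨3, fun r hr => by have := hpμ r hr; omega, Or.inl ⟨h2, rfl⟩⟩
    · refine ⟨p + 2, fun r hr => ?_, Or.inr rfl⟩
      have h3 := hpμ r hr
      have h4 := hp.two_le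
      obtain ⟨a, ha⟩ := h2
      obtain ⟨b, hb⟩ := (hμ r hr).odd_of_ne_two (by omega)
      omega
  -- the element `t`
  obtain ⟨t, htN, htC⟩ := SetLike.not_le_iff_exists.mp hN
  obtain ⟨c, hc, hct⟩ := H1.frattini_argument hP₀C hP₀ hP₀i
    (H1.normalizer_le_normalizer_centralizer H htN)
  have htN' : c * t ∈ normalizer (H : Set G) :=
    mul_mem (H1.le_normalizer_of_le_centralizer le_rfl hc) htN
  have htC' : c * t ∉ centralizer (H : Set G) := fun h => htC ((mul_mem_cancel_left hc).mp h)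
  generalize c * t = s at hct htN' htC'
  let T := P₀ ⊔ H
  have hT : Nat.card T ≤ Nat.card P₀ * Nat.card H :=
    Nat.le_of_dvd (Nat.mul_pos Nat.card_pos Nat.card_pos) (H1.card_sup_dvd hP₀N)
  have hsT : s ∈ normalizer (T : Set G) :=
    H1.le_normalizer_sup (A := zpowers s) (zpowers_le.mpr hct) (zpowers_le.mpr htN')
      (mem_zpowers s)
  let Y := centralizer ({s} : Set G) ⊓ T
  have ha : 2 * ncl (T : Set G) ≤ Nat.card T + Nat.card Y := by
    refine two_mul_ncl_le (T : Set G) (Y : Set G) fun z hz hw => ⟨?_, hz⟩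
    have := hw _ ((mem_normalizer_iff.mp hsT z).mp hz) (isConj_iff.mpr ⟨s, rfl⟩)
    exact mem_centralizer_singleton_iff.mpr (mul_inv_eq_iff_eq_mul.mp this).symm
  have hY : q * Nat.card Y ≤ Nat.card T := by
    rw [← H1.card_inf_mul_relIndex (centralizer ({s} : Set G)) T, mul_comm]
    refine Nat.mul_le_mul_left _ (le_trans ?_ (relIndex_le_of_le_right (K := H) le_sup_right
      (L.relIndex_ne_zero _ _)))
    refine le_of_isPiNum_of_ne_one (π := μ) hq (L.IsPiNum.of_dvd hH.1 (relIndex_dvd_card _ _))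
      (L.relIndex_ne_zero _ _) fun h => htC' fun x hx => ?_
    exact mem_centralizer_singleton_iff.mp (relIndex_eq_one.mp h hx)
  let X := {x : G | L.IsPiNum {p} (orderOf x) ∧ ∀ g, g * x * g⁻¹ ∉ centralizer (H : Set G)}
  let S := {z : G | ∃ x ∈ X, ∃ y, Commute x y ∧ L.IsPiNum μ (orderOf y) ∧ z = x * y}
  have hq0 : 0 < q := by omega
  have hS : ncl S ≤ ncl X * (Nat.card H / q) := by
    refine ncl_le_mul S X (L.IsPiNum μ) _ (fun x hx g => ⟨by rw [orderOf_conj']; exact hx.1,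
      fun u hu => hx.2 (u * g) (by simpa [mul_assoc] using hu)⟩) (fun z hz => hz) fun x hx => ?_
    rw [← kpi_eq_ncl, Nat.le_div_iff_mul_le hq0, mul_comm]
    by_contra hlt1
    push Not at hlt1
    obtain ⟨w, hw⟩ := piPart_dvd_of_dvd (π := μ) Nat.card_pos.ne'
      (card_subgroup_dvd_card (centralizer ({x} : Set G)))
    by_cases hw1 : w = 1
    · rw [hw1, mul_one, ← hcH] at hw
      obtain ⟨H₁, hH₁, hH₁n⟩ := ih (centralizer ({x} : Set G)) q (fun r hr => ⟨hμ r hr, hq r hr⟩)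
        (hw ▸ hlt1)
      obtain ⟨g, -, hg⟩ := exists_conj_mem_of_nilpotent_hall (H₁.map (centralizer {x}).subtype)
        (H1.isPiHallOf_top_iff.mpr hH) hHn le_top (H1.isPiSubgroup_map_subtype hH₁.1)
        (L.isNilpotent_map _ _)
      have h1 : (H₁.map (centralizer {x}).subtype).map (MulAut.conj g).toMonoidHom = H := by
        refine H1.eq_of_le_of_card_le (H1.map_conj_le_iff.mpr hg) ?_
        rw [H1.card_map_conj, H2.card_map_subtype, card_eq_piPart hμ hH₁, hw]
      refine hx.2 g fun h hh => ?_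
      rw [← h1] at hh
      obtain ⟨_, ⟨u, -, rfl⟩, rfl⟩ := hh
      exact mem_centralizer_singleton_iff.mp (conj_mem_centralizer_of_commute
        (mem_centralizer_singleton_iff.mp u.2).symm g)
    · have h1 : q ≤ w := le_of_isPiNum_of_ne_one (π := μ) hq
        (L.IsPiNum.of_dvd (isPiNum_piPart hμ _) (Dvd.intro_left _ hw.symm))
        (fun h => (H3.piPart_pos hμ (Nat.card G)).ne' (by rw [hw, h, mul_zero])) hw1
      have h2 := H3.kpi_le_piPart μ hμ (centralizer ({x} : Set G))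
      rw [hcH, hw, mul_comm] at hlt1
      exact absurd (Nat.mul_le_mul h1 h2) (not_le.mpr hlt1)
  have hk : H3.kpi (insert p μ : Finset ℕ) G ≤ ncl (T : Set G) + ncl S := by
    rw [kpi_eq_ncl]
    refine (ncl_le_of_conj fun z hz => ?_).trans (ncl_union_le _ _)
    change L.IsPiNum _ _ at hz
    rw [Finset.coe_insert] at hz
    obtain ⟨x, y, hxy, hx, hy, rfl⟩ := exists_decomp_insert hp hz
    by_cases hxX : x ∈ X
    · exact ⟨_, Or.inr ⟨x, hxX, y, hxy, hy, rfl⟩, IsConj.refl _⟩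
    obtain ⟨g, hg⟩ : ∃ g, g * x * g⁻¹ ∈ centralizer (H : Set G) := by
      by_contra h
      push Not at h
      exact hxX ⟨hx, h⟩
    obtain ⟨k, hk⟩ := (L.isPiNum_singleton_iff hp (orderOf_pos x).ne').mp hx
    obtain ⟨u, -, hu⟩ := H1.exists_conj_le_sylow hP₀ hP₀i (zpowers_le.mpr hg)
      (H8.isPGroup_zpowers_of_orderOf (k := k) (by rwa [orderOf_conj']))
    have hu' : (u * g) * x * (u * g)⁻¹ ∈ P₀ := by
      simpa [mul_assoc] using H1.map_conj_le_iff.mp hu _ (mem_zpowers _)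
    generalize u * g = v at hu'
    obtain ⟨c, hc, hc'⟩ := exists_conj_elem_mem_of_nilpotent_hall
      (H1.isPiHallOf_of_le (H1.isPiHallOf_top_iff.mpr hH) (L := centralizer {v * x * v⁻¹})
        (fun h hh => mem_centralizer_singleton_iff.mpr (hP₀C hu' h hh)) le_top) hHn
      (conj_mem_centralizer_of_commute hxy v) (by rwa [orderOf_conj'])
    refine ⟨_, Or.inl (mul_mem (mem_sup_left hu') (mem_sup_right hc')), isConj_iff.mpr ⟨c * v, ?_⟩⟩
    calc c * v * (x * y) * (c * v)⁻¹ = (c * (v * x * v⁻¹)) * (v * y * v⁻¹) * c⁻¹ := by group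
      _ = _ := by rw [mem_centralizer_singleton_iff.mp hc]; group
  have hB : q * (Nat.card H / q) ≤ Nat.card H := Nat.mul_div_le _ _
  rw [hsplit, ← hn, ← hcH] at hlt
  have hlt2 := hlt.trans_le (Nat.mul_le_mul_left _ (hk.trans (Nat.add_le_add_left hS _)))
  rcases hq' with ⟨rfl, rfl⟩ | rfl
  · have hD : ncl X + Nat.card P₀ ≤ Nat.card P := by
      have h1 : ncl X ≤ (((P : Subgroup G) : Set G) \ P₀).ncard := by
        refine (ncl_le_of_conj fun x hx => ?_).trans (ncl_le_ncard _)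
        obtain ⟨k, hk⟩ := (L.isPiNum_singleton_iff hp (orderOf_pos x).ne').mp hx.1
        obtain ⟨y, hy, hxy⟩ := H3.exists_isConj_mem_sylow P hk
        refine ⟨y, ⟨hy, fun h => ?_⟩, hxy⟩
        obtain ⟨g, rfl⟩ := isConj_iff.mp hxy
        exact hx.2 g (hP₀C h)
      have h2 := Set.ncard_sdiff_add_ncard_of_subset (s := (P₀ : Set G))
        (t := ((P : Subgroup G) : Set G)) hP
      exact (Nat.add_le_add_right h1 _).trans h2.le
    generalize Nat.card H / 3 = B at *
    generalize ncl X = D at *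
    generalize ncl (T : Set G) = a at *
    generalize Nat.card T = t' at *
    generalize Nat.card Y = y at *
    generalize Nat.card P₀ = n₀ at *
    generalize Nat.card P = n at *
    generalize Nat.card H = h at *
    nlinarith [Nat.mul_le_mul_left D hB, Nat.mul_le_mul_right h hD, Nat.mul_le_mul_right h hn₀]
  · have hD : 2 * p * ncl X ≤ (p + 1) * Nat.card P := by
      by_contra hD
      push Not at hD
      refine hNPC (H8.hasNPC_of_normalizer_le_centralizer P
        (H3.normalizer_le_centralizer_of_kcl P (hD.trans_le (Nat.mul_le_mul_left _ ?_))))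
      rw [kcl_eq_ncl (Q := fun n => ∃ k, n = p ^ k)]
      exact ncl_le_of_conj fun x hx =>
        ⟨x, (L.isPiNum_singleton_iff hp (orderOf_pos x).ne').mp hx.1, IsConj.refl x⟩
    generalize Nat.card H / (p + 2) = B at *
    generalize ncl X = D at *
    generalize ncl (T : Set G) = a at *
    generalize Nat.card T = t' at *
    generalize Nat.card Y = y at *
    generalize Nat.card P₀ = n₀ at *
    generalize Nat.card P = n at *
    generalize Nat.card H = h at *
    have e1 : (p + 2) * (2 * a) ≤ (p + 3) * (n₀ * h) := by nlinarith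
    have e2 : p * ((p + 2) * (2 * a)) ≤ (p + 3) * (n * h) := by
      calc _ ≤ p * ((p + 3) * (n₀ * h)) := Nat.mul_le_mul_left _ e1
        _ = (p + 3) * ((p * n₀) * h) := by ring
        _ ≤ _ := Nat.mul_le_mul_left _ (Nat.mul_le_mul_right _ hn₀)
    have e3 : (2 * p * D) * ((p + 2) * B) ≤ ((p + 1) * n) * h := Nat.mul_le_mul hD hB
    have e4 := Nat.mul_lt_mul_of_pos_left hlt2 (show 0 < 2 * (p + 2) by omega)
    nlinarith

/-- The form of the theorem used by the statements. -/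
theorem exists_nilpotent_hall_of_lt_mul [Finite G]
    (π : Set ℕ) (p : ℕ) (hmin : ∀ q ∈ π, p ≤ q)
    (m : ℕ) (hm : m ∣ Nat.card G) (hmπ : ∀ q : ℕ, q.Prime → q ∣ m → q ∈ π)
    (hm' : ∀ q ∈ π, ¬ q ∣ Nat.card G / m)
    (k : ℕ) (hk : k = Nat.card {C : ConjClasses G // ∀ q : ℕ, q.Prime →
      (∃ g : G, ConjClasses.mk g = C ∧ q ∣ orderOf g) → q ∈ π})
    (hmany : m < p * k) :
    ∃ H : Subgroup G, Nat.card H = m ∧ Group.IsNilpotent H ∧ k ≤ Nat.card (ConjClasses H) ∧
      ∀ r : ℕ, r.Prime → r ∣ Nat.card H → p ≤ r := by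
  classical
  let σ := (Nat.card G).primeFactors.filter (· ∈ π)
  have hσ : ∀ r ∈ σ, r.Prime := fun r hr =>
    Nat.prime_of_mem_primeFactors (Finset.mem_filter.mp hr).1
  have hmem : ∀ r : ℕ, r.Prime → r ∣ Nat.card G → r ∈ π → r ∈ σ := fun r hr h1 h2 =>
    Finset.mem_filter.mpr ⟨Nat.mem_primeFactors.mpr ⟨hr, h1, Nat.card_pos.ne'⟩, h2⟩
  have h1 : m = H3.piPart σ (Nat.card G) := by
    have h2 := Nat.mul_div_cancel' hm
    rw [← h2]
    exact eq_piPart hσ (by rw [h2]; exact Nat.card_pos.ne')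
      (fun r hr h => hmem r hr (h.trans hm) (hmπ r hr h))
      fun r hr => hm' r (Finset.mem_filter.mp hr).2
  have h2 : k = H3.kpi σ G := by
    rw [hk, H3.kpi, H3.kcl]
    refine Nat.card_congr (Equiv.subtypeEquivRight fun c => ⟨fun h x hx r hr hd => ?_, ?_⟩)
    · exact hmem r hr (hd.trans (orderOf_dvd_natCard x))
        (h r hr ⟨x, ConjClasses.mem_carrier_iff_mk_eq.mp hx, hd⟩)
    · rintro h r hr ⟨x, hx, hd⟩
      exact (Finset.mem_filter.mp (h x (ConjClasses.mem_carrier_iff_mk_eq.mpr hx) r hr hd)).2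
  obtain ⟨H, hH, hHn⟩ := exists_nilpotent_hall_of_lt_mul_kpi σ G p
    (fun r hr => ⟨hσ r hr, hmin r (Finset.mem_filter.mp hr).2⟩) (by rwa [← h1, ← h2])
  exact ⟨H, by rw [card_eq_piPart hσ hH, h1], hHn,
    h2 ▸ kpi_le_card_conjClasses_of_nilpotent hH hHn,
    fun r hr h => hmin r (Finset.mem_filter.mp (hH.1 r hr h)).2⟩

end Cfsg.Agent.H6
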