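import Cfsg.Agent.H6.Burnside

/-!
A block-free substitute for the block orthogonality relation: counting tuples with prescribed
product by rotating them.
-/

set_option autoImplicit false
set_option linter.style.haveILetI false

open scoped ComplexConjugate

namespace Cfsg.Agent.H6

variable {G : Type*} [Group G]

/-- If the length of every orbit is divisible by `D`, so is the size of the set. -/
theorem dvd_card_of_forall_dvd_index_stabilizer (A : Type*) [Group A] {T : Type*} [Finite T]
    [MulAction A T] {D : ℕ} (h : ∀ t : T, D ∣ (MulAction.stabilizer A t).index) :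
    D ∣ Nat.card T := by
  classical
  letI := Fintype.ofFinite (MulAction.orbitRel.Quotient A T)
  rw [Nat.card_congr (MulAction.selfEquivSigmaOrbits A T), Nat.card_sigma]
  refine Finset.dvd_sum fun o _ => ?_
  have := h o.out
  rwa [MulAction.index_stabilizer, ← Nat.card_coe_set_eq] at this

/-- The ordered product of the first `n` values of a sequence. -/
def seqProd (f : ℕ → G) (n : ℕ) : G := ((List.range n).map f).prod

theorem seqProd_add (f : ℕ → G) (a b : ℕ) :
    seqProd f (a + b) = seqProd f a * seqProd (fun i => f (a + i)) b := by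
  simp [seqProd, List.range_add, Function.comp_def]

theorem seqProd_mul (f : ℕ → G) (d : ℕ) (h : ∀ i, f (d + i) = f i) (k : ℕ) :
    seqProd f (d * k) = seqProd f d ^ k := by
  induction k with
  | zero => simp [seqProd]
  | succ k ih =>
    rw [Nat.mul_succ, add_comm, seqProd_add, pow_succ', ← ih]
    simp only [h]

theorem isConj_seqProd_shift (f : ℕ → G) (m : ℕ) (h : ∀ i, f (m + i) = f i) (c : ℕ) :
    IsConj (seqProd f m) (seqProd (fun i => f (c + i)) m) := by
  have h1 := seqProd_add f c m
  have h2 := seqProd_add f m c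
  simp only [h] at h2
  rw [add_comm, h2] at h1
  refine isConj_iff.mpr ⟨(seqProd f c)⁻¹, ?_⟩
  rw [inv_inv, mul_assoc, h1, inv_mul_cancel_left]

/-- Tuples indexed by `ZMod m` whose product is conjugate to `y`. -/
def RotTuples {X : Type*} (π : X → G) (y : G) (m : ℕ) : Type _ :=
  {t : ZMod m → X // IsConj y (seqProd (fun i => π (t i)) m)}

instance instFiniteRotTuples {X : Type*} [Finite X] (π : X → G) (y : G) (m : ℕ) [NeZero m] :
    Finite (RotTuples π y m) := by
  unfold RotTuples; infer_instance

instance instMulActionRotTuples {X : Type*} (π : X → G) (y : G) (m : ℕ) [NeZero m] :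
    MulAction (Multiplicative (ZMod m)) (RotTuples π y m) where
  smul c t := ⟨fun i => t.1 (c.toAdd + i), by
    refine t.2.trans ?_
    have := isConj_seqProd_shift (fun i => π (t.1 i)) m (fun i => by simp) c.toAdd.val
    simpa using this⟩
  one_smul t := Subtype.ext (funext fun i => by
    change t.1 (_ + i) = t.1 i
    simp)
  mul_smul a b t := Subtype.ext (funext fun i => by
    change t.1 (_ + i) = t.1 (b.toAdd + (a.toAdd + i))
    rw [toAdd_mul, add_comm a.toAdd, add_assoc])

theorem pow_dvd_card_rotTuples [Finite G] {X : Type*} [Finite X] (π : X → G) {y : G} {q : ℕ}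
    (hq : q.Prime) (hy : q ∣ orderOf y) (m : ℕ) [NeZero m] (s : ℕ)
    (hm : q ^ ((Nat.card G).factorization q + s) ∣ m) :
    q ^ s ∣ Nat.card (RotTuples π y m) := by
  refine dvd_card_of_forall_dvd_index_stabilizer (Multiplicative (ZMod m)) fun t => ?_
  set S := MulAction.stabilizer (Multiplicative (ZMod m)) t with hS
  set ν := (Nat.card G).factorization q with hν
  by_contra hnd
  have hrm : S.index ∣ m := by
    have := S.index_dvd_card
    rwa [Nat.card_congr Multiplicative.toAdd, Nat.card_zmod] at this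
  obtain ⟨w, hw⟩ := hrm
  have hw0 : w ≠ 0 := by
    rintro rfl
    exact NeZero.ne m (by simpa using hw)
  have hr0 : S.index ≠ 0 := Subgroup.index_ne_zero_of_finite
  have hνw : q ^ ν ∣ w := by
    rw [hq.pow_dvd_iff_le_factorization hw0]
    rw [hq.pow_dvd_iff_le_factorization hr0] at hnd
    rw [hq.pow_dvd_iff_le_factorization (NeZero.ne m), hw, Nat.factorization_mul hr0 hw0] at hm
    simp only [Finsupp.add_apply] at hm
    omega
  have hmem : (Multiplicative.ofAdd (1 : ZMod m)) ^ S.index ∈ S := Subgroup.pow_index_mem S _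
  have hper : ∀ i : ℕ, π (t.1 ((S.index + i : ℕ) : ZMod m)) = π (t.1 i) := by
    intro i
    have h0 : _ • t = t := hmem
    have h1 := congrFun (congrArg Subtype.val h0) (i : ZMod m)
    rw [← h1]
    congr 1
    change t.1 _ = t.1 (_ + _)
    simp
  have h2 := seqProd_mul (fun i => π (t.1 i)) S.index hper w
  have h3 := t.2
  rw [← hw] at h2
  rw [h2] at h3
  obtain ⟨u, rfl⟩ := hνw
  have hG : Nat.card G ≠ 0 := Nat.card_pos.ne'
  have h4 : (seqProd (fun i => π (t.1 i)) S.index ^ (q ^ ν * u)) ^ (Nat.card G / q ^ ν) = 1 := by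
    rw [← pow_mul, mul_right_comm, Nat.mul_div_cancel' (Nat.ordProj_dvd _ _), pow_mul,
      pow_card_eq_one', one_pow]
  have h5 : y ^ (Nat.card G / q ^ ν) = 1 := by
    obtain ⟨c, hc⟩ := isConj_iff.mp h3
    rw [← hc, conj_pow] at h4
    simpa using h4
  exact Nat.not_dvd_ordCompl hq hG (hy.trans (orderOf_dvd_of_pow_eq_one h5))

theorem sum_tuples_char {X : Type*} [Fintype X] (π : X → G) (χ : G → ℂ) (ω : ℂ)
    (h : ∀ g, ∑ a, χ (π a * g) = ω * χ g) (n : ℕ) (g : G) :
    ∑ t : Fin n → X, χ ((List.ofFn (fun i => π (t i))).prod * g) = ω ^ n * χ g := by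
  induction n with
  | zero => simp
  | succ n ih =>
    rw [← (Fin.consEquiv fun _ => X).sum_comp, Fintype.sum_prod_type_right, pow_succ', mul_assoc,
      ← ih, Finset.mul_sum]
    refine Finset.sum_congr rfl fun t _ => ?_
    rw [← h]
    refine Finset.sum_congr rfl fun a _ => ?_
    simp [List.ofFn_succ, mul_assoc]

theorem sum_tuples_char_zmod {X : Type*} [Fintype X] (π : X → G) (χ : G → ℂ) (ω : ℂ)
    (h : ∀ g, ∑ a, χ (π a * g) = ω * χ g) (m : ℕ) [NeZero m] :
    ∑ t : ZMod m → X, χ (seqProd (fun i => π (t i)) m) = ω ^ m * χ 1 := by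
  classical
  rw [← sum_tuples_char π χ ω h m 1]
  let e : (ZMod m → X) ≃ (Fin m → X) :=
    { toFun := fun t i => t (i.val : ZMod m)
      invFun := fun s z => s ⟨z.val, ZMod.val_lt z⟩
      left_inv := fun t => funext fun z => by simp
      right_inv := fun s => funext fun i => by
        simp [ZMod.val_natCast, Nat.mod_eq_of_lt i.2] }
  refine Fintype.sum_equiv e _ _ fun t => ?_
  rw [mul_one, seqProd]
  congr 2
  refine List.ext_getElem (by simp) fun i h1 h2 => ?_
  simp [e]

/-- The sum `∑ χ(1) conj(χ y) ω_χ(x)^m` is an integer divisible by a high power of `q` when `y` is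
`q`-singular and `m` is divisible by a high power of `q`. -/
theorem exists_sum_central_pow_eq [Fintype G] [Fintype (IrrCharacter G)] (x : G) {y : G} {q : ℕ}
    (hq : q.Prime) (hy : q ∣ orderOf y) (m : ℕ) (hm0 : m ≠ 0) (s : ℕ)
    (hm : q ^ ((Nat.card G).factorization q + s) ∣ m) :
    ∃ k : ℕ, ∑ χ : IrrCharacter G, χ.1 1 * conj (χ.1 y) *
      (((Subgroup.centralizer ({x} : Set G)).index : ℂ) * χ.1 x / χ.1 1) ^ m = (q : ℂ) ^ s * k := by
  classical
  haveI : NeZero m := ⟨hm0⟩
  let X := {g : G // IsConj x g}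
  obtain ⟨k, hk⟩ := pow_dvd_card_rotTuples (Subtype.val : X → G) hq hy m s hm
  refine ⟨k * Nat.card (Subgroup.centralizer ({y} : Set G)), ?_⟩
  have h1 : ∀ χ : IrrCharacter G, ∀ g, ∑ a : X, χ.1 (a.1 * g) =
      (((Subgroup.centralizer ({x} : Set G)).index : ℂ) * χ.1 x / χ.1 1) * χ.1 g := by
    intro χ g
    have h2 := χ.2.sum_mul_mul (isClassFunction_indicator x) g
    have h3 : ∀ f : G → ℂ, ∑ g, (if IsConj x g then (1 : ℂ) else 0) * f g = ∑ a : X, f a := by
      intro f
      rw [← Finset.sum_subtype (Finset.univ.filter (fun g => IsConj x g)) (by simp) f,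
        Finset.sum_filter]
      exact Finset.sum_congr rfl fun g _ => by split_ifs <;> simp
    rw [h3 (fun a => χ.1 (a * g)), h3] at h2
    rw [h2]
    congr 2
    rw [Finset.sum_congr rfl (g := fun _ => χ.1 x), Finset.sum_const, nsmul_eq_mul,
      ← card_filter_isConj, Finset.card_univ, Fintype.card_subtype]
    intro a _
    exact (χ.2.isCharacter.isClassFunction.of_isConj a.2).symm
  have h2 : ∀ χ : IrrCharacter G, χ.1 1 * conj (χ.1 y) *
      (((Subgroup.centralizer ({x} : Set G)).index : ℂ) * χ.1 x / χ.1 1) ^ m =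
      ∑ t : ZMod m → X, χ.1 (seqProd (fun i => (t i).1) m) * conj (χ.1 y) := by
    intro χ
    rw [← Finset.sum_mul, sum_tuples_char_zmod _ _ _ (h1 χ)]
    ring
  simp only [h2]
  rw [Finset.sum_comm]
  have h3 : ∀ g : G, ∑ χ : IrrCharacter G, χ.1 g * conj (χ.1 y) =
      if IsConj y g then (Nat.card (Subgroup.centralizer ({y} : Set G)) : ℂ) else 0 := by
    intro g
    convert sum_irr_mul_conj g y
  simp only [h3]
  rw [← Finset.sum_filter, Finset.sum_const, nsmul_eq_mul, ← Fintype.card_subtype,
    ← Nat.card_eq_fintype_card]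
  change (Nat.card (RotTuples (Subtype.val : X → G) y m) : ℂ) * _ = _
  rw [hk]
  push_cast
  ring

end Cfsg.Agent.H6
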