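import Cfsg.Agent.H6.CaminaLemma
import Cfsg.Agent.H7.ClassProd
import Cfsg.Agent.H2.Radical

/-! Normal subgroups with two class sizes. -/

set_option autoImplicit false
set_option linter.style.haveILetI false

namespace Cfsg.Agent.H6

open Subgroup
open scoped commutatorElement Pointwise

variable {G : Type*} [Group G] [Finite G]

theorem eq_of_le_of_index_le {H K : Subgroup G} (h : H ≤ K) (hi : H.index ≤ K.index) : H = K := by
  refine H1.eq_of_le_of_card_le h ?_
  have h1 := H.card_mul_index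
  have h2 := K.card_mul_index
  have h3 : 0 < K.index := Nat.pos_of_ne_zero index_ne_zero_of_finite
  refine Nat.le_of_mul_le_mul_right ?_ h3
  rw [h2, ← h1]
  exact Nat.mul_le_mul_left _ hi

theorem isNilpotent_of_forall_commute (h : ∀ (p q i j : ℕ) (a b : G), p.Prime → q.Prime → p ≠ q →
    orderOf a = p ^ i → orderOf b = q ^ j → Commute a b) : Group.IsNilpotent G := by
  refine H8.isNilpotent_of_forall_hasNPC fun p hp _ => ?_
  haveI := Fact.mk hp
  obtain ⟨P⟩ : Nonempty (Sylow p G) := inferInstance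
  refine H8.hasNPC_of_primePow_centralizes P fun X hX _ g _ q k hq hqp hg x hx => ?_
  obtain ⟨i, hi⟩ := H8.exists_orderOf_eq_pow_of_mem P.isPGroup' (hX hx)
  exact h p q i k x g hp hq hqp.symm hi hg

theorem exists_primePow_mem_normalizer {s : ℕ} [hs : Fact s.Prime] {D S : Subgroup G}
    (hSD : S ≤ D) (hS : IsPGroup s S) (hSi : ¬ s ∣ S.relIndex D) (hD : s ∣ D.index) :
    ∃ (u : G) (k : ℕ), orderOf u = s ^ k ∧ u ∈ normalizer (S : Set G) ∧ u ∉ D := by
  obtain ⟨R, hR⟩ := hS.exists_le_sylow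
  have hlt : S < R := lt_of_le_of_ne hR fun h => R.not_dvd_index
    (h ▸ hD.trans (index_dvd_of_le hSD))
  obtain ⟨u, hu1, hu2, hu3⟩ := H1.exists_mem_normalizer_of_lt R.isPGroup'.isNilpotent hlt
  obtain ⟨k, hk⟩ := H8.exists_orderOf_eq_pow_of_mem R.isPGroup' hu1
  refine ⟨u, k, hk, hu2, fun huD => hu3 ?_⟩
  have h1 := H1.sylow_maximal hSi (le_sup_left : S ≤ S ⊔ zpowers u)
    (sup_le hSD (zpowers_le.2 huD)) (R.isPGroup'.to_le (sup_le hR (zpowers_le.2 hu1)))
  rw [← h1]
  exact mem_sup_right (mem_zpowers u)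

/-- Ambient form of Camina's lemma: `A` is normalized by `N(D)`, every non-central element of `A`
has centralizer `D`; then two primes cannot divide both `|A : A ∩ Z|` and `|N(D) : D|`. -/
theorem camina_false' {r q : ℕ} [hr : Fact r.Prime] [hq : Fact q.Prime] (hrq : r ≠ q)
    {A D : Subgroup G} (hAD : A ≤ D) (hn : normalizer (D : Set G) ≤ normalizer (A : Set G))
    (hA : ∀ a ∈ A, a ∉ center G → centralizer ({a} : Set G) = D)
    {x y u v : G} {i j k l : ℕ} (hx : orderOf x = r ^ i) (hy : orderOf y = q ^ j)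
    (hxA : x ∈ A) (hyA : y ∈ A) (hxc : x ∉ center G) (hyc : y ∉ center G)
    (hu : orderOf u = r ^ k) (hv : orderOf v = q ^ l) (huN : u ∈ normalizer (D : Set G))
    (hvN : v ∈ normalizer (D : Set G)) (huD : u ∉ D) (hvD : v ∉ D) : False := by
  set Y := normalizer (D : Set G) with hY
  have hDY : D ≤ Y := le_normalizer
  have hDA : D ≤ centralizer (A : Set G) := fun d hd a ha => by
    by_cases h : a ∈ center G
    · exact (mem_center_iff.1 h d).symm
    · exact (mem_centralizer_singleton_iff.1 (hA a ha h ▸ hd)).symm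
  have key : ∀ (s : ℕ) [Fact s.Prime] (z : G) (n : ℕ), orderOf z = s ^ n → z ∈ A → z ∉ center G →
      ((pCoreOf s A).subgroupOf Y).Normal ∧ IsPGroup s ((pCoreOf s A).subgroupOf Y) ∧
      IsMulCommutative ((pCoreOf s A).subgroupOf Y) ∧ ¬ (pCoreOf s A).subgroupOf Y ≤ center Y ∧
      D.subgroupOf Y ≤ centralizer (((pCoreOf s A).subgroupOf Y : Subgroup Y) : Set Y) ∧
      ∀ g, g ∉ D.subgroupOf Y →
        (pCoreOf s A).subgroupOf Y ⊓ centralizer ({g} : Set Y) ≤ center Y := by
    intro s _ z n hz hzA hzc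
    have hle := H2.pCoreOf_le s A
    refine ⟨H1.normal_subgroupOf_of_le (hn.trans (H2.normalizer_le_normalizer_pCoreOf s A)),
      (H2.isPGroup_pCoreOf s A).comap_subtype, ⟨⟨fun a b => Subtype.ext (Subtype.ext
        (hDA (hAD (hle b.2)) _ (hle a.2)))⟩⟩, fun h => huD ?_,
      fun d hd a ha => Subtype.ext (hDA hd _ (hle ha)), fun g hg a ha => ?_⟩
    · have h1 : z ∈ pCoreOf s A := (H2.SnIn.of_normal (zpowers_le.2 hzA)
        ((hAD.trans hDA).trans ((centralizer_le (zpowers_le.2 hzA)).trans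
          (centralizer_le_normalizer _)))).le_pCoreOf (H8.isPGroup_zpowers_of_orderOf hz)
          (mem_zpowers z)
      have h2 := mem_center_iff.1 (h (show (⟨z, hDY (hAD hzA)⟩ : Y) ∈ _ from h1)) ⟨u, huN⟩
      rw [← hA z hzA hzc, mem_centralizer_singleton_iff]
      exact congrArg Subtype.val h2
    · by_cases h : (a : G) ∈ center G
      · exact mem_center_iff.2 fun w => Subtype.ext (mem_center_iff.1 h w)
      · refine absurd ?_ hg
        rw [mem_subgroupOf, ← hA a (hle ha.1) h, mem_centralizer_singleton_iff]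
        exact (congrArg Subtype.val (mem_centralizer_singleton_iff.1 ha.2)).symm
  obtain ⟨a1, a2, a3, a4, a5, a6⟩ := key r x i hx hxA hxc
  obtain ⟨b1, b2, b3, b4, b5, b6⟩ := key q y j hy hyA hyc
  exact camina_false hrq a2 a3 a4 a5 a6 b2 b3 b4 b5 b6 (u := ⟨u, huN⟩) (v := ⟨v, hvN⟩)
    (by rw [← orderOf_coe]; exact hu) (by rw [← orderOf_coe]; exact hv) huD hvD

omit [Finite G] in
theorem mem_normalizer_of_centralizer_conj {x u : G}
    (h : centralizer ({u * x * u⁻¹} : Set G) = centralizer ({x} : Set G)) :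
    u ∈ normalizer ((centralizer ({x} : Set G) : Subgroup G) : Set G) := by
  rw [H2.mem_normalizer_iff_conj_smul, ← H9.centralizer_conj, h]

omit [Finite G] in
theorem conj_not_mem_center {x : G} (hx : x ∉ center G) (u : G) : u * x * u⁻¹ ∉ center G :=
  fun h => hx (by simpa [mul_assoc] using Normal.conj_mem inferInstance _ h u⁻¹)

/-- A normal subgroup with two `G`-class sizes containing a non-central Sylow subgroup of `G` is
nilpotent. -/
theorem isNilpotent_of_two_sizes {r : ℕ} [hr : Fact r.Prime] (R : Sylow r G)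
    (hR : ¬ (R : Subgroup G) ≤ center G) (N : Subgroup G) [hN : N.Normal]
    (hRN : (R : Subgroup G) ≤ N) (m : ℕ) (h : ∀ x ∈ N, (centralizer ({x} : Set G)).index = 1 ∨
      (centralizer ({x} : Set G)).index = m) : Group.IsNilpotent N := by
  have hm : ∀ x ∈ N, x ∉ center G → (centralizer ({x} : Set G)).index = m := fun x hx hc =>
    (h x hx).resolve_left fun h' => hc (H9.index_centralizer_eq_one_iff.1 h')
  have K1 : ∀ a ∈ N, ∀ b ∈ N, a ∉ center G → Commute a b → (orderOf a).Coprime (orderOf b) →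
      centralizer ({a} : Set G) ≤ centralizer ({b} : Set G) := by
    intro a ha b hb hac hab hcop
    have h1 := H9.centralizer_mul_of_coprime hab hcop
    have h2 : a * b ∉ center G := fun h' => hac
      (zpowers_le.2 h' (H9.mem_zpowers_mul_of_coprime hab hcop))
    have h3 := eq_of_le_of_index_le (H := centralizer ({a * b} : Set G))
      (K := centralizer ({a} : Set G)) (h1 ▸ inf_le_left)
      (by rw [hm _ (N.mul_mem ha hb) h2, hm a ha hac])
    rw [← h3, h1]
    exact inf_le_right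
  have K2 : ∀ s : ℕ, s.Prime → ¬ s ∣ m → ∀ (u : G) (k : ℕ), u ∈ N → orderOf u = s ^ k →
      ∀ y ∈ N, Commute y u := by
    intro s hs hsm u k hu hk
    haveI := Fact.mk hs
    refine H7.commute_of_not_dvd_cs_normal N (fun y hy hd => ?_) hu hk
    rcases h y hy with h1 | h1
    · exact hs.one_lt.ne' (Nat.dvd_one.1 (h1 ▸ hd))
    · exact hsm (h1 ▸ hd)
  obtain ⟨x₀, hx₀, hx₀c⟩ := SetLike.not_le_iff_exists.1 hR
  obtain ⟨i₀, hi₀⟩ := H8.exists_orderOf_eq_pow_of_mem R.isPGroup' hx₀
  have main : ∀ (q j : ℕ) (y : G), q.Prime → q ≠ r → y ∈ N → orderOf y = q ^ j →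
      ∀ a ∈ N, Commute a y := by
    intro q j y hq hqr hy hj a ha
    haveI := Fact.mk hq
    have hcop : ∀ i, (q ^ j).Coprime (r ^ i) := fun i =>
      ((Nat.coprime_primes hq hr.out).2 hqr).pow _ _
    by_cases hyc : y ∈ center G
    · exact mem_center_iff.1 hyc a
    by_cases hrm : r ∣ m
    swap
    · have h1 := K2 r hr.out hrm x₀ i₀ (hRN hx₀) hi₀
      exact mem_centralizer_singleton_iff.1 (K1 x₀ (hRN hx₀) y hy hx₀c (h1 y hy).symm
        (by rw [hi₀, hj]; exact (hcop _).symm) (mem_centralizer_singleton_iff.2 (h1 a ha)))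
    by_cases hqm : q ∣ m
    swap
    · exact K2 q hq hqm y j hy hj a ha
    exfalso
    set D := centralizer ({y} : Set G) with hD
    have hDm : D.index = m := hm y hy hyc
    have hrN : ∀ X : Subgroup G, IsPGroup r X → X ≤ N := fun X hX =>
      le_of_isPGroup_of_not_dvd_index hX fun h' => R.not_dvd_index (h'.trans (index_dvd_of_le hRN))
    obtain ⟨S, hSD, hS, hSi⟩ := H1.exists_sylow_le r D
    obtain ⟨x, hxS, hxc⟩ : ∃ x ∈ S, x ∉ center G := by
      by_contra hcon
      push Not at hcon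
      have h1 : S ≤ centralizer ({x₀} : Set G) := fun z hz => center_le_centralizer _ (hcon z hz)
      have h2 : S.relIndex (centralizer ({x₀} : Set G)) = S.relIndex D := by
        have e1 := relIndex_mul_index h1
        have e2 := relIndex_mul_index hSD
        rw [hm x₀ (hRN hx₀) hx₀c, ← e2, hDm] at e1
        exact Nat.eq_of_mul_eq_mul_right (hDm ▸ Nat.pos_of_ne_zero index_ne_zero_of_finite) e1
      exact hx₀c (hcon x₀ (H1.le_sylow_of_le_normalizer h1 hS (h2 ▸ hSi)
        (zpowers_le.2 (mem_centralizer_singleton_iff.2 rfl)) (H8.isPGroup_zpowers_of_orderOf hi₀)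
        (fun z hz => center_le_normalizer _ (hcon z hz)) (mem_zpowers x₀)))
    obtain ⟨i, hi⟩ := H8.exists_orderOf_eq_pow_of_mem hS hxS
    have hxN : x ∈ N := hrN S hS hxS
    have hxD : centralizer ({x} : Set G) = D := (eq_of_le_of_index_le (K1 y hy x hxN hyc
      (mem_centralizer_singleton_iff.1 (hSD hxS)).symm (by rw [hi, hj]; exact hcop _))
      (by rw [hDm, hm x hxN hxc])).symm
    have hA : ∀ a ∈ D ⊓ N, a ∉ center G → centralizer ({a} : Set G) = D := by
      intro a ha hac
      refine (eq_of_le_of_index_le ?_ (by rw [hDm, hm a ha.2 hac])).symm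
      obtain ⟨b, c, hb, hc, rfl, hbc, ⟨k, hk⟩, hc'⟩ := H8.exists_pPart_pPrimePart hr.out a
      have hb' := zpowers_le.2 ha hb
      have hc'' := zpowers_le.2 ha hc
      rw [H9.centralizer_mul_of_coprime hbc (by rw [hk]; exact hc'.symm.pow_left k)]
      refine le_inf (K1 y hy b hb'.2 hyc (mem_centralizer_singleton_iff.1 hb'.1).symm
        (by rw [hk, hj]; exact hcop _)) ?_
      rw [← hxD]
      refine K1 x hxN c hc''.2 hxc ?_ (by rw [hi]; exact hc'.symm.pow_left i)
      have := hc''.1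
      rw [← hxD] at this
      exact (mem_centralizer_singleton_iff.1 this).symm
    have hyD : y ∈ D := mem_centralizer_singleton_iff.2 rfl
    obtain ⟨u, k, hu1, hu2, hu3⟩ := exists_primePow_mem_normalizer hSD hS hSi (hDm ▸ hrm)
    obtain ⟨T, hyT, hTD, hT, hTi⟩ := H1.exists_sylow_of_le (zpowers_le.2 hyD)
      (H8.isPGroup_zpowers_of_orderOf hj)
    obtain ⟨v, l, hv1, hv2, hv3⟩ := exists_primePow_mem_normalizer hTD hT hTi (hDm ▸ hqm)
    refine camina_false' (Ne.symm hqr) inf_le_left
      (H1.le_normalizer_inf le_rfl le_normalizer_of_normal) hA hi hj ⟨hSD hxS, hxN⟩ ⟨hyD, hy⟩ hxc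
      hyc hu1 hv1 ?_ ?_ hu3 hv3
    · rw [← hxD]
      refine mem_normalizer_of_centralizer_conj ?_
      rw [hxD]
      exact hA _ ⟨hSD ((mem_normalizer_iff.1 hu2 x).1 hxS), hN.conj_mem x hxN u⟩
        (conj_not_mem_center hxc u)
    · exact mem_normalizer_of_centralizer_conj (hA _
        ⟨hTD ((mem_normalizer_iff.1 hv2 y).1 (hyT (mem_zpowers y))), hN.conj_mem y hy v⟩
        (conj_not_mem_center hyc v))
  refine isNilpotent_of_forall_commute fun p q i j a b hp hq hpq ha hb => Subtype.ext ?_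
  rw [← orderOf_coe] at ha hb
  by_cases hqr : q = r
  · exact (main p i a hp (hqr ▸ hpq) a.2 ha b b.2).symm
  · exact main q j b hq hqr b.2 hb a a.2

end Cfsg.Agent.H6
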